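import Cfsg.Agent.SB.D4.Tri_m3
import Cfsg.Agent.SB.Fr.Main_m3
import Cfsg.Agent.TAB.F22.FxB_m3
import Cfsg.Agent.SB.SporB.Geo
import Cfsg.Agent.SB.SporF.RowCo3
import Cfsg.Agent.McLType.Gens
import Cfsg.Agent.S2073
import Cfsg.Agent.HN.AutHS
import Cfsg.Agent.S2072
import Cfsg.Agent.J2.HundredGens
import Cfsg.Agent.S1619
import Cfsg.Agent.S2066
import Cfsg.Agent.FastGrp
import Cfsg.Agent.Prune
set_option linter.all false

section
prune_inst 0x7ffcfff8abb8bbffdfff7e7ff7dfcffc79b13fffe6dff9437fe86bff5bff6b0ccbc5fbaf0fea90fe5ed7e01410f87b43fdffeeffe36bdc7ffffd5ff41ffbffcffdf7b50951fc9cb40fbc2fff03f0778e7f3fffffffffffffffffffffffffffaeffbfffffffff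

-- part: SB/Mon/F24/Chk2
section
prune_inst 0x10000000000000
set_option linter.all false
open scoped Cfsg.Agent.FastGrp
/-!
# S5765, the row `Fi24'`: conjugacy certificates, I (helper96; generated)
-/

set_option autoImplicit false
set_option maxRecDepth 100000

namespace Cfsg.Agent.SB.F24.Wd

section FastNet
open Cfsg.Agent.Lib.PermNet Cfsg.Agent.Lib.PermNetPt

/-- the stages of a network applied to a set of points, the last stage first -/
private noncomputable def fnApp (L : Net) (P : ℕ) : ℕ :=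
  Net.rec (motive := fun _ => ℕ) P (fun M d _ ih => stage M d ih) L

private theorem fnApp_bit {N : ℕ} {L : Net} (h : L.ok N = true) (P p : ℕ) :
    (fnApp L P).testBit p = P.testBit (invPt L p) := by
  induction L generalizing p with
  | nil => rfl
  | cons M d L ih =>
    obtain ⟨h1, _, h3⟩ := Net.ok_cons h
    show (stage M d (fnApp L P)).testBit p = P.testBit (stepK M d (invPt L) p)
    rw [testBit_stage h1, stagePerm_apply h1, ih h3, stepK_eq]

private theorem fnInv_lt {N : ℕ} {L : Net} (h : L.ok N = true) {p : ℕ} (hp : p < N) : invPt L p < N := by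
  induction L generalizing p with
  | nil => exact hp
  | cons M d L ih =>
    obtain ⟨_, h2, h3⟩ := Net.ok_cons h
    show stepK M d (invPt L) p < N
    rw [stepK_eq]
    exact ih h3 (tau_lt h2 hp)

/-- `c 0`, …, `c (n - 1)` side by side in fields of `W` bits -/
private noncomputable def fnSt (W : ℕ) (c : ℕ → ℕ) (n : ℕ) : ℕ :=
  Nat.rec (motive := fun _ => ℕ) 0 (fun b ih => Nat.lor ih (Nat.shiftLeft (c b) (Nat.mul W b))) n

private theorem fnSt_lt {W : ℕ} {c : ℕ → ℕ} {e : ℕ} (he : e ≤ W) (hc : ∀ b, c b < 2 ^ e) (n i : ℕ)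
    (h : (fnSt W c n).testBit i = true) : i + W < W * n + e := by
  induction n with
  | zero => exact absurd h (by show ¬ (Nat.testBit 0 i = true); simp)
  | succ n ih =>
    have h' : ((fnSt W c n) ||| (c n <<< (W * n))).testBit i = true := h
    rw [Nat.testBit_or, Bool.or_eq_true, Nat.testBit_shiftLeft, Bool.and_eq_true, decide_eq_true_eq] at h'
    rw [Nat.mul_succ]
    rcases h' with h' | ⟨h1, h2⟩
    · have := ih h'; omega
    · have : i - W * n < e := by
        by_contra hh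
        rw [Nat.testBit_lt_two_pow (lt_of_lt_of_le (hc n) (Nat.pow_le_pow_right (by decide) (by omega)))] at h2
        exact absurd h2 (by simp)
      omega

private theorem fnSt_gather {W m : ℕ} (hW : 2 ^ W ≡ 2 [MOD m]) {c : ℕ → ℕ} (hc : ∀ b, c b < 2 ^ W) {r : ℕ} (hr : r < W)
    (v n : ℕ) (h : ∀ b < n, (c b).testBit r = v.testBit b) :
    ((fnSt W c n >>> r) &&& fnSt W (fun _ => 1) n) ≡ v % 2 ^ n [MOD m] := by
  induction n with
  | zero => show (0 >>> r &&& 0) ≡ _ [MOD m]; simp [Nat.mod_one]; rfl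
  | succ n ih =>
    have hS := fnSt_lt le_rfl hc n
    have hR := fnSt_lt (W := W) (c := fun _ => 1) (e := 1) (by omega) (fun _ => by decide) n
    have hG : (fnSt W c n >>> r) &&& fnSt W (fun _ => 1) n < 2 ^ (W * n) := by
      apply Nat.lt_pow_two_of_testBit
      intro i hi
      rw [Nat.testBit_and]
      cases hb : (fnSt W (fun _ => 1) n).testBit i
      · simp
      · have := hR i hb; omega
    have e : (fnSt W c (n + 1) >>> r) &&& fnSt W (fun _ => 1) (n + 1) =
        2 ^ (W * n) * (v.testBit n).toNat + ((fnSt W c n >>> r) &&& fnSt W (fun _ => 1) n) := by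
      rw [Nat.two_pow_add_eq_or_of_lt hG]
      show ((fnSt W c n ||| (c n <<< (W * n))) >>> r) &&& (fnSt W (fun _ => 1) n ||| (1 <<< (W * n))) = _
      apply Nat.eq_of_testBit_eq
      intro i
      rw [Nat.testBit_and, Nat.testBit_shiftRight, Nat.testBit_or, Nat.testBit_or, Nat.testBit_or, Nat.testBit_and,
        Nat.testBit_shiftRight, Nat.testBit_shiftLeft, Nat.one_shiftLeft, Nat.testBit_two_pow, Nat.testBit_two_pow_mul,
        Nat.testBit_bool_toNat]
      by_cases hi : W * n = i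
      · have h1 : (fnSt W c n).testBit (r + i) = false := by
          cases hb : (fnSt W c n).testBit (r + i)
          · rfl
          · have := hS _ hb; omega
        rw [h1, show r + i - W * n = r by omega, h n (Nat.lt_succ_self n)]
        simp [← hi]
      · cases hb : (fnSt W (fun _ => 1) n).testBit i
        · have : ¬ (i ≥ W * n ∧ i - W * n = 0) := by omega
          simp [hi]; omega
        · have := hR i hb
          have h1 : ¬ (r + i ≥ W * n) := by omega
          have h2 : ¬ (i ≥ W * n) := by omega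
          simp [h1, h2]
    rw [e, Nat.mod_pow_succ, Nat.toNat_testBit, add_comm, pow_mul]
    exact (ih fun b hb => h b (by omega)).add ((hW.pow n).mul_right _)

/-- bit plane `b` of the table of the inverse permutation of `L` -/
private noncomputable def fnPl (k N : ℕ) (L : Net) (b : ℕ) : ℕ :=
  fnApp L (Nat.land (plane k b) (Nat.sub (Nat.shiftLeft (nat_lit 1) N) (nat_lit 1)))

/-- the pieces `j` (1024 points) of all planes -/
private noncomputable def fnTab (k N : ℕ) (L : Net) (j : ℕ) : ℕ :=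
  fnSt (nat_lit 1024) (fun b => Nat.land (Nat.shiftRight (fnPl k N L b) (Nat.mul (nat_lit 1024) j))
    (Nat.sub (Nat.shiftLeft (nat_lit 1) (nat_lit 1024)) (nat_lit 1))) k

private noncomputable def fnLook (k N : ℕ) (L : Net) (p : ℕ) : ℕ :=
  force (Nat.shiftRight p (nat_lit 10)) fun j =>
    Nat.mod (Nat.land (Nat.shiftRight (fnTab k N L j) (Nat.land p (nat_lit 1023))) (fnSt (nat_lit 1024) (fun _ => 1) k))
      (nat_lit 2147483647)

private theorem fnLook_eq {k N : ℕ} (hk : k ≤ 30) (hN : N ≤ 2 ^ k) {L : Net} (h : L.ok N = true) {p : ℕ} (hp : p < N) :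
    fnLook k N L p = invPt L p := by
  have hv := fnInv_lt h hp
  have hr : p &&& (2 ^ 10 - 1) = p % 2 ^ 10 := Nat.and_two_pow_sub_one_eq_mod p 10
  have hj : p >>> 10 = p / 2 ^ 10 := Nat.shiftRight_eq_div_pow p 10
  have key : ∀ W : ℕ, W = 1024 → 2 ^ W ≡ 2 [MOD 2147483647] →
      ((fnSt W (fun b => (fnPl k N L b >>> (W * (p >>> 10))) &&& (1 <<< W - 1)) k >>> (p &&& (2 ^ 10 - 1))) &&&
        fnSt W (fun _ => 1) k) % 2147483647 = invPt L p := by
    intro W e hW
    have h1 := fnSt_gather hW (c := fun b => (fnPl k N L b >>> (W * (p >>> 10))) &&& (1 <<< W - 1))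
      (fun b => by rw [Nat.one_shiftLeft, Nat.and_two_pow_sub_one_eq_mod]; exact Nat.mod_lt _ (Nat.two_pow_pos W))
      (r := p &&& (2 ^ 10 - 1)) (by omega) (invPt L p) k (fun b hb => by
        rw [Nat.one_shiftLeft, Nat.testBit_and, Nat.testBit_two_pow_sub_one, Nat.testBit_shiftRight,
          show W * (p >>> 10) + (p &&& (2 ^ 10 - 1)) = p by rw [e]; omega, decide_eq_true (by omega), Bool.and_true]
        show (fnApp L (plane k b &&& (1 <<< N - 1))).testBit p = _
        rw [fnApp_bit h, Nat.one_shiftLeft, Nat.testBit_and, Nat.testBit_two_pow_sub_one, decide_eq_true hv,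
          Bool.and_true, testBit_plane k b _ (by omega) hb])
    have h2 : 2 ^ k ≤ 2 ^ 30 := Nat.pow_le_pow_right (by decide) hk
    rw [Nat.mod_eq_of_lt (show invPt L p < 2 ^ k by omega)] at h1
    rw [show _ % 2147483647 = _ from h1, Nat.mod_eq_of_lt (by omega)]
  delta fnLook
  rw [force_eq]
  exact key (nat_lit 1024) rfl (by decide +kernel)

private noncomputable def fnEv (k N : ℕ) (w : List Net) : ℕ → ℕ :=
  List.rec (motive := fun _ => ℕ → ℕ) (fun p => p) (fun L _ ih p => force (fnLook k N L p) ih) w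

private theorem fnEv_eq {k N : ℕ} (hk : k ≤ 30) (hN : N ≤ 2 ^ k) {w : List Net} (h : WOk N w) {p : ℕ} (hp : p < N) :
    fnEv k N w p = winv w p := by
  induction w generalizing p with
  | nil => rfl
  | cons L w ih =>
    show force (fnLook k N L p) (fnEv k N w) = force (invPt L p) (winv w)
    rw [force_eq, force_eq, fnLook_eq hk hN (h L List.mem_cons_self) hp]
    exact ih (fun K hK => h K (List.mem_cons_of_mem _ hK)) (fnInv_lt (h L List.mem_cons_self) hp)

/-- `winv` by table look-up -/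
private noncomputable def fnInv (k N : ℕ) (w : List Net) (p : ℕ) : ℕ :=
  force p fun q => Bool.rec (winv w q) (fnEv k N w q) (Nat.ble (Nat.succ q) N)

private theorem fnInv_eq {k N : ℕ} (hk : k ≤ 30) (hN : N ≤ 2 ^ k) {w : List Net} (h : WOk N w) (p : ℕ) :
    winv w p = fnInv k N w p := by
  delta fnInv
  rw [force_eq]
  cases hb : Nat.ble (Nat.succ p) N
  · rfl
  · exact (fnEv_eq hk hN h (Nat.le_of_ble_eq_true hb)).symm

private noncomputable def fnChk (w : List Net) (q p : ℕ) : Bool :=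
  Nat.beq (fnInv (nat_lit 19) (nat_lit 327680) w p) q

open Cfsg.Agent.Fischer.Fi24RepDef in
private theorem fn_chk (l : List Cfsg.Spor.Fi24.Gen) (b : Bool) (q p : ℕ) :
    chkPt (nw l b) q p = fnChk (nw l b) q p := by
  delta fnChk
  rw [← fnInv_eq (by decide) (by decide) (wok l b)]; rfl

private noncomputable def fnEq (u v : List Net) (l : List ℕ) : Bool :=
  List.rec (motive := fun _ => Bool) true (fun p _ ih => Bool.rec false ih
    (Nat.beq (fnInv (nat_lit 19) (nat_lit 327680) u p) (fnInv (nat_lit 19) (nat_lit 327680) v p))) l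

open Cfsg.Agent.Fischer.Fi24RepDef Cfsg.Agent.LThreeFi24.FiveConj in
private noncomputable def fnEqB (u v : List Cfsg.Spor.Fi24.Gen) : Bool := fnEq (nw u false) (nw v false) pl12

open Cfsg.Agent.Fischer.Fi24RepDef Cfsg.Agent.LThreeFi24.FiveConj in
private theorem fn_eqB (u v : List Cfsg.Spor.Fi24.Gen) : eqB u v = fnEqB u v := by
  show eqL (nw u false) (nw v false) pl12 = fnEq (nw u false) (nw v false) pl12
  generalize pl12 = l
  induction l with
  | nil => rfl
  | cons p l ih =>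
    show and (Nat.beq (winv (nw u false) p) (winv (nw v false) p)) (eqL (nw u false) (nw v false) l) =
      (Bool.rec false (fnEq (nw u false) (nw v false) l) (Nat.beq (fnInv (nat_lit 19) (nat_lit 327680) (nw u false) p)
        (fnInv (nat_lit 19) (nat_lit 327680) (nw v false) p)) : Bool)
    rw [ih, ← fnInv_eq (by decide) (by decide) (wok u false), ← fnInv_eq (by decide) (by decide) (wok v false)]
    cases Nat.beq (winv (nw u false) p) (winv (nw v false) p) <;> rfl

end FastNet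

open Cfsg.Agent.Lib.PermNetPt Cfsg.Agent.Fischer.Fi24RepDef
open Cfsg.Agent.Fischer.Fi24Spider (gword)
open Cfsg.Agent.Lib.PackMat (allBelow dg)
open Cfsg.Agent.H834.U5 (gw5 u917 u11793 u11888)
open Cfsg.Agent.LThreeFi24.TwinK (wx3)
open Cfsg.Agent.LThreeFi24.FiveConj (eqB)
open Cfsg.Agent.H842.FrameK (x5w)
open Cfsg.Agent.SB.F24.Md
open Cfsg.Spor.Fi24 (Gen)

def XW : Fin 5 → List Gen := ![[.l, .k], [.l, .k, .b, .c], wx3, [.l, .k, .b, .c, .e, .f], x5w]

def ur : List Gen := [.h, .i, .d, .h, .c, .d, .b, .c, .a, .b, .k, .a, .l, .k, .h, .d, .e, .f, .g, .c, .d, .e, .f, .b, .c, .d, .e, .a, .b, .c, .d, .h,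
  .j, .g, .f, .e, .d, .c, .b, .a]

def rw : List Gen := ur ++ XW 0 ++ ur.reverse

def crz2 : List Gen := [.h, .d, .e, .c, .d, .h, .f, .e, .d, .c, .a, .b, .k, .a, .l, .k, .f, .e, .d, .h, .f, .c, .d, .e, .b, .c, .d, .h, .i, .h, .g,
  .f, .c, .d, .e, .b, .c, .d, .h, .a, .b, .c, .d, .e, .f, .g, .j, .c, .d, .h, .b, .c, .d, .e, .f, .g, .d, .h, .c, .d, .e, .b, .c, .d, .h, .i, .e, .b,
  .c, .d, .h, .f, .e, .d, .c, .b, .a, .e, .f, .h, .d, .e, .c, .d, .h, .c, .b, .l]

def cr3 : List Gen := [.f, .e, .d, .h, .i, .h, .e, .f, .d, .e, .b, .c, .d, .h, .j, .g, .f, .e, .d, .c, .b, .a, .k, .e, .d, .h, .i, .d, .e, .c, .d, .h,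
  .f, .g, .e, .f, .b, .c, .d, .e, .a, .b, .c, .d, .h, .i, .e, .f, .c, .d, .e, .b, .c, .d, .h, .a, .b, .c, .d, .e, .f, .g, .j, .d, .e, .b, .c, .d, .h,
  .i, .e, .b, .c, .d, .h, .a, .b, .c, .d, .e, .f, .g, .h, .i, .c, .d, .h, .b, .c, .d, .e, .a, .b, .c, .d, .h, .i, .d, .h, .e, .d, .c, .b, .a, .e, .c,
  .d, .h, .b, .c, .d, .e, .f, .h, .b, .c, .d, .e, .b, .c, .d, .c]

def ctz1 : List Gen := [.h, .i, .g, .f, .e, .d, .h, .d, .e, .f, .c, .d, .e, .a, .b, .c, .d, .h, .i, .e, .f, .d, .e, .b, .c, .d, .h, .j, .g, .f, .e,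
  .d, .c, .b, .a, .l, .k, .i, .h, .g, .f, .d, .e, .c, .d, .h, .i, .e, .f, .c, .d, .e, .b, .c, .d, .h, .a, .b, .c, .d, .e, .f, .g, .j, .g, .f, .e, .c,
  .d, .h, .i, .e, .f, .d, .e, .c, .d, .h, .b, .c, .d, .e, .f, .g, .d, .h, .i, .f, .e, .d, .h, .d, .e, .f, .c, .d, .e, .b, .c, .d, .h, .i, .e, .c, .d,
  .h, .f, .e, .d, .c, .b, .a, .e, .f, .h, .c, .d, .e, .c, .d, .c]

def ctz2 : List Gen := [.d, .h, .i, .b, .c, .d, .h, .f, .g, .e, .f, .d, .e, .a, .b, .c, .d, .h, .i, .g, .f, .c, .d, .e, .b, .c, .d, .h, .j, .g, .f,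
  .e, .d, .c, .b, .a, .k, .j, .g, .f, .e, .b, .c, .d, .h, .i, .h, .e, .f, .d, .e, .c, .d, .h, .a, .b, .c, .d, .e, .f, .g, .j, .i, .f, .e, .d, .h, .c,
  .d, .e, .b, .c, .d, .h, .i, .g, .f, .d, .e, .b, .c, .d, .h, .a, .b, .c, .d, .e, .f, .g, .d, .h, .i, .e, .f, .d, .e, .c, .d, .h, .c, .d, .e, .f, .b,
  .c, .d, .e, .a, .b, .c, .d, .h, .i, .a, .f, .e, .d, .h, .b, .c, .d, .e, .c, .d, .c, .b]

def ct2 : List Gen := [.c, .d, .h, .i, .b, .c, .d, .h, .e, .f, .d, .e, .c, .d, .h, .i, .h, .d, .e, .b, .c, .d, .h, .j, .g, .f, .e, .d, .c, .b, .a, .k,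
  .g, .f, .e, .a, .b, .c, .d, .h, .i, .j, .g, .f, .e, .b, .c, .d, .h, .a, .b, .c, .d, .e, .f, .g, .j, .g, .d, .e, .f, .c, .d, .e, .b, .c, .d, .h, .i,
  .g, .e, .f, .d, .e, .c, .d, .h, .b, .c, .d, .e, .f, .g, .d, .e, .c, .d, .h, .i, .h, .f, .d, .e, .c, .d, .h, .d, .e, .f, .b, .c, .d, .e, .a, .b, .c,
  .d, .h, .i, .b, .c, .d, .h, .f, .e, .d, .c, .b, .a, .d, .h, .c, .d, .e, .f, .h, .d, .e]

def cv0 : List Gen := [.i, .f, .e, .d, .h, .j, .g, .f, .c, .d, .e, .b, .c, .d, .h, .i, .f, .e, .c, .d, .h, .g, .f, .e, .d, .c, .b, .a, .k, .d, .h, .i,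
  .b, .c, .d, .h, .e, .f, .d, .e, .b, .c, .d, .h, .i, .e, .b, .c, .d, .h, .a, .b, .c, .d, .e, .f, .g, .j, .e, .d, .h, .g, .e, .f, .c, .d, .e, .b, .c,
  .d, .h, .i, .h, .f, .d, .e, .b, .c, .d, .h, .a, .b, .c, .d, .e, .f, .g, .i, .h, .d, .e, .f, .c, .d, .e, .a, .b, .c, .d, .h, .i, .f, .e, .d, .c, .b,
  .a, .c, .d, .e, .f, .h, .e, .d, .c, .b, .l]

def cvA : List Gen := [.a, .b, .c, .d, .e, .f, .g, .j, .h, .d, .e, .f, .g, .i, .h, .d, .c, .b, .a, .e, .d, .c, .b, .f, .h, .d, .c, .e, .d, .h, .k, .l,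
  .a, .k]

def cvD : List Gen := [.d, .h, .i, .d, .e, .k, .a, .b, .c, .d, .h, .f, .e, .d, .c, .b, .a, .k, .d, .h, .e, .f, .g, .d, .e, .f, .c, .d, .e, .a, .b, .c,
  .d, .h, .i, .c, .d, .e, .b, .c, .d, .h, .a, .b, .c, .d, .e, .f, .g, .j, .h, .g, .d, .e, .f, .c, .d, .e, .b, .c, .d, .h, .i, .g, .f, .c, .d, .e, .b,
  .c, .d, .h, .a, .b, .c, .d, .e, .f, .g, .h, .i, .e, .d, .h, .c, .d, .e, .a, .b, .c, .d, .h, .i, .b, .c, .d, .h, .e, .d, .c, .b, .a, .c, .d, .h, .b,
  .c, .d, .e, .f, .h, .d, .e, .c, .d, .h, .d, .c, .l]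

private theorem fn_all :
    (fnEqB (gew Wr) rw = true) ∧
    (fnEqB (crz2 ++ (rw ++ wx3.reverse) ++ crz2.reverse) (XW 1).reverse = true) ∧
    (fnChk (nw ((rw ++ qw [3]) ++ (rw ++ qw [3]) ++ (rw ++ qw [3])) false) 2 2 = false) ∧
    (fnChk (nw ((rw ++ qw [1, 3]) ++ (rw ++ qw [1, 3]) ++ (rw ++ qw [1, 3])) false) 2 2 = false) ∧
    (fnEqB (cr3 ++ (rw ++ qw [1, 3, 6]) ++ cr3.reverse) (XW 3).reverse = true) ∧
    (fnChk (nw (qw [2] ++ qw [1, 3, 6] ++ (qw [2]).reverse ++ (qw [1, 3, 6]).reverse) false) 2 2 = false) ∧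
    (fnEqB (ctz1 ++ (gew Wt ++ wx3) ++ ctz1.reverse) (XW 1) = true) ∧
    (fnEqB (ctz2 ++ (gew Wt ++ wx3.reverse) ++ ctz2.reverse) (XW 3).reverse = true) ∧
    (fnChk (nw ((gew Wt ++ qw [2]) ++ (gew Wt ++ qw [2]) ++ (gew Wt ++ qw [2])) false) 2 2 = false) ∧
    (fnEqB (ct2 ++ (gew Wt ++ qw [5]) ++ ct2.reverse) (XW 3) = true) ∧
    (fnChk (nw (qw [1, 14, 19] ++ qw [5] ++ (qw [1, 14, 19]).reverse ++ (qw [5]).reverse) false) 2 2 = false) ∧
    (fnChk (nw ((gew Wt ++ qw [2, 5]) ++ (gew Wt ++ qw [2, 5]) ++ (gew Wt ++ qw [2, 5])) false) 2 2 = false) ∧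
    (fnEqB (cv0 ++ (qw [5, 16, 18]) ++ cv0.reverse) (XW 2) = true) ∧
    (fnEqB (cvA ++ (qw [2]) ++ cvA.reverse) (XW 0) = true) ∧
    (fnEqB (cvD ++ (qw [0, 3, 5]) ++ cvD.reverse) (XW 3).reverse = true) := by
  decide +kernel

theorem eq_r : eqB (gew Wr) rw = true :=
  (fn_eqB _ _).trans fn_all.1

theorem cjrz2 : eqB (crz2 ++ (rw ++ wx3.reverse) ++ crz2.reverse) (XW 1).reverse = true :=
  (fn_eqB _ _).trans fn_all.2.1

theorem nir1 : chkPt (nw ((rw ++ qw [3]) ++ (rw ++ qw [3]) ++ (rw ++ qw [3])) false) 2 2 = false :=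
  (fn_chk _ _ _ _).trans fn_all.2.2.1

theorem nir2 : chkPt (nw ((rw ++ qw [1, 3]) ++ (rw ++ qw [1, 3]) ++ (rw ++ qw [1, 3])) false) 2 2 = false :=
  (fn_chk _ _ _ _).trans fn_all.2.2.2.1

theorem cjr3 : eqB (cr3 ++ (rw ++ qw [1, 3, 6]) ++ cr3.reverse) (XW 3).reverse = true :=
  (fn_eqB _ _).trans fn_all.2.2.2.2.1

theorem ncr3 : chkPt (nw (qw [2] ++ qw [1, 3, 6] ++ (qw [2]).reverse ++ (qw [1, 3, 6]).reverse) false) 2 2 = false :=
  (fn_chk _ _ _ _).trans fn_all.2.2.2.2.2.1

theorem cjtz1 : eqB (ctz1 ++ (gew Wt ++ wx3) ++ ctz1.reverse) (XW 1) = true :=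
  (fn_eqB _ _).trans fn_all.2.2.2.2.2.2.1

theorem cjtz2 : eqB (ctz2 ++ (gew Wt ++ wx3.reverse) ++ ctz2.reverse) (XW 3).reverse = true :=
  (fn_eqB _ _).trans fn_all.2.2.2.2.2.2.2.1

theorem nit1 : chkPt (nw ((gew Wt ++ qw [2]) ++ (gew Wt ++ qw [2]) ++ (gew Wt ++ qw [2])) false) 2 2 = false :=
  (fn_chk _ _ _ _).trans fn_all.2.2.2.2.2.2.2.2.1

theorem cjt2 : eqB (ct2 ++ (gew Wt ++ qw [5]) ++ ct2.reverse) (XW 3) = true :=
  (fn_eqB _ _).trans fn_all.2.2.2.2.2.2.2.2.2.1

theorem nct2 : chkPt (nw (qw [1, 14, 19] ++ qw [5] ++ (qw [1, 14, 19]).reverse ++ (qw [5]).reverse) false) 2 2 = false :=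
  (fn_chk _ _ _ _).trans fn_all.2.2.2.2.2.2.2.2.2.2.1

theorem nit3 : chkPt (nw ((gew Wt ++ qw [2, 5]) ++ (gew Wt ++ qw [2, 5]) ++ (gew Wt ++ qw [2, 5])) false) 2 2 = false :=
  (fn_chk _ _ _ _).trans fn_all.2.2.2.2.2.2.2.2.2.2.2.1

theorem cjv0 : eqB (cv0 ++ (qw [5, 16, 18]) ++ cv0.reverse) (XW 2) = true :=
  (fn_eqB _ _).trans fn_all.2.2.2.2.2.2.2.2.2.2.2.2.1

theorem cjvA : eqB (cvA ++ (qw [2]) ++ cvA.reverse) (XW 0) = true :=
  (fn_eqB _ _).trans fn_all.2.2.2.2.2.2.2.2.2.2.2.2.2.1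

theorem cjvD : eqB (cvD ++ (qw [0, 3, 5]) ++ cvD.reverse) (XW 3).reverse = true :=
  (fn_eqB _ _).trans fn_all.2.2.2.2.2.2.2.2.2.2.2.2.2.2

end Cfsg.Agent.SB.F24.Wd
end

-- part: SB/D4/RA1
section
prune_inst 0x30007104440000000018000002001860a0000002004880002000020001480040a00008010020001200b00c4020000000001000000000000000000000000000000000000000000100200000000000000000000000000000000000000000000000000000000
set_option linter.all false
open scoped Cfsg.Agent.FastGrp

/-!
# S5765, `PΩ₈⁺(q)`, case `r = 2`: octonion lemmas (helper30)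

`Eg a e` is the `e`-eigenspace of `a`.  `EQ`, `Z1`, `Z2`, `L1`, `L3` of `notes/SB/d4r2.md`.
-/

set_option autoImplicit false
set_option linter.unusedSectionVars false
set_option maxHeartbeats 200000

namespace Cfsg.Agent.SB.D4

open QuadraticMap Module Cfsg.Agent.LieClassical.OrthCore Cfsg.Agent.LieClassical.OrthTrans
  Cfsg.Agent.ClassicalGeometry.OrthSemi Cfsg.Agent.ClassicalGeometry.TrialityOct
  Cfsg.Agent.ClassicalGeometry.Triality Cfsg.Agent.H989.OutOrth.Basic

variable {F : Type} [Field F] [Fintype F]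

/-- eigenspaces -/
def Eg (a : E8 F) (e : F) : Submodule F (V8 F) := LinearMap.ker (a.1.toLinearMap - e • LinearMap.id)

theorem mem_Eg {a : E8 F} {e : F} {v : V8 F} : v ∈ Eg a e ↔ a.1 v = e • v := by
  simp only [Eg, LinearMap.mem_ker, LinearMap.sub_apply, sub_eq_zero]
  rfl

theorem e8_mul (a b : E8 F) (v : V8 F) : (a * b).1 v = a.1 (b.1 v) := rfl

theorem e8_invol {a : E8 F} (ha : a * a = 1) (v : V8 F) : a.1 (a.1 v) = v := by
  rw [← e8_mul, ha]; rfl

theorem e8_comm {a b : E8 F} (h : a * b = b * a) (v : V8 F) : a.1 (b.1 v) = b.1 (a.1 v) := by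
  rw [← e8_mul, h]; rfl

theorem e8_ext {a b : E8 F} (h : ∀ v, a.1 v = b.1 v) : a = b := Subtype.ext (LinearEquiv.ext h)

theorem sq_cases {e : F} (he : e * e = 1) : e = 1 ∨ e = -1 := mul_self_eq_one_iff.1 he

theorem eig_sq {a : E8 F} {v : V8 F} {e : F} (hv : Q8 F v ≠ 0) (h : a.1 v = e • v) : e * e = 1 := by
  have h1 := mem_O.1 (E_le_O a.2) v
  rw [h, QuadraticMap.map_smul, smul_eq_mul] at h1
  exact mul_right_cancel₀ hv (h1.trans (one_mul _).symm)

section eig

variable (h2 : (2 : F) ≠ 0) {a : E8 F} {e : F}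
include h2

theorem Eg_orth (he : e * e = 1) {x y : V8 F} (hx : x ∈ Eg a e) (hy : y ∈ Eg a (-e)) : polar (Q8 F) x y = 0 := by
  have h1 := polar_map (E_le_O a.2) x y
  rw [mem_Eg.1 hx, mem_Eg.1 hy, polar_smul_left, polar_smul_right, smul_eq_mul, smul_eq_mul] at h1
  exact (mul_eq_zero.1 (show 2 * polar (Q8 F) x y = 0 by
    linear_combination -h1 - polar (Q8 F) x y * he)).resolve_left h2

theorem Eg_split (ha : a * a = 1) (he : e * e = 1) {U : Submodule F (V8 F)} (hU : ∀ v ∈ U, a.1 v ∈ U) {v : V8 F}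
    (hv : v ∈ U) : ∃ x ∈ U ⊓ Eg a e, ∃ y ∈ U ⊓ Eg a (-e), v = x + y := by
  refine ⟨(2 : F)⁻¹ • (v + e • a.1 v), ⟨U.smul_mem _ (add_mem hv (U.smul_mem _ (hU v hv))), mem_Eg.2 ?_⟩,
    (2 : F)⁻¹ • (v - e • a.1 v), ⟨U.smul_mem _ (sub_mem hv (U.smul_mem _ (hU v hv))), mem_Eg.2 ?_⟩, ?_⟩
  · rw [map_smul, map_add, map_smul, e8_invol ha]
    match_scalars
    · linear_combination -(2 : F)⁻¹ * he
    · ring
  · rw [map_smul, map_sub, map_smul, e8_invol ha]
    match_scalars
    · linear_combination -(2 : F)⁻¹ * he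
    · ring
  · match_scalars
    · field_simp
      ring
    · ring

theorem Nd.inf_Eg (ha : a * a = 1) (he : e * e = 1) {U : Submodule F (V8 F)} (h : Nd (Q8 F) U)
    (hU : ∀ v ∈ U, a.1 v ∈ U) : Nd (Q8 F) (U ⊓ Eg a e) := fun x hx h1 => h x hx.1 fun v hv => by
  obtain ⟨y, hy, z, hz, rfl⟩ := Eg_split h2 ha he hU hv
  rw [polar_add_right, h1 y hy, Eg_orth h2 he hx.2 hz.2, add_zero]

theorem Eg_nd (ha : a * a = 1) (he : e * e = 1) : Nd (Q8 F) (Eg a e) := by
  simpa using (nd_top nondeg8').inf_Eg h2 ha he fun _ _ => trivial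

theorem Eg_sup (ha : a * a = 1) (he : e * e = 1) : Eg a e ⊔ Eg a (-e) = ⊤ := eq_top_iff.2 fun v _ => by
  obtain ⟨y, hy, z, hz, rfl⟩ := Eg_split h2 ha he (U := ⊤) (fun _ _ => trivial) (v := v) trivial
  exact add_mem (Submodule.mem_sup_left hy.2) (Submodule.mem_sup_right hz.2)

theorem Eg_inf (ha : a * a = 1) (he : e * e = 1) : Eg a e ⊓ Eg a (-e) = ⊥ := eq_bot_iff.2 fun x hx =>
  Eg_nd h2 ha he x hx.1 fun _ hy => (polar_comm _ _ _).trans (Eg_orth h2 he hy hx.2)

theorem Eg_dim (ha : a * a = 1) (he : e * e = 1) : finrank F (Eg a e) + finrank F (Eg a (-e)) = 8 := by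
  have h1 := Submodule.finrank_sup_add_finrank_inf_eq (Eg a e) (Eg a (-e))
  rw [Eg_sup h2 ha he, Eg_inf h2 ha he, finrank_top, finrank_bot, finrank8] at h1
  omega

theorem Eg_ext (ha : a * a = 1) (he : e * e = 1) {f g : V8 F →ₗ[F] V8 F} (h1 : ∀ x ∈ Eg a e, f x = g x)
    (h1' : ∀ x ∈ Eg a (-e), f x = g x) (v : V8 F) : f v = g v := by
  obtain ⟨y, hy, z, hz, rfl⟩ := Eg_split h2 ha he (U := ⊤) (fun _ _ => trivial) (v := v) trivial
  rw [map_add, map_add, h1 y hy.2, h1' z hz.2]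

theorem sc_of_Eg (ha : a * a = 1) (he : e * e = 1) {g : E8 F} {d : F} (h1 : ∀ x ∈ Eg a e, g.1 x = d • x)
    (h1' : ∀ x ∈ Eg a (-e), g.1 x = d • x) : Sc g d := fun v => by
  obtain ⟨y, hy, z, hz, rfl⟩ := Eg_split h2 ha he (U := ⊤) (fun _ _ => trivial) (v := v) trivial
  rw [map_add, h1 y hy.2, h1' z hz.2, smul_add]

theorem Eg_ne_bot (ha : a * a = 1) (hn : ¬ ∃ d, Sc a d) (he : e * e = 1) : Eg a e ≠ ⊥ := fun h0 => by
  have h1 := Eg_sup h2 ha he
  rw [h0, bot_sup_eq] at h1
  exact hn ⟨-e, fun x => mem_Eg.1 (h1 ▸ Submodule.mem_top)⟩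

theorem exists_eig (ha : a * a = 1) : ∃ (u : V8 F) (d : F), Q8 F u ≠ 0 ∧ a.1 u = d • u := by
  by_cases hn : ∃ d, Sc a d
  · obtain ⟨d, hd⟩ := hn
    exact ⟨one8 F, d, by rw [norm_one8]; exact one_ne_zero, hd _⟩
  · obtain ⟨u, hu, hu'⟩ := (Eg_nd h2 ha (one_mul 1)).exists_nonsing (Eg_ne_bot h2 ha hn (one_mul 1))
    exact ⟨u, 1, hu', mem_Eg.1 hu⟩

end eig

/-- joint eigenspaces containing a nonsingular vector have the same dimension -/
theorem EQ {ι : Type*} {a b c : ι → E8 F} (h : ∀ i, T3 (a i) (b i) (c i)) {x x' y : ι → F} {z z' u : V8 F}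
    (hz : Q8 F z ≠ 0) (hz' : Q8 F z' ≠ 0) (hu : Q8 F u ≠ 0) (hx : ∀ i, (a i).1 z = x i • z)
    (hx' : ∀ i, (a i).1 z' = x' i • z') (hy : ∀ i, (b i).1 u = y i • u) :
    ∃ φ : V8 F →ₗ[F] V8 F, Function.Injective φ ∧
      ∀ v, (∀ i, (a i).1 v = x i • v) → ∀ i, (a i).1 (φ v) = x' i • φ v := by
  refine ⟨pl u ∘ₗ pl z' ∘ₗ pr z ∘ₗ pr u,
    (pl_injective hu).comp ((pl_injective hz').comp ((pr_injective hz).comp (pr_injective hu))), fun v hv i => ?_⟩
  rw [LinearMap.comp_apply, LinearMap.comp_apply, LinearMap.comp_apply, pl_apply, pl_apply, pr_apply, pr_apply, h i, (h i).rot.rot, (h i).rot, (h i).rot.rot, hx, hx', hy, hv]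
  simp only [smul_pm, pm_smul, smul_smul]
  congr 1
  linear_combination x' i * (y i * y i) * eig_sq hz (hx i) + x' i * eig_sq hu (hy i)

theorem EQ_le {ι : Type*} {a b c : ι → E8 F} (h : ∀ i, T3 (a i) (b i) (c i)) {x x' y : ι → F} {z z' u : V8 F}
    (hz : Q8 F z ≠ 0) (hz' : Q8 F z' ≠ 0) (hu : Q8 F u ≠ 0) (hx : ∀ i, (a i).1 z = x i • z)
    (hx' : ∀ i, (a i).1 z' = x' i • z') (hy : ∀ i, (b i).1 u = y i • u) {U U' : Submodule F (V8 F)}
    (hU : ∀ v ∈ U, ∀ i, (a i).1 v = x i • v) (hU' : ∀ v, (∀ i, (a i).1 v = x' i • v) → v ∈ U') :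
    finrank F U ≤ finrank F U' := by
  obtain ⟨φ, h1, h2⟩ := EQ h hz hz' hu hx hx' hy
  rw [(Submodule.equivMapOfInjective φ h1 U).finrank_eq]
  refine Submodule.finrank_mono ?_
  rintro _ ⟨v, hv, rfl⟩
  exact hU' _ (h2 v (hU v hv))

theorem T3.nsc {a b c : E8 F} (h : T3 a b c) (hn : ¬ ∃ d, Sc a d) : ¬ ∃ d, Sc b d := fun ⟨_, hd⟩ =>
  let ⟨_, d', _, h1, _⟩ := h.rot.sc hd
  hn ⟨d', h1⟩

/-- `4 + 4` -/
theorem Z1_dim (h2 : (2 : F) ≠ 0) {a b c : E8 F} (h : T3 a b c) (ha : a * a = 1) (hb : b * b = 1)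
    (hn : ¬ ∃ d, Sc a d) {e : F} (he : e * e = 1) : finrank F (Eg a e) = 4 := by
  obtain ⟨u, d, hu, hd⟩ := exists_eig h2 hb
  have key : ∀ e : F, e * e = 1 → finrank F (Eg a e) ≤ finrank F (Eg a (-e)) := fun e he => by
    have he' : -e * -e = 1 := by rwa [neg_mul_neg]
    obtain ⟨z, hz, hz'⟩ := (Eg_nd h2 ha he).exists_nonsing (Eg_ne_bot h2 ha hn he)
    obtain ⟨w, hw, hw'⟩ := (Eg_nd h2 ha he').exists_nonsing (Eg_ne_bot h2 ha hn he')
    exact EQ_le (ι := Unit) (fun _ => h) (x := fun _ => e) (x' := fun _ => -e) (y := fun _ => d) hz' hw' hu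
      (fun _ => mem_Eg.1 hz) (fun _ => mem_Eg.1 hw) (fun _ => hd) (fun _ hv _ => mem_Eg.1 hv)
      fun _ hv => mem_Eg.2 (hv ())
  have h1 := key e he
  have h3 := key (-e) (by rwa [neg_mul_neg])
  have h4 := Eg_dim h2 ha he
  rw [neg_neg] at h3
  omega

/-- both eigenspaces are of plus type -/
theorem Z1_ts (h2 : (2 : F) ≠ 0) {a b c : E8 F} (h : T3 a b c) (ha : a * a = 1) (hb : b * b = 1) (hc : c * c = 1)
    (hn : ¬ ∃ d, Sc a d) {e : F} (he : e * e = 1) : HasTS (Q8 F) (Eg a e) := by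
  have hb4 := Z1_dim h2 h.rot hb hc (h.nsc hn) (one_mul 1)
  have hc4 := Z1_dim h2 h.rot.rot hc ha (h.rot.nsc (h.nsc hn)) he
  obtain ⟨x, hx, hx0, hx1⟩ := LieClassical.OrthFinite.exists_sing_mem (Q := Q8 F) (Eg b 1) (by omega)
  refine hasTS_of_le (U := (Eg c e).map (pl x)) ?_ ?_ ?_
  · rintro _ ⟨y, hy, rfl⟩
    rw [mem_Eg, pl_apply, h, mem_Eg.1 hx, mem_Eg.1 hy, one_smul, pm_smul]
  · rintro _ ⟨y, -, rfl⟩
    rw [pl_apply, norm_pm, hx1, zero_mul]
  · have h1 := ((pl x).domRestrict (Eg c e)).finrank_range_add_finrank_ker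
    rw [LinearMap.range_domRestrict, LinearMap.ker_domRestrict, ← Submodule.finrank_map_subtype_eq,
      Submodule.map_comap_subtype] at h1
    have h3 := (Eg_nd h2 hc he).two_mul_le (U := Eg c e ⊓ LinearMap.ker (pl x)) inf_le_left fun y hy z hz =>
      polar_of_ts (fun w hw => by
        have h4 := pm_pm_right w x
        rw [show pm x w = 0 from hw.2, pm_zero] at h4
        exact (smul_eq_zero.1 h4.symm).resolve_right hx0) hy hz
    omega

/-! ### products of four reflections -/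

theorem Nd.exists_orth {V : Type} [AddCommGroup V] [Module F V] [FiniteDimensional F V] {Q : QuadraticForm F V}
    (h2 : (2 : F) ≠ 0) {W : Submodule F V} (h : Nd Q W) {n : ℕ} (hn : finrank F W = n) :
    ∃ u : Fin n → V, (∀ i, u i ∈ W) ∧ (∀ i, Q (u i) ≠ 0) ∧ (∀ i j, i ≠ j → polar Q (u i) (u j) = 0) ∧
      ∀ w ∈ W, ∃ c : Fin n → F, w = ∑ i, c i • u i := by
  subst hn
  have := invertibleOfNonzero h2
  obtain ⟨v, hv⟩ := LinearMap.BilinForm.exists_orthogonal_basis
    (B := (polarBilin Q).compl₁₂ W.subtype W.subtype) ⟨fun x y => polar_comm _ _ _⟩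
  have h1 : ∀ i j, i ≠ j → polar Q (v i : V) (v j : V) = 0 := fun i j hij => hv hij
  have h3 : ∀ w ∈ W, ∃ c : Fin (finrank F W) → F, w = ∑ i, c i • (v i : V) := fun w hw =>
    ⟨v.repr ⟨w, hw⟩, by
      have h4 := congrArg Subtype.val (v.sum_repr ⟨w, hw⟩).symm
      rw [Submodule.coe_sum] at h4
      exact h4⟩
  refine ⟨fun i => v i, fun i => (v i).2, fun i h0 => v.ne_zero i (Subtype.ext (h _ (v i).2 fun w hw => ?_)), h1, h3⟩
  obtain ⟨c, rfl⟩ := h3 w hw
  show polarBilin Q _ _ = 0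
  rw [map_sum]
  refine Finset.sum_eq_zero fun j _ => ?_
  rw [map_smul, polarBilin_apply_apply]
  by_cases hij : i = j
  · rw [← hij, polar_self_of_sing h0, smul_zero]
  · rw [h1 i j hij, smul_zero]

/-- `- Q v` times the reflection in `v` -/
def srf (v : V8 F) : V8 F →ₗ[F] V8 F := (polarBilin (Q8 F) v).smulRight v - Q8 F v • LinearMap.id

theorem srf_apply (v w : V8 F) : srf v w = polar (Q8 F) v w • v - Q8 F v • w := rfl

theorem srf_perp {v w : V8 F} (h : polar (Q8 F) v w = 0) : srf v w = - Q8 F v • w := by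
  rw [srf_apply, h, zero_smul, zero_sub, neg_smul]

theorem srf_self (v : V8 F) : srf v v = Q8 F v • v := by
  rw [srf_apply, polar_self']; module

theorem srf_pm (v x y : V8 F) : srf v (pm x y) = pm (pm y v) (pm v x) := by
  have h1 := pm_lin_left y (pm v x) v
  rw [pm_pm_left, smul_pm, ← polar_pm, polar_comm, ← polar_pm, polar_comm] at h1
  rw [srf_apply, ← h1, add_sub_cancel_right]

theorem pm_LR {p q : V8 F} (h : polar (Q8 F) p q = 0) (y : V8 F) : pm q (pm y p) = - pm p (pm y q) := by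
  have h1 := pm_lin_right p q y
  rw [h, zero_smul] at h1
  exact eq_neg_of_add_eq_zero_right h1

theorem pm_RL {p q : V8 F} (h : polar (Q8 F) p q = 0) (y : V8 F) : pm (pm p y) q = - pm (pm q y) p := by
  have h1 := pm_lin_left p q y
  rw [h, zero_smul] at h1
  exact eq_neg_of_add_eq_zero_left h1

theorem cliff4 {p q r s : V8 F} (pq : polar (Q8 F) p q = 0) (pr : polar (Q8 F) p r = 0) (ps : polar (Q8 F) p s = 0)
    (qr : polar (Q8 F) q r = 0) (qs : polar (Q8 F) q s = 0) (rs : polar (Q8 F) r s = 0) (x : V8 F) :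
    pm (pm q (pm (pm s (pm (pm q (pm (pm s x) r)) p)) r)) p = (Q8 F p * Q8 F q * Q8 F r * Q8 F s) • x := by
  rw [pm_LR ps, neg_pm, pm_RL pr, neg_neg, pm_LR pq, neg_pm, pm_pm_left, pm_RL qs, pm_neg, pm_LR qr, neg_neg,
    pm_pm_left, pm_LR rs, neg_pm, pm_pm_left, pm_pm_left]
  simp only [smul_neg, neg_neg, smul_smul, mul_assoc]

theorem srf4 (h2 : (2 : F) ≠ 0) {a : E8 F} (ha : a * a = 1) {u : Fin 4 → V8 F} (hu : ∀ i, u i ∈ Eg a (-1))
    (ho : ∀ i j, i ≠ j → polar (Q8 F) (u i) (u j) = 0) (hs : ∀ w ∈ Eg a (-1), ∃ c : Fin 4 → F, w = ∑ i, c i • u i)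
    (v : V8 F) : srf (u 0) (srf (u 1) (srf (u 2) (srf (u 3) v))) =
      (Q8 F (u 0) * Q8 F (u 1) * Q8 F (u 2) * Q8 F (u 3)) • a.1 v := by
  obtain ⟨y, hy, z, hz, rfl⟩ := Eg_split h2 ha (one_mul 1) (U := ⊤) (fun _ _ => trivial) (v := v) trivial
  obtain ⟨t, rfl⟩ := hs z hz.2
  have h3 : ∀ i, srf (u i) y = - Q8 F (u i) • y := fun i =>
    srf_perp ((polar_comm _ _ _).trans (Eg_orth h2 (one_mul 1) hy.2 (hu i)))
  have h4 : ∀ i j, i ≠ j → srf (u i) (u j) = - Q8 F (u i) • u j := fun i j hij => srf_perp (ho i j hij)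
  rw [Fin.sum_univ_four]
  simp only [map_add, map_smul, h3, srf_self, h4 0 1 (by decide), h4 0 2 (by decide), h4 0 3 (by decide),
    h4 1 0 (by decide), h4 1 2 (by decide), h4 1 3 (by decide), h4 2 0 (by decide), h4 2 1 (by decide),
    h4 2 3 (by decide), h4 3 0 (by decide), h4 3 1 (by decide), h4 3 2 (by decide), mem_Eg.1 hy.2, mem_Eg.1 (hu _)]
  module

theorem exists_gl {f : V8 F →ₗ[F] V8 F} (hf : Function.Injective f) : ∃ j : GL8 F, ∀ x, j x = f x :=
  ⟨LinearEquiv.ofInjectiveEndo f hf, fun _ => rfl⟩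

theorem T3.sq_third {a b c : E8 F} (h : T3 a b c) (ha : a * a = 1) (hb : b * b = 1) : c * c = 1 := by
  obtain ⟨d, d', k1, k2, k3⟩ := (h.mul h).sc (e := 1) (by rw [ha]; exact Sc.one)
  rw [k1.unique (e' := 1) (by rw [hb]; exact Sc.one), one_mul] at k3
  rw [← k3] at k2
  exact k2.eq_one

/-- a `4 + 4` involution has involutory triality partners -/
theorem Z2 (h2 : (2 : F) ≠ 0) {a b c : E8 F} (h : T3 a b c) (ha : a * a = 1) (h4 : finrank F (Eg a (-1)) = 4) :
    b * b = 1 ∧ c * c = 1 := by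
  obtain ⟨u, hu, hQ, ho, hs⟩ := (Eg_nd h2 ha (e := -1) (by ring)).exists_orth h2 h4
  have h1 := srf4 h2 ha hu ho hs
  have h7 := cliff4 (ho 0 1 (by decide)) (ho 0 2 (by decide)) (ho 0 3 (by decide)) (ho 1 2 (by decide))
    (ho 1 3 (by decide)) (ho 2 3 (by decide))
  have hp := hQ 0
  have hq := hQ 1
  have hr := hQ 2
  have ht := hQ 3
  generalize u 0 = p, u 1 = q, u 2 = r, u 3 = t at *
  obtain ⟨D, hD⟩ : ∃ D, D = Q8 F p * Q8 F q * Q8 F r * Q8 F t := ⟨_, rfl⟩
  have hD0 : D ≠ 0 := hD ▸ mul_ne_zero (mul_ne_zero (mul_ne_zero hp hq) hr) ht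
  rw [← hD] at h1 h7
  obtain ⟨j, hj⟩ := exists_gl (f := pr p ∘ₗ pl q ∘ₗ pr r ∘ₗ pl t)
    ((pr_injective hp).comp ((pl_injective hq).comp ((pr_injective hr).comp (pl_injective ht))))
  obtain ⟨j', hj'⟩ := exists_gl (f := pl p ∘ₗ pr q ∘ₗ pl r ∘ₗ pr t)
    ((pl_injective hp).comp ((pr_injective hq).comp ((pl_injective hr).comp (pr_injective ht))))
  simp only [LinearMap.comp_apply, pl_apply, pr_apply] at hj hj'
  have h3 : Tr a.1 j (LinearEquiv.smulOfNeZero F (V8 F) D⁻¹ (inv_ne_zero hD0) * j') := fun x y => by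
    have h5 := h1 (pm x y)
    rw [srf_pm, srf_pm, srf_pm, srf_pm] at h5
    rw [LinearEquiv.mul_apply, LinearEquiv.smulOfNeZero_apply, pm_smul, hj, hj', h5, smul_smul, inv_mul_cancel₀ hD0,
      one_smul]
  obtain ⟨e, he, h5, -⟩ := Tr.unique h h3
  have h6 : e * e = D := by
    have h8 := congrArg (Q8 F) (h5 (one8 F))
    rw [hj, QuadraticMap.map_smul, mem_O.1 (E_le_O b.2), norm_pm, norm_pm, norm_pm, norm_pm, norm_one8,
      smul_eq_mul] at h8
    linear_combination -h8 - hD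
  have hb : b * b = 1 := e8_ext fun x => by
    have h8 := h7 x
    rw [← hj, ← hj, h5, h5, map_smul, smul_smul, h6] at h8
    exact smul_right_injective _ hD0 h8
  exact ⟨hb, h.sq_third ha hb⟩

theorem not_neg (h2 : (2 : F) ≠ 0) {b : E8 F} (hb : Sc b (-1)) : b ≠ 1 := fun h1 =>
  h2 (by linear_combination (h1 ▸ Sc.one : Sc b 1).unique hb)

/-- `a` and `a'` commute up to a scalar -/
def Pc (a a' : E8 F) : Prop := ∃ e, Sc (a * a' * (a' * a)⁻¹) e

theorem Pc.apply {a a' : E8 F} (h : Pc a a') : ∃ e : F, e * e = 1 ∧ ∀ x, a.1 (a'.1 x) = e • a'.1 (a.1 x) := by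
  obtain ⟨e, he⟩ := h
  refine ⟨e, he.sq, fun x => ?_⟩
  have h1 := he ((a' * a).1 x)
  rwa [← e8_mul, inv_mul_cancel_right] at h1

theorem Pc.symm {a a' : E8 F} (h : Pc a a') : Pc a' a := by
  obtain ⟨e, he⟩ := h
  refine ⟨e, fun x => ?_⟩
  have h1 : a' * a * (a * a')⁻¹ = (a * a' * (a' * a)⁻¹)⁻¹ := by group
  rw [h1]
  apply (a * a' * (a' * a)⁻¹).1.injective
  rw [← e8_mul, mul_inv_cancel, he, smul_smul, he.sq, one_smul]
  rfl

theorem T3.cmm {a b c a' b' c' : E8 F} (h : T3 a b c) (h' : T3 a' b' c') :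
    T3 (a * a' * (a' * a)⁻¹) (b * b' * (b' * b)⁻¹) (c * c' * (c' * c)⁻¹) := (h.mul h').mul (h'.mul h).inv

theorem Pc.rot {a b c a' b' c' : E8 F} (h : T3 a b c) (h' : T3 a' b' c') (hp : Pc a a') : Pc b b' ∧ Pc c c' := by
  obtain ⟨e, he⟩ := hp
  obtain ⟨d, d', h1, h2, -⟩ := (h.cmm h').sc he
  exact ⟨⟨d, h1⟩, d', h2⟩

theorem T3.comm {a b c a' b' c' : E8 F} (h : T3 a b c) (h' : T3 a' b' c') (hb : b * b' = b' * b)
    (hc : c * c' = c' * c) : a * a' = a' * a := by
  obtain ⟨d, d', h1, h2, h3⟩ := (h.cmm h').rot.sc (e := 1) (by rw [hb, mul_inv_cancel]; exact Sc.one)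
  rw [h1.unique (e' := 1) (by rw [hc, mul_inv_cancel]; exact Sc.one), one_mul] at h3
  exact mul_inv_eq_one.1 (Sc.eq_one (h3 ▸ h2))

theorem L1 (h2 : (2 : F) ≠ 0) {a b c a' : E8 F} (h : T3 a b c) (ha : a * a = 1) (hb : Sc (b * b) (-1))
    (hp : Pc a a') : a * a' = a' * a := by
  obtain ⟨e, he, h1⟩ := hp.apply
  rcases sq_cases he with rfl | rfl
  · exact e8_ext fun x => (h1 x).trans (one_smul F _)
  have key : ∀ d : F, finrank F (Eg a d) ≤ finrank F (Eg a (-d)) := fun d => by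
    rw [← LinearEquiv.finrank_map_eq a'.1]
    refine Submodule.finrank_mono ?_
    rintro _ ⟨v, hv, rfl⟩
    rw [mem_Eg, LinearEquiv.coe_coe, h1, mem_Eg.1 hv, map_smul, smul_smul, neg_one_mul]
  have h3 := key 1
  have h4 := key (-1)
  have h5 := Eg_dim h2 ha (one_mul 1)
  rw [neg_neg] at h4
  exact (not_neg h2 hb (Z2 h2 h ha (by omega)).1).elim

theorem Nd.even_J (h2 : (2 : F) ≠ 0) {J : E8 F} (hJ : Sc (J * J) (-1)) {U : Submodule F (V8 F)} (h : Nd (Q8 F) U)
    (hU : ∀ v ∈ U, J.1 v ∈ U) : Even (finrank F U) := by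
  refine h.even (s := J.1.toLinearMap) hU (fun x _ => ?_) fun x _ hx => J.1.map_eq_zero_iff.1 hx
  have h1 := polar_map (E_le_O J.2) x (J.1 x)
  rw [← e8_mul, hJ, polar_smul_right, polar_comm, smul_eq_mul] at h1
  exact (mul_eq_zero.1 (show 2 * polar (Q8 F) x (J.1 x) = 0 by linear_combination -h1)).resolve_left h2

theorem Eg_comm {a J : E8 F} (h : a * J = J * a) {e : F} {v : V8 F} (hv : v ∈ Eg a e) : J.1 v ∈ Eg a e := by
  rw [mem_Eg, e8_comm h, mem_Eg.1 hv, map_smul]

/-- `2 + 6` -/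
theorem exists_two (h2 : (2 : F) ≠ 0) {a b c J : E8 F} (h : T3 a b c) (ha : a * a = 1) (hb : Sc (b * b) (-1))
    (hJ : Sc (J * J) (-1)) (hc : a * J = J * a) :
    ∃ e : F, e * e = 1 ∧ finrank F (Eg a e) = 2 ∧ finrank F (Eg a (-e)) = 6 := by
  have hn : ¬ ∃ d, Sc a d := fun ⟨d, hd⟩ => by
    obtain ⟨d, -, h1, -, -⟩ := h.sc hd
    exact not_neg h2 hb (Sc.eq_one (h1.sq ▸ h1.mul h1))
  have h1 := Eg_dim h2 ha (one_mul 1)
  obtain ⟨k, hk⟩ := (Eg_nd h2 ha (one_mul 1)).even_J h2 hJ fun _ => Eg_comm hc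
  have h3 := Submodule.finrank_eq_zero.not.2 (Eg_ne_bot h2 ha hn (one_mul 1))
  have h4 := Submodule.finrank_eq_zero.not.2 (Eg_ne_bot h2 ha hn (e := -1) (by ring))
  have h5 : finrank F (Eg a (-1)) ≠ 4 := fun h6 => not_neg h2 hb (Z2 h2 h ha h6).1
  by_cases h6 : finrank F (Eg a 1) = 2
  · exact ⟨1, one_mul 1, h6, by omega⟩
  · exact ⟨-1, by ring, by omega, by rw [neg_neg]; omega⟩

theorem L3 (h2 : (2 : F) ≠ 0) {a b c a' b' c' J : E8 F} (h : T3 a b c) (h' : T3 a' b' c') (ha : a * a = 1)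
    (ha' : a' * a' = 1) (hb : Sc (b * b) (-1)) (hb' : Sc (b' * b') (-1)) (hc : a * a' = a' * a)
    (hJ : Sc (J * J) (-1)) (hc1 : a * J = J * a) (hc2 : a' * J = J * a') : b * b' = b' * b := by
  obtain ⟨e, he, h3, h4⟩ := exists_two h2 h ha hb hJ hc1
  obtain ⟨e', he', h3', h4'⟩ := exists_two h2 h' ha' hb' hJ hc2
  obtain ⟨k, hk⟩ := ((Eg_nd h2 ha he).inf_Eg h2 ha' he' fun _ => Eg_comm hc).even_J h2 hJ
    fun _ hv => ⟨Eg_comm hc1 hv.1, Eg_comm hc2 hv.2⟩
  have h5 := Submodule.finrank_mono (inf_le_left : Eg a e ⊓ Eg a' e' ≤ _)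
  by_cases h0 : finrank F ↥(Eg a e ⊓ Eg a' e') = 2
  · have h6 := Submodule.eq_of_le_of_finrank_eq (inf_le_left : Eg a e ⊓ Eg a' e' ≤ _) (h0.trans h3.symm)
    have h7 := Submodule.eq_of_le_of_finrank_eq (inf_le_right : Eg a e ⊓ Eg a' e' ≤ _) (h0.trans h3'.symm)
    have h8 : Sc (a * a') (e * e') := sc_of_Eg h2 ha he
      (fun x hx => by
        rw [e8_mul, mem_Eg.1 (h7 ▸ h6.symm ▸ hx : x ∈ Eg a' e'), map_smul, mem_Eg.1 hx, smul_smul, mul_comm])
      fun x hx => by
        obtain ⟨y, hy, z, hz, rfl⟩ := Eg_split h2 ha' he' (fun _ => Eg_comm hc) hx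
        have h9 : y ∈ Eg a e ⊓ Eg a (-e) := ⟨h6 ▸ h7.symm ▸ hy.2, hy.1⟩
        rw [Eg_inf h2 ha he, Submodule.mem_bot] at h9
        rw [h9, zero_add, e8_mul, mem_Eg.1 hz.2, map_smul, mem_Eg.1 hz.1, smul_smul, neg_mul_neg, mul_comm]
    obtain ⟨d, -, h9, -, -⟩ := (h.mul h').sc h8
    refine e8_ext fun x => b.1.injective ?_
    rw [h9, map_smul, e8_mul, ← e8_mul b b', h9]
  · have h6 : Eg a e ⊓ Eg a' e' = ⊥ := Submodule.finrank_eq_zero.1 (by omega)
    have haa : a * a' * (a * a') = 1 := by rw [mul_assoc, ← mul_assoc a', ← hc, mul_assoc, ha', mul_one, ha]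
    have hee : e * e' * (e * e') = 1 := by linear_combination e' * e' * he + he'
    have h7 : Eg a (-e) ⊓ Eg a' (-e') ≤ Eg (a * a') (e * e') := fun x hx => by
      rw [mem_Eg, e8_mul, mem_Eg.1 hx.2, map_smul, mem_Eg.1 hx.1, smul_smul, neg_mul_neg, mul_comm]
    have h8 : Eg a e ⊔ Eg a' e' ≤ Eg (a * a') (-(e * e')) := sup_le (fun x hx => by
      obtain ⟨y, hy, z, hz, rfl⟩ := Eg_split h2 ha' he' (fun _ => Eg_comm hc) hx
      rw [h6, Submodule.mem_bot] at hy
      rw [hy, zero_add, mem_Eg, e8_mul, mem_Eg.1 hz.2, map_smul, mem_Eg.1 hz.1, smul_smul, neg_mul, mul_comm])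
      fun x hx => by
        obtain ⟨y, hy, z, hz, rfl⟩ := Eg_split h2 ha he (fun _ => Eg_comm hc.symm) hx
        rw [inf_comm, h6, Submodule.mem_bot] at hy
        rw [hy, zero_add, mem_Eg, e8_mul, mem_Eg.1 hz.1, map_smul, mem_Eg.1 hz.2, smul_smul, mul_neg, mul_comm]
    have k1 := Submodule.finrank_mono h7
    have k2 := Submodule.finrank_mono h8
    have k3 := Submodule.finrank_sup_add_finrank_inf_eq (Eg a e) (Eg a' e')
    have k4 := Submodule.finrank_sup_add_finrank_inf_eq (Eg a (-e)) (Eg a' (-e'))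
    have k5 := (Eg a (-e) ⊔ Eg a' (-e')).finrank_le
    have k6 := Eg_dim h2 haa hee
    rw [h6, finrank_bot] at k3
    rw [finrank8] at k5
    have k7 : finrank F (Eg (a * a') (-1)) = 4 := by
      rcases sq_cases hee with k | k
      · rw [← k]; omega
      · rw [← k]; omega
    have k8 := (Z2 h2 (h.mul h') haa k7).1
    refine e8_ext fun x => (b * b').1.injective ?_
    rw [← e8_mul, k8, e8_mul, e8_mul, ← e8_mul b' b', hb', map_smul, ← e8_mul, hb, smul_smul]
    simp

end Cfsg.Agent.SB.D4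

private theorem dce_b003b752a5ab : _root_.True := by
  try have : _root_.True := by simp only [_root_.Cfsg.Agent.SB.D4.Eg.eq_1]
  exact _root_.True.intro
end

-- part: SB/D4/RA2
section
prune_inst 0x10003104044002000018000202001844e00000020048800028400a40004000422001080014301012002004406009002001000000000800000000040000000020808200003000000004000f000000000000000000000000000000000000000000000000000
set_option linter.all false
open scoped Cfsg.Agent.FastGrp

/-!
# S5765, `PΩ₈⁺(q)`, case `r = 2`: some lift has square `-1` (helper30)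
-/

set_option autoImplicit false
set_option linter.unusedSectionVars false
set_option maxHeartbeats 200000

namespace Cfsg.Agent.SB.D4

open QuadraticMap Module Cfsg.Agent.LieClassical.OrthCore Cfsg.Agent.LieClassical.OrthTrans
  Cfsg.Agent.ClassicalGeometry.OrthSemi Cfsg.Agent.ClassicalGeometry.TrialityOct
  Cfsg.Agent.ClassicalGeometry.Triality Cfsg.Agent.H989.OutOrth.Basic

variable {F : Type} [Field F] [Fintype F]

/-- square `-1` -/
abbrev Ng (a : E8 F) : Prop := Sc (a * a) (-1)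

theorem sq_or_ng {a : E8 F} (h : ∃ e, Sc (a * a) e) : a * a = 1 ∨ Ng a := by
  obtain ⟨e, he⟩ := h
  rcases sq_cases he.sq with rfl | rfl
  exacts [Or.inl he.eq_one, Or.inr he]

theorem T3.types {a b c : E8 F} (h : T3 a b c) (ha : ∃ e, Sc (a * a) e) : (a * a = 1 ∧ b * b = 1 ∧ c * c = 1) ∨
    (a * a = 1 ∧ Ng b ∧ Ng c) ∨ (Ng a ∧ b * b = 1 ∧ Ng c) ∨ (Ng a ∧ Ng b ∧ c * c = 1) := by
  obtain ⟨e, he⟩ := ha
  obtain ⟨d, d', h1, h2, rfl⟩ := (h.mul h).sc he
  rcases sq_cases h1.sq with rfl | rfl <;> rcases sq_cases h2.sq with rfl | rfl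
  · rw [one_mul] at he
    exact Or.inl ⟨he.eq_one, h1.eq_one, h2.eq_one⟩
  · rw [one_mul] at he
    exact Or.inr (Or.inr (Or.inl ⟨he, h1.eq_one, h2⟩))
  · rw [mul_one] at he
    exact Or.inr (Or.inr (Or.inr ⟨he, h1, h2.eq_one⟩))
  · rw [neg_mul_neg, one_mul] at he
    exact Or.inr (Or.inl ⟨he.eq_one, h1, h2⟩)

theorem gam_sign (M : Gam (Q8 F)) {e : F} (he : e * e = 1) (v : V8 F) : M.1 (e • v) = e • M.1 v := by
  rcases sq_cases he with rfl | rfl
  · rw [one_smul, one_smul]
  · rw [neg_one_smul, neg_one_smul, gam_neg]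

theorem Sc.conj {a : E8 F} {e : F} (h : Sc a e) (M : Gam (Q8 F)) : Sc (conjE (Q8 F) M a) e := fun x => by
  obtain ⟨y, rfl⟩ := M.1.surjective x
  rw [conjE_apply, h, gam_sign M h.sq]

theorem Ng.conj {a : E8 F} (h : Ng a) (M : Gam (Q8 F)) : Ng (conjE (Q8 F) M a) := by
  have h1 := Sc.conj h M
  rwa [map_mul] at h1

theorem Pc.conj {a b : E8 F} (h : Pc a b) (M : Gam (Q8 F)) : Pc (conjE (Q8 F) M a) (conjE (Q8 F) M b) := by
  obtain ⟨e, he⟩ := h
  have h1 := he.conj M
  simp only [map_mul, map_inv, map_mul, map_mul] at h1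
  exact ⟨e, h1⟩

theorem conjE_sq {M : Gam (Q8 F)} {a : E8 F} : conjE (Q8 F) M a * conjE (Q8 F) M a = 1 ↔ a * a = 1 := by
  rw [← map_mul, MulEquiv.map_eq_one_iff]

theorem Ng.mul {a b : E8 F} (ha : Ng a) (hb : Ng b) (h : a * b = b * a) : a * b * (a * b) = 1 := by
  have h1 := Sc.mul ha hb
  rw [neg_mul_neg, one_mul] at h1
  rw [← h1.eq_one, mul_assoc, ← mul_assoc b, ← h, mul_assoc, ← mul_assoc]

theorem Ng.apply {a : E8 F} (ha : Ng a) (v : V8 F) : a.1 (a.1 v) = -v := by
  rw [← e8_mul, ha, neg_one_smul]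

theorem Ng.nsc (h2 : (2 : F) ≠ 0) {a : E8 F} (ha : Ng a) : ¬ ∃ d, Sc a d := fun ⟨_, hd⟩ =>
  not_neg h2 ha (Sc.eq_one (hd.sq ▸ hd.mul hd))

theorem L3' (h2 : (2 : F) ≠ 0) {a b c a' b' c' J : E8 F} (h : T3 a b c) (h' : T3 a' b' c') (ha : a * a = 1)
    (ha' : a' * a' = 1) (hb : Ng b) (hb' : Ng b') (hp : Pc a a') (hJ : Ng J) (h1 : Pc a J) (h1' : Pc a' J) :
    a * a' = a' * a ∧ b * b' = b' * b ∧ c * c' = c' * c :=
  have h3 := L1 h2 h ha hb hp
  have h4 := L3 h2 h h' ha ha' hb hb' h3 hJ (L1 h2 h ha hb h1) (L1 h2 h' ha' hb' h1')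
  ⟨h3, h4, h.rot.rot.comm h'.rot.rot h3 h4⟩

theorem comm_of_types (h2 : (2 : F) ≠ 0) {a b c a' b' c' J₁ J₂ : E8 F} (h : T3 a b c) (h' : T3 a' b' c')
    (ht : (a * a = 1 ∧ Ng b ∧ Ng c) ∨ (Ng a ∧ b * b = 1 ∧ Ng c) ∨ (Ng a ∧ Ng b ∧ c * c = 1))
    (ht' : (a' * a' = 1 ∧ Ng b' ∧ Ng c') ∨ (Ng a' ∧ b' * b' = 1 ∧ Ng c') ∨ (Ng a' ∧ Ng b' ∧ c' * c' = 1))
    (hp : Pc a a') (hJ₁ : Ng J₁) (k1 : Pc b J₁) (k1' : Pc b' J₁) (hJ₂ : Ng J₂) (k2 : Pc c J₂) (k2' : Pc c' J₂) :
    a * a' = a' * a := by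
  obtain ⟨hpb, hpc⟩ := hp.rot h h'
  rcases ht with ⟨h1, h3, -⟩ | ht
  · exact L1 h2 h h1 h3 hp
  rcases ht' with ⟨h1, h3, -⟩ | ht'
  · exact (L1 h2 h' h1 h3 hp.symm).symm
  rcases ht with ⟨h1, h3, h4⟩ | ⟨h1, h3, h4⟩ <;> rcases ht' with ⟨h1', h3', h4'⟩ | ⟨h1', h3', h4'⟩
  · exact (L3' h2 h.rot h'.rot h3 h3' h4 h4' hpb hJ₁ k1 k1').2.2
  · exact h.comm h' (L1 h2 h.rot h3 h4 hpb) (L1 h2 h'.rot.rot h4' h1' hpc.symm).symm
  · exact h.comm h' (L1 h2 h'.rot h3' h4' hpb.symm).symm (L1 h2 h.rot.rot h4 h1 hpc)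
  · exact (L3' h2 h.rot.rot h'.rot.rot h4 h4' h1 h1' hpc hJ₂ k2 k2').2.1

/-- the lifts are involutions -/
def Sq (x : G8 F) : Prop := ∀ a : E8 F, (a : G8 F) = x → a * a = 1

theorem sq_mk {a : E8 F} : Sq (a : G8 F) ↔ a * a = 1 := by
  refine ⟨fun h => h a rfl, fun h b hb => e8_ext fun x => ?_⟩
  obtain ⟨e, he, h1⟩ := mk_eq_iff.1 hb.symm
  rw [e8_mul, h1, h1, map_smul, smul_smul, he, one_smul, ← e8_mul, h]

/-- the lifts commute -/
def Cm (x : G8 F) : Subgroup (G8 F) where
  carrier := {y | ∀ a b : E8 F, (a : G8 F) = x → (b : G8 F) = y → a * b = b * a}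
  one_mem' := fun a b _ hb => by
    obtain ⟨e, he⟩ := mk_eq_one_iff.1 hb
    exact e8_ext fun v => by rw [e8_mul, e8_mul, he, he, map_smul]
  mul_mem' := fun {y y'} hy hy' a b ha hb => by
    obtain ⟨c, rfl⟩ := QuotientGroup.mk_surjective y
    have h1 : Commute a c := hy a c ha rfl
    have h2 : Commute a (c⁻¹ * b) := hy' a _ ha (by rw [QuotientGroup.mk_mul, QuotientGroup.mk_inv, hb]; group)
    simpa only [_root_.mul_inv_cancel_left] using (h1.mul_right h2).eq
  inv_mem' := fun {y} hy a b ha hb => by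
    have h1 : Commute a b⁻¹ := hy a _ ha (by rw [QuotientGroup.mk_inv, hb, inv_inv])
    simpa only [_root_.inv_inv] using h1.inv_right.eq

theorem Cm_symm {x y : G8 F} (h : y ∈ Cm x) : x ∈ Cm y := fun a b ha hb => (h b a hb ha).symm

/-- all `S`-conjugates lift to involutions -/
def Zt (S : Subgroup (MulAut (G8 F))) (x : G8 F) : Prop := ∀ s ∈ S, Sq (s x)

theorem Zt.map {S : Subgroup (MulAut (G8 F))} {x : G8 F} (h : Zt S x) {s : MulAut (G8 F)} (hs : s ∈ S) : Zt S (s x) :=
  fun t ht => h (t * s) (mul_mem ht hs)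

theorem Zt.of_map {S : Subgroup (MulAut (G8 F))} {x : G8 F} {s : MulAut (G8 F)} (hs : s ∈ S) (h : Zt S (s x)) :
    Zt S x := by simpa only [_root_.MulAut.inv_apply, _root_.MulEquiv.symm_apply_apply] using h.map (inv_mem hs)

theorem small_sq (h3 : Nat.card F ≤ 3) {c : F} (hc : c ≠ 0) : c * c = 1 := by
  have h1 := FiniteField.pow_card_sub_one_eq_one c hc
  have h2 : 1 < Fintype.card F := Fintype.one_lt_card
  rw [Nat.card_eq_fintype_card] at h3
  obtain h4 | h4 : Fintype.card F - 1 = 1 ∨ Fintype.card F - 1 = 2 := by omega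
  · rw [h4, pow_one] at h1
    rw [h1, one_mul]
  · rwa [h4, pow_two] at h1

namespace Cx

variable {S : Subgroup (MulAut (G8 F))} {X : Subgroup (G8 F)} (h : Cx S X 2)
include h

theorem two_ne : (2 : F) ≠ 0 := by simpa only [_root_.ne_eq, _root_.Nat.cast_ofNat] using h.char

theorem sq_sc {a : E8 F} (ha : (a : G8 F) ∈ X) : ∃ e, Sc (a * a) e :=
  mk_eq_one_iff.1 (by rw [QuotientGroup.mk_mul, ← pow_two]; exact h.pow _ ha)

theorem pc {a b : E8 F} (ha : (a : G8 F) ∈ X) (hb : (b : G8 F) ∈ X) : Pc a b :=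
  mk_eq_one_iff.1 (by
    simp only [QuotientGroup.mk_mul, QuotientGroup.mk_inv, QuotientGroup.mk_mul, QuotientGroup.mk_mul, h.comm _ ha _ hb,
      mul_inv_cancel])

theorem zt_iff {a b c : E8 F} (ht : T3 a b c) : Zt S (a : G8 F) ↔ a * a = 1 ∧ b * b = 1 ∧ c * c = 1 := by
  constructor
  · intro hz
    obtain ⟨α, hα, M, hM⟩ := h.t1
    have h1 := sq_mk.1 (hz 1 (one_mem _))
    have h2 := hz α hα
    rw [hM a b c ht, sq_mk, conjE_sq] at h2
    exact ⟨h1, h2, ht.sq_third h1 h2⟩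
  · rintro ⟨h1, h2, h3⟩ s -
    obtain ⟨M, rfl | hM | hM⟩ := cosets s
    · rwa [Psi_mk, sq_mk, conjE_sq]
    · rwa [hM a b c ht, sq_mk, conjE_sq]
    · rwa [hM a b c ht, sq_mk, conjE_sq]

theorem types {a b c : E8 F} (ht : T3 a b c) (ha : (a : G8 F) ∈ X) (hz : ¬ Zt S (a : G8 F)) :
    (a * a = 1 ∧ Ng b ∧ Ng c) ∨ (Ng a ∧ b * b = 1 ∧ Ng c) ∨ (Ng a ∧ Ng b ∧ c * c = 1) :=
  (ht.types (h.sq_sc ha)).resolve_left fun h1 => hz ((h.zt_iff ht).2 h1)

theorem cm_of_inv {p : G8 F → Prop} (hp : ∀ s ∈ S, ∀ x, p x → p (s x)) {z : G8 F} (hz : z ∈ X) (hz1 : z ≠ 1)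
    (h0 : ∀ x ∈ X, p x → ∀ s ∈ S, s z ∈ Cm (s x)) : ∀ y ∈ X, ∀ x ∈ X, p x → ∀ s ∈ S, s y ∈ Cm (s x) := by
  let Y : Subgroup (G8 F) := X ⊓ ⨅ x ∈ X, ⨅ _ : p x, ⨅ s ∈ S, (Cm (s x)).comap s.toMonoidHom
  have hY : ∀ y, y ∈ Y ↔ y ∈ X ∧ ∀ x ∈ X, p x → ∀ s ∈ S, s y ∈ Cm (s x) := fun y => by
    simp only [Y, Subgroup.mem_inf, Subgroup.mem_iInf, Subgroup.mem_comap]
    rfl
  rcases h.min Y inf_le_left (fun t ht y hy => (hY _).2 ⟨h.inv t ht y ((hY y).1 hy).1, fun x hx hpx s hs => by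
    have h1 := ((hY y).1 hy).2 (t⁻¹ x) (h.inv _ (inv_mem ht) x hx) (hp _ (inv_mem ht) x hpx) (s * t) (mul_mem hs ht)
    simpa only [_root_.MulAut.inv_apply, _root_.MulAut.mul_apply, _root_.MulEquiv.apply_symm_apply] using h1⟩) with h1 | h1
  · have h2 := (hY z).2 ⟨hz, h0⟩
    rw [h1, Subgroup.mem_bot] at h2
    exact (hz1 h2).elim
  · exact fun y hy => ((hY y).1 (h1 ▸ hy)).2

variable {J : E8 F} (hJ : (J : G8 F) ∈ X) (hN : Ng J)
include hJ hN

theorem not_zt : ¬ Zt S (J : G8 F) := fun h1 => not_neg h.two_ne hN (sq_mk.1 (h1 1 (one_mem _)))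

theorem cm_of_not_zt {x y : G8 F} (hx : x ∈ X) (hy : y ∈ X) (hx' : ¬ Zt S x) (hy' : ¬ Zt S y) : y ∈ Cm x := by
  rintro a a' rfl rfl
  obtain ⟨b, c, ht⟩ := exists_T3 a
  obtain ⟨b', c', ht'⟩ := exists_T3 a'
  obtain ⟨M, hM⟩ := h.sym1
  obtain ⟨N, hN'⟩ := h.sym2
  have k : ∀ (M : Gam (Q8 F)) (b : E8 F), ((conjE (Q8 F) M b : E8 F) : G8 F) ∈ X → Pc b (conjE (Q8 F) M⁻¹ J) :=
    fun M b hb => by
      have h1 := (h.pc hb hJ).conj M⁻¹
      rwa [conjE_inv_conjE] at h1
  exact comm_of_types h.two_ne ht ht' (h.types ht hx hx') (h.types ht' hy hy') (h.pc hx hy) (hN.conj M⁻¹)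
    (k M b ((hM _ _ _ ht).1 hx)) (k M b' ((hM _ _ _ ht').1 hy)) (hN.conj N⁻¹) (k N c ((hN' _ _ _ ht).1 hx))
    (k N c' ((hN' _ _ _ ht').1 hy))

theorem cm_all {x y : G8 F} (hx : x ∈ X) (hy : y ∈ X) : y ∈ Cm x := by
  have h0 : (J : G8 F) ≠ 1 := fun h1 => hN.nsc h.two_ne (mk_eq_one_iff.1 h1)
  have h1 := h.cm_of_inv (p := fun x => ¬ Zt S x) (fun s hs x hx h1 => hx (h1.of_map hs)) hJ h0
    fun x hx hz s hs => h.cm_of_not_zt hJ hN (h.inv s hs x hx) (h.inv s hs _ hJ) (fun h1 => hz (h1.of_map hs))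
      fun h1 => h.not_zt hJ hN (h1.of_map hs)
  exact h.cm_of_inv (p := fun _ => True) (fun _ _ _ _ => trivial) hJ h0
    (fun x hx _ s hs => Cm_symm (h1 x hx _ hJ (h.not_zt hJ hN) s hs)) y hy x hx trivial 1 (one_mem _)

theorem comm_two {a b : E8 F} (ha : (a : G8 F) ∈ X) (hb : (b : G8 F) ∈ X) : a * b = b * a :=
  h.cm_all hJ hN ha hb a b rfl rfl

theorem zt_triv {y : G8 F} (hy : y ∈ X) (hz : Zt S y) : y = 1 := by
  let Z : Subgroup (G8 F) :=
    { carrier := {y | y ∈ X ∧ Zt S y}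
      one_mem' := ⟨one_mem _, fun s _ => by rw [map_one]; exact (sq_mk (a := 1)).2 (one_mul 1)⟩
      mul_mem' := fun {u v} hu hv => ⟨mul_mem hu.1 hv.1, fun s hs => by
        obtain ⟨a, ha⟩ := QuotientGroup.mk_surjective (s u)
        obtain ⟨b, hb⟩ := QuotientGroup.mk_surjective (s v)
        have h1 := h.comm_two hJ hN (ha ▸ h.inv s hs u hu.1) (hb ▸ h.inv s hs v hv.1)
        rw [map_mul, ← ha, ← hb, ← QuotientGroup.mk_mul, sq_mk, mul_assoc, ← mul_assoc b, ← h1, mul_assoc,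
          hv.2 s hs b hb, mul_one, hu.2 s hs a ha]⟩
      inv_mem' := fun {u} hu => ⟨inv_mem hu.1, fun s hs a ha => by
        have h1 := hu.2 s hs a⁻¹ (by rw [QuotientGroup.mk_inv, ha, map_inv, inv_inv])
        rwa [← mul_inv_rev, inv_eq_one] at h1⟩ }
  rcases h.min Z (fun _ hu => hu.1) (fun s hs u hu => ⟨h.inv s hs u hu.1, hu.2.map hs⟩) with h1 | h1
  · have h2 : y ∈ Z := ⟨hy, hz⟩
    rwa [h1, Subgroup.mem_bot] at h2
  · have h2 : (J : G8 F) ∈ Z := h1 ▸ hJ
    exact (h.not_zt hJ hN h2.2).elim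

theorem exists_invol : ∃ a b c : E8 F, T3 a b c ∧ (a : G8 F) ∈ X ∧ a * a = 1 ∧ Ng b := by
  have k : ∀ a : E8 F, (a : G8 F) ∈ X → ¬ Zt S (a : G8 F) → a * a = 1 →
      ∃ a b c : E8 F, T3 a b c ∧ (a : G8 F) ∈ X ∧ a * a = 1 ∧ Ng b := fun a ha hz h1 => by
    obtain ⟨b, c, ht⟩ := exists_T3 a
    rcases h.types ht ha hz with h2 | h2 | h2
    · exact ⟨a, b, c, ht, ha, h1, h2.2.1⟩
    · exact (not_neg h.two_ne h2.1 h1).elim
    · exact (not_neg h.two_ne h2.1 h1).elim
  obtain ⟨b, c, ht⟩ := exists_T3 J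
  rcases h.types ht hJ (h.not_zt hJ hN) with h2 | h2 | h2
  · exact (not_neg h.two_ne hN h2.1).elim
  · obtain ⟨α, hα, M, hM⟩ := h.t1
    exact k _ (hM _ _ _ ht ▸ h.inv α hα _ hJ) (fun h1 => h.not_zt hJ hN (Zt.of_map hα (hM _ _ _ ht ▸ h1)))
      (conjE_sq.2 h2.2.1)
  · obtain ⟨α, hα, M, hM⟩ := h.t2
    exact k _ (hM _ _ _ ht ▸ h.inv α hα _ hJ) (fun h1 => h.not_zt hJ hN (Zt.of_map hα (hM _ _ _ ht ▸ h1)))
      (conjE_sq.2 h2.2.2)

theorem invol_cases {a b c : E8 F} (ht : T3 a b c) (ha : (a : G8 F) ∈ X) (ha1 : a * a = 1) (hb : Ng b) {y : E8 F}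
    (hy : (y : G8 F) ∈ X) (hy1 : y * y = 1) : (∃ d, Sc y d) ∨ ∃ d, Sc (y * a) d := by
  by_cases hz : Zt S (y : G8 F)
  · exact Or.inl (mk_eq_one_iff.1 (h.zt_triv hJ hN hy hz))
  obtain ⟨y₁, y₂, hty⟩ := exists_T3 y
  have h1 : Ng y₁ := by
    rcases h.types hty hy hz with h2 | h2 | h2
    · exact h2.2.1
    · exact (not_neg h.two_ne h2.1 hy1).elim
    · exact h2.2.1
  obtain ⟨M, hM⟩ := h.sym1
  have h2 := h.comm_two hJ hN ((hM _ _ _ hty).1 hy) ((hM _ _ _ ht).1 ha)
  rw [← map_mul, ← map_mul] at h2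
  have h3 := h1.mul hb ((conjE (Q8 F) M).injective h2)
  have h4 : y * a * (y * a) = 1 := by
    rw [mul_assoc, ← mul_assoc a, ← h.comm_two hJ hN hy ha, mul_assoc, ha1, mul_one, hy1]
  exact Or.inr (mk_eq_one_iff.1 (h.zt_triv hJ hN (mul_mem hy ha)
    ((h.zt_iff (hty.mul ht)).2 ⟨h4, h3, (hty.mul ht).sq_third h4 h3⟩)))

end Cx

theorem case_two_II (G : Geo) {S : Subgroup (MulAut (G8 F))} {X : Subgroup (G8 F)} (h : Cx S X 2)
    (hx : ∃ a : E8 F, (a : G8 F) ∈ X ∧ a * a ≠ 1) : Kill3 (LL S) := by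
  obtain ⟨J, hJ, hJ1⟩ := hx
  have hN : Ng J := (sq_or_ng (h.sq_sc hJ)).resolve_left hJ1
  have h2 := h.two_ne
  obtain ⟨a, b, c, ht, ha, ha1, hb⟩ := h.exists_invol hJ hN
  have haJ := h.comm_two hJ hN ha hJ
  obtain ⟨e, he, hP, hW⟩ := exists_two h2 ht ha1 hb hN haJ
  have he' : -e * -e = 1 := by rwa [neg_mul_neg]
  have hJO := E_le_O J.2
  have hJW : ∀ f : F, ∀ x ∈ Eg a f, J.1 x ∈ Eg a f := fun _ _ => Eg_comm haJ
  have hJJ : ∀ x, J.1 (J.1 x) = (0 : F) • J.1 x - x := fun x => by rw [hN.apply, zero_smul, zero_sub]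
  have h04 : (0 : F) ^ 2 ≠ 4 := fun h1 => mul_ne_zero h2 h2 (by linear_combination -h1)
  have actI : ∀ y : E8 F, (y : G8 F) ∈ X → y * y = 1 → ∃ d : F, d * d = 1 ∧ ∀ w ∈ Eg a (-e), y.1 w = d • w := by
    intro y hy hy1
    rcases h.invol_cases hJ hN ht ha ha1 hb hy hy1 with ⟨d, hd⟩ | ⟨d, hd⟩
    · exact ⟨d, hd.sq, fun w _ => hd w⟩
    · refine ⟨d * -e, by linear_combination e * e * hd.sq + he, fun w hw => ?_⟩
      rw [mul_smul, ← mem_Eg.1 hw, ← hd, e8_mul, e8_invol ha1]
  have actN : ∀ y : E8 F, (y : G8 F) ∈ X → Ng y → ∃ d : F, d * d = 1 ∧ ∀ w ∈ Eg a (-e), y.1 w = d • J.1 w := by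
    intro y hy hy1
    obtain ⟨d, hd, h1⟩ := actI (y * J) (mul_mem hy hJ) (hy1.mul hN (h.comm_two hJ hN hy hJ))
    refine ⟨-d, by rwa [neg_mul_neg], fun w hw => ?_⟩
    rw [neg_smul, ← h1 _ (hJW _ w hw), e8_mul, hN.apply, map_neg, neg_neg]
  have act : ∀ x ∈ X, ∃ y : E8 F, (y : G8 F) = x ∧ ∃ d : F, d * d = 1 ∧
      ((∀ w ∈ Eg a (-e), y.1 w = d • w) ∨ ∀ w ∈ Eg a (-e), y.1 w = d • J.1 w) := by
    intro x hx
    obtain ⟨y, rfl⟩ := QuotientGroup.mk_surjective x
    rcases sq_or_ng (h.sq_sc hx) with h1 | h1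
    · exact ⟨y, rfl, (actI y hx h1).imp fun _ hd => ⟨hd.1, Or.inl hd.2⟩⟩
    · exact ⟨y, rfl, (actN y hx h1).imp fun _ hd => ⟨hd.1, Or.inr hd.2⟩⟩
  by_cases hq : 4 ≤ Nat.card F
  · obtain ⟨u, hu, v, hv, k1, k2, k3, k4, k5⟩ := G.u2 F (V8 F) (Q8 F) (Eg a (-e)) J.1 0 (by omega) (Eg_nd h2 ha1 he')
      hJO (hJW _) (fun x _ => hJJ x) h04
    refine (h.no_sl2 G.sl2 hq k1 ((mem_O.1 hJO u).trans k1) k2 ((mem_O.1 hJO v).trans k2) k3 k4 k5 fun x hx => ?_).elim
    obtain ⟨y, hy, d, hd, h1⟩ := act x hx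
    have k : ∀ w ∈ Eg a (-e), wd (Q8 F) (y.1 w) (y.1 (J.1 w)) = wd (Q8 F) w (J.1 w) := fun w hw => by
      rcases h1 with h1 | h1
      · rw [h1 w hw, h1 _ (hJW _ w hw), wd_smul hd]
      · rw [h1 w hw, h1 _ (hJW _ w hw), wd_smul hd, wd_rot (hJJ w)]
    exact ⟨y, hy, k u hu, k v hv⟩
  have hq3 : Nat.card F ≤ 3 := by omega
  have hc : ∀ t : F, t ^ 2 - 0 * t + 1 ≠ 0 := fun t h1 => by
    by_cases h0 : t = 0
    · rw [h0] at h1
      simp at h1
    · exact h2 (by linear_combination h1 - small_sq hq3 h0)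
  refine G.c F (V8 F) (Q8 F) (LL S) (Eg a (-e)) (Eg a e) J.1 0 nondeg8' hq3
    (fun x hx y hy => (polar_comm _ _ _).trans (Eg_orth h2 he hy hx)) (by rw [sup_comm, Eg_sup h2 ha1 he]) hW hP
    (fun x hx h0 => by_contra fun hx0 => ?_) hJO (hJW _) (fun x _ => hJJ x) hc (fun M hM => ?_) fun u hu hu0 => ?_
  · have h1 : LinearIndependent F ![x, J.1 x] := by
      rw [LinearIndependent.pair_iff' hx0]
      intro t h1
      have h3 := hN.apply x
      rw [← h1, map_smul, ← h1, smul_smul, ← neg_one_smul F x] at h3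
      exact hc t (by linear_combination smul_left_injective F hx0 h3)
    have h3 := (Eg_nd h2 ha1 he).two_mul_le (U := Submodule.span F (Set.range ![x, J.1 x]))
      (Submodule.span_le.2 (by
        rintro _ ⟨i, rfl⟩
        fin_cases i
        exacts [hx, hJW _ x hx])) fun y hy z hz => polar_of_ts (fun w hw => by
          rw [Matrix.range_cons, Matrix.range_cons, Matrix.range_empty, Set.union_empty, Set.singleton_union,
            Submodule.mem_span_pair] at hw
          obtain ⟨s, t, rfl⟩ := hw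
          rw [Q_add, QuadraticMap.map_smul, QuadraticMap.map_smul, polar_smul_left, polar_smul_right, mem_O.1 hJO,
            polar_rot hJO (hJJ x) h04, h0]
          simp) hy hz
    rw [finrank_span_eq_card h1, Fintype.card_fin] at h3
    omega
  · have h1 : ∃ d : F, d * d = 1 ∧ ∀ f : F, f * f = 1 → ∀ x ∈ Eg a f, M.1 x ∈ Eg a (d * f) := by
      rcases h.invol_cases hJ hN ht ha ha1 hb (h.conjE_mem hM ha) (conjE_sq.2 ha1) with ⟨d, hd⟩ | ⟨d, hd⟩
      · have h3 := hd.conj M⁻¹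
        rw [conjE_inv_conjE] at h3
        obtain ⟨d', -, h4, -, -⟩ := ht.sc h3
        exact (hb.nsc h2 ⟨d', h4⟩).elim
      · refine ⟨d, hd.sq, fun f hf x hx => mem_Eg.2 ?_⟩
        have h3 := hd (a.1 (M.1 x))
        rw [e8_mul, e8_invol ha1, conjE_apply, mem_Eg.1 hx, gam_sign M hf] at h3
        rw [mul_smul, h3, smul_smul, hd.sq, one_smul]
    obtain ⟨d, hd, h1⟩ := h1
    rcases sq_cases hd with rfl | rfl
    · simp only [one_mul] at h1
      refine ⟨h1 _ he', h1 _ he, ?_⟩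
      obtain ⟨d, hd, h3⟩ := actN _ (h.conjE_mem hM hJ) (hN.conj M)
      rcases sq_cases hd with rfl | rfl
      · exact Or.inl fun x hx => by rw [← conjE_apply, h3 _ (h1 _ he' x hx), one_smul]
      · exact Or.inr fun x hx => by
          rw [← conjE_apply, h3 _ (h1 _ he' x hx), neg_one_smul, map_neg, hN.apply, neg_neg]
    · have h3 := finrank_le_of_maps M (h1 _ he')
      rw [neg_mul_neg, one_mul] at h3
      omega
  · refine h.rot_mem hu0 (mem_O.1 hJO u) fun x hx => ?_
    obtain ⟨y, hy, d, hd, h1⟩ := act x hx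
    have hd0 : d ≠ 0 := left_ne_zero_of_mul_eq_one hd
    refine ⟨y, hy, ?_⟩
    rcases h1 with h1 | h1
    · rw [h1 u hu, h1 _ (hJW _ u hu), rr_smul hd0, rr_smul hd0]
    · rw [h1 u hu, h1 _ (hJW _ u hu), rr_smul hd0, rr_smul hd0, rr_rot hJO (hJJ u) h04 hu0]

end Cfsg.Agent.SB.D4
end

-- part: SB/SporD/Fi/Two
section
prune_inst 0x7444104002000000008201003844cc000192006b880159400a400006334300400f0154a01a02012aaa20200b8020011000c940100000200086004001002084aa62c03200b10425000fc0f887180c00000000000000000000000000051004000000000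
set_option linter.all false
open scoped Cfsg.Agent.FastGrp

/-!
# S5765, the rows `Fi22` and `Fi23`: no 2-local subgroup is solvable (helper18)
-/

set_option autoImplicit false
set_option linter.unusedSectionVars false

namespace Cfsg.Agent.SB.SporD.Fi

open Subgroup Cfsg Cfsg.Agent.H786.FC Cfsg.Agent.H251
open Cfsg.Agent.SB.SporB (norm_of conj_of_norm mem_cent norm_cent)

variable {G : Type*} [Group G] [Finite G] {D : Set G}

namespace Two

variable (T : Two D)
include T

theorem inv {a : G} (ha : a ∈ D) : a⁻¹ = a := inv_eq_of_mul_eq_one_right (T.sq a ha)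

theorem conj {a : G} (ha : a ∈ D) (g : G) : g * a * g⁻¹ ∈ D := T.aut (MulAut.conj g) a ha

theorem comm_of {a d : G} (ha : a ∈ D) (hd : d ∈ D) (h : Commute (d * a * d⁻¹) a) : Commute d a := by
  by_contra h1
  rw [T.inv hd, T.three d hd a ha h1] at h
  have h2 := h.eq
  rw [mul_assoc _ a a, T.sq a ha, mul_one, ← mul_assoc, ← mul_assoc, T.sq a ha, one_mul] at h2
  exact h1 h2.symm

/-- the symmetric group of degree five is not solvable -/
theorem path {H : Subgroup G} (hs : Group.IsSolvable H) {a b c d : G} (ha : a ∈ D) (hb : b ∈ D) (hc : c ∈ D) (hd : d ∈ D)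
    (ka : a ∈ H) (kb : b ∈ H) (kc : c ∈ H) (kd : d ∈ H) (ab : ¬ Commute a b) (bc : ¬ Commute b c) (cd : ¬ Commute c d)
    (ac : Commute a c) (ad : Commute a d) (bd : Commute b d) : False := by
  have sq : ∀ {u : G}, u ∈ D → ∀ x, u * (u * x) = x := fun hu x => by rw [← mul_assoc, T.sq _ hu, one_mul]
  have br : ∀ {u v : G}, u ∈ D → v ∈ D → ¬ Commute u v → ∀ x, v * (u * (v * x)) = u * (v * (u * x)) := fun hu hv h x => by
    rw [← mul_assoc, ← mul_assoc, ← T.three _ hu _ hv h, mul_assoc, mul_assoc]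
  have r1 := br ha hb ab
  have r2 := br hb hc bc
  have r3 := br hc hd cd
  have r4 : ∀ x, c * (a * x) = a * (c * x) := fun x => ac.symm.left_comm x
  have r5 : ∀ x, d * (a * x) = a * (d * x) := fun x => ad.symm.left_comm x
  have r6 : ∀ x, d * (b * x) = b * (d * x) := fun x => bd.symm.left_comm x
  have r7 : ∀ x, c * (b * (a * (c * x))) = b * (c * (b * (a * x))) := fun x => by rw [← r4, r2]
  have r8 : ∀ x, d * (c * (b * (d * x))) = c * (d * (c * (b * x))) := fun x => by rw [← r6, r3]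
  have r9 : ∀ x, d * (c * (b * (a * (d * x)))) = c * (d * (c * (b * (a * x)))) := fun x => by rw [← r5, r8]
  have k1 : ∀ x, (a * c) ^ 2 * x = x := fun x => by
    simp only [pow_succ, pow_zero, one_mul, mul_assoc, sq ha, sq hc, r4]
  have k2 : ∀ x, (b * (d * c * d)) ^ 3 * x = x := fun x => by
    simp only [pow_succ, pow_zero, one_mul, mul_assoc, sq hb, sq hc, sq hd, r2, r6]
  have k3 : ∀ x, (a * c * (b * (d * c * d))) ^ 5 * x = x := fun x => by
    simp only [pow_succ, pow_zero, one_mul, mul_assoc, sq ha, sq hb, sq hc, sq hd, r1, r2, r3, r4, r5, r6, r7, r8, r9]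
  have h1 := Spor.eq_one_of_coprime hs (mul_mem ka kc) (mul_mem kb (mul_mem (mul_mem kd kc) kd)) (by simpa using k1 1)
    (by simpa using k2 1) (by simpa using k3 1) (by norm_num) (by norm_num) (by norm_num)
  rw [← T.inv hc, mul_inv_eq_one] at h1
  exact cd (h1 ▸ ad)

end Two

/-- a product of two commuting members of `D` in `V` -/
structure Pr (D : Set G) (V : Subgroup G) (a b : G) : Prop where
  l : a ∈ D
  r : b ∈ D
  ne : a ≠ b
  comm : Commute a b
  mem : a * b ∈ V

theorem Pr.symm {V : Subgroup G} {a b : G} (h : Pr D V a b) : Pr D V b a := ⟨h.r, h.l, h.ne.symm, h.comm.symm, h.comm.eq ▸ h.mem⟩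

theorem Pr.map {V : Subgroup G} {a b : G} (h : Pr D V a b) (T : Two D) {σ : MulAut G} (hσ : ∀ v ∈ V, σ v ∈ V) :
    Pr D V (σ a) (σ b) :=
  ⟨T.aut σ a h.l, T.aut σ b h.r, σ.injective.ne h.ne, h.comm.map σ, map_mul σ a b ▸ hσ _ h.mem⟩

/-- the context -/
structure Cx (D : Set G) (S : Subgroup (MulAut G)) (Q V : Subgroup G) : Prop where
  T : Two D
  max : ∀ (X : Subgroup G) (e : G), e ∈ X → e ≠ 1 → (∀ x ∈ X, Commute x e) → (∀ σ ∈ S, ∀ x ∈ X, σ x ∈ X) →
    Group.IsSolvable (normalizer (X : Set G))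
  ne : ∃ v ∈ V, v ≠ 1
  inv : ∀ σ ∈ S, ∀ v ∈ V, σ v ∈ V
  pg : IsPGroup 2 Q
  sq : ∀ v ∈ V, v * v = 1
  comm : ∀ v ∈ V, ∀ w ∈ V, Commute v w
  cent : ∀ q ∈ Q, ∀ v ∈ V, Commute q v
  core : ∀ r ∈ V, ∀ B : Subgroup G, IsPGroup 2 B → (∀ g, Commute g r → ∀ s ∈ B, g * s * g⁻¹ ∈ B) →
    ∀ s ∈ B, s * s = 1 → (∀ q ∈ Q, Commute q s) → s ∈ V

theorem solv_le {A B : Subgroup G} (h : A ≤ B) (hB : Group.IsSolvable B) : Group.IsSolvable A :=
  Group.isSolvable_of_isSolvable_injective (f := inclusion h) (inclusion_injective h)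

theorem closure_inv {S : Subgroup (MulAut G)} {E : Set G} (h : ∀ σ ∈ S, ∀ x ∈ E, σ x ∈ E) :
    ∀ σ ∈ S, ∀ x ∈ _root_.Subgroup.closure E, σ x ∈ closure E := fun σ hσ =>
  show closure E ≤ (closure E).comap σ.toMonoidHom from (closure_le _).2 fun x hx => _root_.Subgroup.subset_closure (h σ hσ x hx)

theorem closure_comm {E : Set G} {e : G} (h : ∀ x ∈ E, Commute x e) : ∀ x ∈ _root_.Subgroup.closure E, Commute x e := fun _ hx =>
  mem_centralizer_singleton_iff.1 ((closure_le (centralizer {e})).2 (fun y hy => mem_centralizer_singleton_iff.2 (h y hy)) hx)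

/-- a short orbit -/
theorem exists_orbit {Q : Subgroup G} (hQ : IsPGroup 2 Q) {H : Finset G} (h4 : ¬ 4 ∣ H.card)
    (hn : ∀ q ∈ Q, ∀ h ∈ H, q * h * q⁻¹ ∈ H) :
    ∃ h ∈ H, ∃ k ∈ H, (∃ q ∈ Q, q * h * q⁻¹ = k) ∧ ∀ q ∈ Q, q * h * q⁻¹ = h ∨ q * h * q⁻¹ = k := by
  have _ : Fact (Nat.Prime 2) := ⟨Nat.prime_two⟩
  let act : MulAction Q H :=
    { smul := fun q h => ⟨q * h * (q : G)⁻¹, hn q q.2 h h.2⟩
      one_smul := fun h => Subtype.ext (show (1 : G) * h * (1 : G)⁻¹ = h by group)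
      mul_smul := fun p q h => Subtype.ext
        (show (p : G) * q * h * ((p : G) * q)⁻¹ = p * (q * h * (q : G)⁻¹) * (p : G)⁻¹ by group) }
  have _ := Fintype.ofFinite (MulAction.orbitRel.Quotient Q H)
  obtain ⟨h, hh⟩ : ∃ h : H, ¬ 4 ∣ Nat.card (MulAction.orbit Q h) := by
    by_contra hc
    push Not at hc
    apply h4
    rw [← Fintype.card_coe, ← Nat.card_eq_fintype_card, Nat.card_congr (MulAction.selfEquivSigmaOrbits Q H), Nat.card_sigma]
    exact Finset.dvd_sum fun ω _ => hc _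
  obtain ⟨n, h1⟩ := hQ.card_orbit h
  have h2 : (MulAction.orbit Q h).ncard ≤ 2 := by
    rw [← Nat.card_coe_set_eq, h1]
    rw [h1] at hh
    have h3 : n ≤ 1 := by
      by_contra h3
      exact hh (pow_dvd_pow 2 (show 2 ≤ n by omega))
    interval_cases n <;> norm_num
  by_cases h3 : ∀ q ∈ Q, q * h * q⁻¹ = h
  · exact ⟨h, h.2, h, h.2, ⟨1, one_mem _, by group⟩, fun q hq => Or.inl (h3 q hq)⟩
  push Not at h3
  obtain ⟨q, hq, h3⟩ := h3
  refine ⟨h, h.2, _, hn q hq h h.2, ⟨q, hq, rfl⟩, fun p hp => ?_⟩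
  by_contra h5
  push Not at h5
  have h6 : 2 < (MulAction.orbit Q h).ncard := (Set.two_lt_ncard (Set.toFinite _)).2
    ⟨h, MulAction.mem_orbit_self h, _, MulAction.mem_orbit h (⟨q, hq⟩ : Q), _, MulAction.mem_orbit h (⟨p, hp⟩ : Q),
      fun k => h3 (congrArg Subtype.val k).symm, fun k => h5.1 (congrArg Subtype.val k).symm,
      fun k => h5.2 (congrArg Subtype.val k).symm⟩
  omega

namespace Cx

variable {S : Subgroup (MulAut G)} {Q V : Subgroup G} (C : Cx D S Q V)
include C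

/-- no invariant clique -/
theorem no_clique {E : Set G} (h1 : E ⊆ D) (h2 : ∀ a ∈ E, ∀ b ∈ E, Commute a b) (h3 : ∀ σ ∈ S, ∀ a ∈ E, σ a ∈ E) {e : G}
    (he : e ∈ E) : False := by
  refine C.T.clique E h1 ⟨e, he⟩ h2 (C.max _ e (subset_closure ⟨h1 he, h2 e he⟩) (C.T.ne e (h1 he))
    (closure_comm fun x hx => hx.2 e he) (closure_inv fun σ hσ x hx => ⟨C.T.aut σ x hx.1, fun a ha => ?_⟩))
  have h4 := (hx.2 _ (h3 σ⁻¹ (inv_mem hσ) a ha)).map σ
  rwa [MulAut.apply_inv_self] at h4

theorem not_mem {v : G} (hv : v ∈ V) : v ∉ D := fun h =>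
  C.no_clique (E := D ∩ V) Set.inter_subset_left (fun a ha b hb => C.comm a ha.2 b hb.2)
    (fun σ hσ a ha => ⟨C.T.aut σ a ha.1, C.inv σ hσ a ha.2⟩) ⟨h, hv⟩

theorem exists_nbr {h k : G} (p : Pr D V h k) : ∃ c d, Pr D V c d ∧ ¬ Commute h c := by
  by_contra hc
  push Not at hc
  refine C.no_clique (E := {x | (∃ y, Pr D V x y) ∧ ∀ c d, Pr D V c d → Commute x c}) (fun x ⟨⟨_, q⟩, _⟩ => q.l)
    (fun a ha b ⟨⟨y, q⟩, _⟩ => ha.2 b y q) (fun σ hσ a ⟨⟨y, q⟩, ha⟩ => ⟨⟨_, q.map C.T (C.inv σ hσ)⟩, fun c d q' => ?_⟩)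
    (e := h) ⟨⟨k, p⟩, hc⟩
  have h4 := (ha _ _ (q'.map C.T (C.inv _ (inv_mem hσ)))).map σ
  rwa [MulAut.apply_inv_self] at h4

/-- the factors attached to an element of `V` -/
theorem star {r : G} (hr : r ∈ V) (h1 : r ≠ 1) : ∃ h k, Pr D V h k ∧ (∀ d ∈ D, Commute d r → Commute d h) ∧
    ∀ x y, Pr D V x y → r * (h * k) ≠ x * y := by
  obtain ⟨H, k1, k2, k3, k4, k5⟩ := C.T.invol r (C.sq r hr) h1 (C.not_mem hr)
  have hc : ∀ x ∈ _root_.Subgroup.closure (H : Set G), ∀ y ∈ closure (H : Set G), Commute x y := fun x hx y hy =>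
    closure_comm (fun z hz => (closure_comm (fun w hw => k2 w hw z hz) y hy).symm) x hx
  have hs : ∀ x ∈ closure (H : Set G), x * x = 1 := fun x hx => by
    induction hx using closure_induction with
    | mem x hx => exact C.T.sq x (k1 x hx)
    | one => exact mul_one 1
    | mul x y hx hy h2 h3 => rw [(hc y hy x hx).mul_mul_mul_comm, h2, h3, mul_one]
    | inv x hx h2 => rw [← mul_inv_rev, h2, inv_one]
  have key := C.core r hr (closure (H : Set G)) (isPGroup_of_pow_two fun x hx => by rw [pow_two, hs x hx])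
    fun g hg => show closure (H : Set G) ≤ (closure (H : Set G)).comap (MulAut.conj g).toMonoidHom from
      (closure_le _).2 fun x hx => _root_.Subgroup.subset_closure (k4 g hg x hx)
  obtain ⟨h, hh, k, hk, ⟨q, hq, l1⟩, l2⟩ := exists_orbit C.pg k3 fun q hq => k4 q (C.cent q hq r hr)
  have hne : h ≠ k := by
    rintro rfl
    exact C.not_mem (key h (_root_.Subgroup.subset_closure hh) (C.T.sq h (k1 h hh)) fun p hp =>
      mul_inv_eq_iff_eq_mul.1 ((l2 p hp).elim id id)) (k1 h hh)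
  have hm : h * k ∈ closure (H : Set G) := mul_mem (_root_.Subgroup.subset_closure hh) (_root_.Subgroup.subset_closure hk)
  refine ⟨h, k, ⟨k1 h hh, k1 k hk, hne, k2 h hh k hk, key _ hm (hs _ hm) fun p hp => ?_⟩,
    fun d hd l => C.T.comm_of (k1 h hh) hd (k2 _ (k4 d l h hh) h hh),
    fun x y p => mul_assoc r h k ▸ k5 h hh k hk hne x p.l y p.r p.ne p.comm⟩
  have l3 := l2 _ (mul_mem hp hq)
  rw [show p * q * h * (p * q)⁻¹ = p * (q * h * q⁻¹) * p⁻¹ by group, l1] at l3
  have l4 : p * h * p⁻¹ ≠ p * k * p⁻¹ := fun e => hne (by simpa only [_root_.mul_left_inj, _root_.mul_right_inj] using e)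
  refine mul_inv_eq_iff_eq_mul.1 ?_
  rw [← conj_mul]
  rcases l2 p hp with e1 | e1 <;> rcases l3 with e2 | e2
  · exact absurd (e1.trans e2.symm) l4
  · rw [e1, e2]
  · rw [e1, e2, (k2 h hh k hk).eq]
  · exact absurd (e1.trans e2.symm) l4

theorem swap {a b g : G} (p : Pr D V a b) (hg : Commute g (a * b)) : g * a * g⁻¹ = a ∨ g * a * g⁻¹ = b :=
  C.T.uniq a p.l b p.r _ (C.T.conj p.l g) _ (C.T.conj p.r g) p.ne p.comm (p.comm.map (MulAut.conj g))
    (by rw [conj_mul, hg.eq, mul_inv_cancel_right])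

theorem act {a b v : G} (p : Pr D V a b) (hv : v ∈ V) (h : ¬ Commute a v) : a * v * a⁻¹ = v * (a * b) := by
  have h1 := (C.swap p (C.comm v hv _ p.mem)).resolve_left fun k => h (mul_inv_eq_iff_eq_mul.1 k).symm
  have h2 : v⁻¹ = v := inv_eq_of_mul_eq_one_right (C.sq v hv)
  rw [h2] at h1
  rw [C.T.inv p.l, p.comm.eq, ← h1, ← mul_assoc, ← mul_assoc, ← mul_assoc, C.sq v hv, one_mul]

theorem norm {a b : G} (p : Pr D V a b) : ∀ v ∈ V, a * v * a⁻¹ ∈ V := fun v hv => by
  by_cases h : Commute a v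
  · rwa [h.eq, mul_inv_cancel_right]
  · rw [C.act p hv h]
    exact mul_mem hv p.mem

theorem both {a b v w : G} (p : Pr D V a b) (hv : v ∈ V) (hw : w ∈ V) (h1 : ¬ Commute a v) (h2 : ¬ Commute a w) :
    Commute a (v * w) := by
  refine mul_inv_eq_iff_eq_mul.1 ?_
  rw [← conj_mul, C.act p hv h1, C.act p hw h2, (C.comm _ p.mem w hw).mul_mul_mul_comm, C.sq _ p.mem, mul_one]

theorem comm_iff {a b c d : G} (p : Pr D V a b) (q : Pr D V c d) : Commute a (c * d) ↔ Commute a c := by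
  refine ⟨fun h => C.T.comm_of q.l p.l ?_, fun h => h.mul_right (C.T.comm_of p.l q.r ?_).symm⟩
  · rcases C.swap q h with k | k
    · rw [k]
    · rw [k]
      exact q.comm.symm
  · have h1 : Commute (c * d * a * (c * d)⁻¹) a := by
      rcases C.swap p (C.comm _ q.mem _ p.mem) with k | k
      · rw [k]
      · rw [k]
        exact p.comm.symm
    have h2 := h1.map (MulAut.conj c⁻¹)
    rwa [MulAut.conj_apply, MulAut.conj_apply, show c⁻¹ * (c * d * a * (c * d)⁻¹) * c⁻¹⁻¹ = d * a * d⁻¹ by group,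
      ← h.inv_right.eq, mul_inv_cancel_right] at h2

theorem solv : Group.IsSolvable (normalizer (V : Set G)) := by
  obtain ⟨v, hv, h1⟩ := C.ne
  exact C.max V v hv h1 (fun x hx => C.comm x hx v hv) C.inv

theorem mem_norm {a b : G} (p : Pr D V a b) : a ∈ normalizer (V : Set G) := mem_normalizer_fintype (C.norm p)

/-- a neighbour of `h` is a neighbour of one of two factors, and not of the other -/
theorem nbr {a b c d h k : G} (p : Pr D V a b) (q : Pr D V c d) (s : Pr D V h k)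
    (hh : ∀ x ∈ D, Commute x (a * b * (c * d)) → Commute x h) :
    ∃ x y, Pr D V x y ∧ ¬ Commute h x ∧ (¬ Commute x a ∧ Commute x c ∨ Commute x a ∧ ¬ Commute x c) := by
  obtain ⟨x, y, u, hx⟩ := C.exists_nbr s
  have h1 : ¬ Commute x (a * b * (c * d)) := fun h => hx (hh x u.l h).symm
  refine ⟨x, y, u, hx, ?_⟩
  rw [← C.comm_iff u p, ← C.comm_iff u q]
  by_cases k1 : Commute x (a * b) <;> by_cases k2 : Commute x (c * d)
  · exact absurd (k1.mul_right k2) h1
  · exact Or.inr ⟨k1, k2⟩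
  · exact Or.inl ⟨k1, k2⟩
  · exact absurd (C.both u p.mem q.mem k1 k2) h1

theorem ne_one {v w : G} (hw : w ∈ V) (h : v ≠ w) : v * w ≠ 1 := fun k =>
  h (mul_right_cancel (k.trans (C.sq w hw).symm))

/-- paths of length two -/
theorem two {a b c d e f : G} (p : Pr D V a b) (q : Pr D V c d) (s : Pr D V e f) (h1 : ¬ Commute a e) (h2 : ¬ Commute e c)
    (h3 : Commute a c) : a * b = c * d := by
  by_contra hne
  obtain ⟨h, k, u, k1, -⟩ := C.star (mul_mem p.mem q.mem) (C.ne_one q.mem hne)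
  have l1 := k1 a p.l (((Commute.refl a).mul_right p.comm).mul_right ((C.comm_iff p q).2 h3))
  have l2 := k1 c q.l (((C.comm_iff q p).2 h3.symm).mul_right ((Commute.refl c).mul_right q.comm))
  have l3 := k1 e s.l (C.both s p.mem q.mem (fun k => h1 ((C.comm_iff s p).1 k).symm) fun k => h2 ((C.comm_iff s q).1 k))
  have key : ∀ {a b c d x y : G}, Pr D V a b → Pr D V c d → Pr D V x y → ¬ Commute a e → ¬ Commute e c → Commute a h →
      Commute c h → ¬ Commute h x → ¬ Commute x c → Commute x a → False := by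
    intro a b c d x y p q w h1 h2 l1 l2 m1 m2 m3
    by_cases m4 : Commute x e
    · exact C.T.path C.solv u.l w.l q.l s.l (C.mem_norm u) (C.mem_norm w) (C.mem_norm q) (C.mem_norm s) m1 m2
        (fun k => h2 k.symm) l2.symm l3.symm m4
    · exact C.T.path C.solv p.l s.l w.l u.l (C.mem_norm p) (C.mem_norm s) (C.mem_norm w) (C.mem_norm u) h1
        (fun k => m4 k.symm) (fun k => m1 k.symm) m3.symm l1 l3
  obtain ⟨x, y, w, m1, ⟨m2, m3⟩ | ⟨m2, m3⟩⟩ := C.nbr p q u k1
  · exact key q p w (fun k => h2 k.symm) (fun k => h1 k.symm) l2 l1 m1 m2 m3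
  · exact key p q w h1 h2 l1 l2 m1 m3 m2

/-- commuting factors -/
theorem eq_of_comm {a b c d : G} (p : Pr D V a b) (q : Pr D V c d) (h3 : Commute a c) : a * b = c * d := by
  by_contra hne
  obtain ⟨h, k, u, k1, k2⟩ := C.star (mul_mem p.mem q.mem) (C.ne_one q.mem hne)
  have l1 := k1 a p.l (((Commute.refl a).mul_right p.comm).mul_right ((C.comm_iff p q).2 h3))
  have l2 := k1 c q.l (((C.comm_iff q p).2 h3.symm).mul_right ((Commute.refl c).mul_right q.comm))
  obtain ⟨x, y, w, m1, ⟨m2, -⟩ | ⟨-, m3⟩⟩ := C.nbr p q u k1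
  · refine k2 c d q ?_
    rw [← C.two p u w (fun k => m2 k.symm) (fun k => m1 k.symm) l1, (C.comm _ p.mem _ q.mem).eq, mul_assoc (c * d),
      C.sq _ p.mem, mul_one]
  · refine k2 a b p ?_
    rw [← C.two q u w (fun k => m3 k.symm) (fun k => m1 k.symm) l2, mul_assoc (a * b), C.sq _ q.mem, mul_one]

theorem no : False := by
  obtain ⟨v, hv, h1⟩ := C.ne
  obtain ⟨a, b, p, -⟩ := C.star hv h1
  obtain ⟨c, d, q, hac⟩ := C.exists_nbr p
  have h2 : ¬ Commute c (a * b) := fun k => hac ((C.comm_iff q p).1 k).symm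
  have s : Pr D V (c * a * c⁻¹) (c * b * c⁻¹) := p.map C.T (σ := MulAut.conj c) (C.norm q)
  have hs : c * a * c⁻¹ * (c * b * c⁻¹) = a * b * (c * d) := by rw [conj_mul, C.act q p.mem h2]
  have h3 : ∀ x y, Pr D V x y → x * y = a * b ∨ x * y = c * d ∨ x * y = a * b * (c * d) := fun x y w => by
    by_cases k1 : Commute x (a * b)
    · exact Or.inl (C.eq_of_comm w p ((C.comm_iff w p).1 k1))
    by_cases k2 : Commute x (c * d)
    · exact Or.inr (Or.inl (C.eq_of_comm w q ((C.comm_iff w q).1 k2)))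
    · exact Or.inr (Or.inr (hs ▸ C.eq_of_comm w s ((C.comm_iff w s).1 (hs ▸ C.both w p.mem q.mem k1 k2))))
  have h4 := C.max (_root_.Subgroup.closure {t | ∃ x y, Pr D V x y ∧ t = x * y}) (a * b) (subset_closure ⟨a, b, p, rfl⟩)
    (fun k => p.ne (by rw [← C.T.inv p.r, ← mul_eq_one_iff_eq_inv, k]))
    (closure_comm fun t ⟨x, y, w, e⟩ => e ▸ C.comm _ w.mem _ p.mem)
    (closure_inv fun σ hσ t ⟨x, y, w, e⟩ => ⟨_, _, w.map C.T (C.inv σ hσ), e ▸ map_mul σ x y⟩)
  refine C.T.tri a p.l c q.l b p.r p.ne p.comm hac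
    (fun k => hac ((C.comm_iff p q).1 ?_)) (solv_le (fun g hg => ?_) h4)
  · have k1 := ((C.comm_iff p.symm q).2 k).mul_left (C.comm _ p.symm.mem _ q.mem)
    rwa [← mul_assoc, C.T.sq b p.r, one_mul] at k1
  · have k1 : Commute a g := mem_centralizer_iff.1 hg a (by simp)
    have k2 : Commute c g := mem_centralizer_iff.1 hg c (by simp)
    have k3 : Commute b g := mem_centralizer_iff.1 hg b (by simp)
    have k4 := k1.mul_left k3
    have k5 : Commute d g := by
      rw [← (C.swap q (C.comm _ p.mem _ q.mem)).resolve_left fun k => h2 (mul_inv_eq_iff_eq_mul.1 k).symm]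
      exact (k4.mul_left k2).mul_left k4.inv_left
    refine mem_normalizer_fintype fun t ht => ?_
    have k6 : Commute t g := closure_comm (E := {t | ∃ x y, Pr D V x y ∧ t = x * y}) (fun t ⟨x, y, w, e⟩ => by
      rcases h3 x y w with l | l | l <;> rw [e, l]
      exacts [k4, k2.mul_left k5, k4.mul_left (k2.mul_left k5)]) t ht
    rwa [← k6.eq, mul_inv_cancel_right]

end Cx

/-- **`O₂(S ⊓ T) = 1`.** -/
theorem boxTwo : BoxTwo := by
  intro G _ _ _ hG D T S hS hm X h1 h2 h3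
  by_contra h0
  have hinj := conj_injective hG
  have hc : ∀ (σ : MulAut G) (g : G), σ * MulAut.conj g * σ⁻¹ = MulAut.conj (σ g) := fun σ g => by
    ext x
    simp only [_root_.MulAut.mul_apply, _root_.MulAut.inv_apply, _root_.MulAut.conj_apply, _root_.map_mul, _root_.MulEquiv.apply_symm_apply, _root_.map_inv]
  set R := S.comap (MulAut.conj : G →* MulAut G)
  have hmax : ∀ (X : Subgroup G) (e : G), e ∈ X → e ≠ 1 → (∀ x ∈ X, Commute x e) → (∀ σ ∈ S, ∀ x ∈ X, σ x ∈ X) →
      normalizer (X : Set G) ≤ R := by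
    intro X e k1 k2 k3 k4 g hg
    refine hm.mem_of_normalizes (as_inn hG) (X := X.map MulAut.conj)
      (fun k => k2 (hinj ((mem_bot.1 (k ▸ mem_map_of_mem _ k1)).trans (map_one _).symm))) (fun k => k2 (hinj ?_)) ?_
      ⟨g, rfl⟩ ?_
    · rw [map_one]
      ext x
      obtain ⟨y, hy, e1⟩ := k ⟨x, rfl⟩
      rw [MulAut.conj_apply, ← hinj e1, ← (k3 y hy).eq, mul_inv_cancel_right, MulAut.one_apply]
    · rintro σ hσ _ ⟨x, hx, rfl⟩
      exact ⟨_, k4 σ hσ x hx, (hc σ x).symm⟩
    · rintro _ ⟨x, hx, rfl⟩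
      exact ⟨_, conj_of_norm hg hx, (hc (MulAut.conj g) x).symm⟩
  have hR : ∀ σ ∈ S, ∀ g ∈ R, σ g ∈ R := fun σ hσ g hg =>
    mem_comap.2 (hc σ g ▸ mul_mem (mul_mem hσ hg) (inv_mem hσ))
  have hQ : ∀ σ ∈ S, ∀ q ∈ pCoreOf 2 R, σ q ∈ pCoreOf 2 R := fun σ hσ q hq => by
    refine le_pCoreOf ((pCoreOf_isPGroup R).map σ.toMonoidHom) ?_ (norm_of ?_) (mem_map_of_mem _ hq)
    · rintro _ ⟨x, hx, rfl⟩
      exact hR σ hσ x (pCoreOf_le R hx)
    · rintro g hg _ ⟨x, hx, rfl⟩
      exact ⟨_, conj_of_norm (le_normalizer_pCoreOf R (hR _ (inv_mem hσ) g hg)) hx, by simp only [_root_.MulEquiv.toMonoidHom_eq_coe, _root_.MulAut.inv_apply, _root_.MonoidHom.coe_coe, _root_.map_mul, _root_.MulEquiv.apply_symm_apply, _root_.map_inv]⟩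
  have hV : ∀ σ ∈ S, ∀ v ∈ omegaCenterOf (pCoreOf 2 R), σ v ∈ omegaCenterOf (pCoreOf 2 R) := fun σ hσ v hv => by
    obtain ⟨k1, k2, k3⟩ := mem_omegaCenterOf.1 hv
    refine mem_omegaCenterOf.2 ⟨hQ σ hσ v k1, mem_cent.2 fun x hx => ?_, by rw [← map_pow, k3, map_one]⟩
    have k4 := congrArg σ (mem_cent.1 k2 _ (hQ _ (inv_mem hσ) x hx))
    simpa only [_root_.MulAut.inv_apply, _root_.map_mul, _root_.MulEquiv.apply_symm_apply] using k4
  have hne : pCoreOf 2 R ≠ ⊥ := fun hb => h0 ((eq_bot_iff_forall _).2 fun x hx => by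
    obtain ⟨g, rfl⟩ := (h1 hx).2
    have k : g ∈ pCoreOf 2 R := le_pCoreOf (U := X.comap MulAut.conj) (h2.comap_of_injective _ hinj)
      (fun y hy => (h1 hy).1) (norm_of fun y hy z hz => by
        rw [mem_comap, map_mul, map_mul, map_inv]
        exact h3 _ hy _ hz) hx
    rw [hb, mem_bot] at k
    rw [k, map_one])
  obtain ⟨⟨v, hv⟩, hv1⟩ := ne_bot_iff_exists_ne_one.1 (omegaCenterOf_ne_bot (pCoreOf_isPGroup R) hne)
  have hv2 : v ≠ 1 := fun k => hv1 (Subtype.ext k)
  have hcent : ∀ q ∈ pCoreOf 2 R, ∀ v ∈ omegaCenterOf (pCoreOf 2 R), Commute q v := fun q hq v hv =>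
    (mem_cent.1 (mem_omegaCenterOf.1 hv).2.1 q hq).symm
  have hcomm : ∀ v ∈ omegaCenterOf (pCoreOf 2 R), ∀ w ∈ omegaCenterOf (pCoreOf 2 R), Commute v w := fun v hv =>
    hcent v (mem_omegaCenterOf.1 hv).1
  have hsol := Spor.comap_solvable hG hS
  refine Cx.no (D := D) (S := S) (Q := pCoreOf 2 R) (V := omegaCenterOf (pCoreOf 2 R)) ⟨T, fun X e k1 k2 k3 k4 =>
    solv_le (hmax X e k1 k2 k3 k4) hsol, ⟨v, hv, hv2⟩, hV,
    pCoreOf_isPGroup R, fun v hv => by rw [← pow_two, (mem_omegaCenterOf.1 hv).2.2], hcomm, hcent,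
    fun r hr B k1 k2 s k3 k4 k5 => ?_⟩
  have k6 : s ∈ centralizer (pCoreOf 2 R : Set G) := mem_cent.2 fun q hq => (k5 q hq).symm
  have k7 : centralizer (pCoreOf 2 R : Set G) ≤ R := fun g hg =>
    hmax _ v hv hv2 (fun x hx => hcomm x hx v hv) hV (mem_normalizer_fintype fun x hx => by
      rwa [mem_cent.1 hg x (mem_omegaCenterOf.1 hx).1, mul_inv_cancel_right])
  refine mem_omegaCenterOf.2 ⟨pCoreOf_mono_of_normal k7 ((le_normalizer_pCoreOf R).trans norm_cent)
    (le_pCoreOf (U := B ⊓ centralizer (pCoreOf 2 R : Set G)) k1.to_inf_left inf_le_right (norm_of fun g hg x hx =>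
      ⟨k2 g (mem_cent.1 hg r (mem_omegaCenterOf.1 hr).1) x hx.1, Subgroup.mul_mem _ (Subgroup.mul_mem _ hg hx.2) (Subgroup.inv_mem _ hg)⟩)
      ⟨k3, k6⟩), k6,
    by rw [pow_two, k4]⟩

end Cfsg.Agent.SB.SporD.Fi
end

-- part: SB/SporF/RowMcL
section
set_option linter.all false
open scoped Cfsg.Agent.FastGrp

-- part: SB/SporF/McL/Data
section
/-! S5765, row of McL: data (generated by notes/SB/spor_tools, helper63) -/

set_option autoImplicit false

namespace Cfsg.Agent.SB.SporF.McL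

open Cfsg.Agent.SB Cfsg.Agent.SB.Spor

noncomputable def lk (t i : ℕ) : ℕ := Nat.land (Nat.shiftRight t (Nat.mul (nat_lit 9) i)) (nat_lit 511)

noncomputable def mk : (ℕ → ℕ) → ℕ := pmk (nat_lit 9) (nat_lit 511) (nat_lit 275) (nat_lit 9)

noncomputable def ver : (ℕ → ℕ) → ℕ → (ℕ → ℕ) → Bool := pver (nat_lit 9) (nat_lit 511) (nat_lit 275)

noncomputable def t0 : ℕ :=
  nat_lit 0x44a1f0988c321b0e82422210a83c19ff0b81bfa010182c09fafa623f18af663be1ccbb722e5d0f077bb980be6f2ddbef161bd584f37138d70bc74badbab654a3954905627d129e4528916a44d29d18a54da8142c67bb21f2fb73b9574ed5fbb17ae07a305e4e17537156a847a75468846a9938d75ab65b6b4672b998d058b4992ca6b35164ad65b3d309943a4d0a944b21922d859b695ecd68b4daab04ba492a8433208d080309dcf07a319f0e47d3f194ea74311e4b25c281549e572a1609c8133a0cec603d9ccfe642d968ac702f978e26a36174dc6b29944a46f369a49a412591c8642250f08a3a2492098401d8f87a461f91070391986c4c131b8c862180d0582e270c8544a14160d4520b11818140e078043a041b0bc5630168b854281a03022050f8800e1212084100906888201c018083c00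

noncomputable def t1 : ℕ :=
  nat_lit 0x3ad86a27e428cc5c6043a12713593e0a7e4c83d68a5683f90d0f5f8cc2aa77bb39e0c85b909e2f56eab0449c89131d2c71ba0956262538850436f915de3f4586514733a1897ab669b494cff48bd8700e4628008f4740b4ca7588ad4ff0b7d8e9aab80d8bd72bc79b51850104ac8f2b0321b852ee72aa8aa207c34600a43dc4142ca3d04c48ec1e252061d2b1b12a9a2b8459e7c479e05ccb6db65001e2ebf4a48420399028960c10149051a7d628e0306188d76c162105926ab804968398c1a6833c358aaf3535858122f9390f0c2d814e07249a5d522328214a25383178deea25b8c2848238e5bc25703c86a836e0c4069b1a2f88ccd7385c823b7d0c87c2a5d2358c61108c15ae10d390889d2a3b456a80fa21301c5d89db4761b031f2494f181240781330d216059f56608081dcb4c91e9b40200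

noncomputable def t2 : ℕ :=
  nat_lit 0x449baff77a908aa275b4a12d04d33e0ade653a522948837d40c7533c4869073a7db6485c3c9f48b87ac5da8885b8204c37bab9b0e471ae5c2ea7f41222b07a8e50ce544b09aa9b494297f0883339389656c0d6c477e10882a97435892c068a8546bc25131c4f35bb254e93220e9dcdc1c39996ac55a6188975abed0f0e5ec317cfd7b23076cd6a41d14aa543312b005a34e02f81f8f08c9e78265aeec52b650a33111543e580a1dc02623d9e8f2043f0a0dc6a3998cb870011d4ac542e9d0680f1b8186a1e391f04c1c0e84cd67108894b280279b5046c07148a2232b8a440ba1f2ed82f4642361ab37cb198a404792c7a8e4eac9b4af3385cca69420c464270a8405a2c028a89c7618184b40c2820c124d40990be600d8680e181b0345e7f2f020b62e3414c2c240502c42120c9985678019bcfa00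

noncomputable def t3 : ℕ :=
  nat_lit 0x449f8ce61b2208d885bd1c49f472bd730d4c8f938d455bf90d115fb9d624a7ba89e10a5bad5e2f56393080b475ab096dd7d399a0d753c2512d56f915d03a68b69950c722edc1005511db6e51e441284465b65270e77a4182c4879098ac07d8fc86b86b28e0abc79a95e4ec4ba85f28f832a53cea7fb4d5c3b71a2d6c485d3d9648a842b52d01488e2069859a752acd64a4936c65841d1a8c53281c287443f47a8411209022832998142d179c42a6b031a8ea262e0b0f4360295418243c1d8a632339f8fe4f0c06cb0122d9783c732f9342e6102024dc213480ca20d32138b4ee74be092a4690e5bccc5eb0882ed5f4090acf543708c9a199c06a201b9a01e1a3d8b8f8721189c2680151d01c6c15a0ca8340f9743a0b310c032632c808f21414980220718894a06d0e1f4ac01081dcde57290581000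

noncomputable def t4 : ℕ :=
  nat_lit 0x44a1f1088c221b0a7f432130e81bf60b0283c1201017fc2e0ce872bc5e8e673bd5ecf971385f4ee6ebc1dadc6fba9bcfc7bbe1f6e3723cde4e075ba5deec4fa754aa653aa5569b5428946a4502b138aa4f26942ba61b0576c263b118cc05ead97ebc62b2170b95baf9128a46a39168847a4118ce6ab31acd36bb61b2d068b4992cf6db2db4cd6a3292696492612a914ca5d28ae57ac966ad58ad16ab04321d0a84409d106753b1dcfa72399e4f4783f1fd00823d9f0b8592d960ac542b954b466339a0c2643118cca60281389e71379a4e06e359b4d46c29944a45f2e9789a47259048443261108a462412494401c0f87a3a1c8f0763f1b89c4c25198c464170a858301b0c86826141b0d468210e87c482011078461c160a8562d180b85e2814820040d0303820090502c18120283c0e04000440203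

noncomputable def t5 : ℕ :=
  nat_lit 0x4497ea278438810860429490c51ac5a4ed68a157aee6825516f561b111ca769aadf8c81f929550f5040208ea75bb1d28a7339d9c442111c76b66fb7994b7433058ed85424168437bc1606ff4a39470891cb7510f46cb191afa7dad5b50b88af202be5dabc903a6e38184d559a3e0cb05d24892a57b3c530d77c265590983c4142ef4f9053a4c1e2454ca94b25dfccf49ab934d6593e58a467eba198c943b6e045b330dd020e0c8883462359e89e15030ac662039950b87026844c6563d8080a682fa0c5c2f369f02c2a33840ba7142034b2232b9b03a722803c3e533c81cde9c25bc95ab9712308ae46a38d3d0d798f47c9b70ae196cd4105c26283a8c80612321945a0c3b1802834050944c242c1f8307428810aa1c0d9f4fe211b184f0291a8c0dc5e29200b42c0409c120b271dcd21e189a80200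

noncomputable def t6 : ℕ :=
  nat_lit 0x33a22d2199c56b0c6dbfe12d036174e0ae651a998b4852c4bec741ba05e8273bc1d6481a8b586f64237ce62b7a930e8fa7bb797eb77192854ba77399ba3485b35b2d16b9b9aab269c41b10835c49b50156c0d92c87e0d8c266789d4507a729e1022c5cb817665722da1b0057b51fc6959c1196ac202280c20228881c5c0fa88081d4582c76391d151309926a452a934a2492c55060f0120a4faa9120529a18a2ef7dbe17a681818852773db00f2be3e12584e97698e1d0536b58df0767c09608033b11702e391f98a607e97a0ca40881cb20f11809209a439490a4f280052eea25b88ecf4238854e380a85c4cab120f8068e4ea6d38441bb19e6dc878c4647f7c991e4bc76384fac10a104323f2ba988ca851841401c0d8604a1a21058862709820b61e2c2941a8f4f2311a122d2a510a11e9589c00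

noncomputable def t7 : ℕ :=
  nat_lit 0x9514c82d85d38e52111d5673442753ea20ab9d4c557143c30aa1eb4cc00c7a99006194682904116220c56500d98930fb65254f1001f93e0ef87e9c5e007258e412b67f8edc68c0212066f630bad70cd560f17a133a809505150084a8160e820ee59103714a9e5215c8a9b3a051bc414d37d22f23f0910269110c8b436769e8340d7625cf6a13fbe48628723a862f170131de441395838581b87a2072708983ebf16a1a070d482389a405d9998c8f57c29330b6043172ce5d30d5cc745c496e92731714e4e8401a0a931c225d0f402b05b10433a11f8d17b8f9fc7654a8dbabe290399829170c1a86c3e88cda3400ba40080679186a792fad16ab26ca14d0ad6102c75012eb490f096d438bc655992960db88b145eb1091c02106359bcf8d629a58582a7d1b8c6cb6aa51e66a24b41dcbc07b25af02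

noncomputable def t8 : ℕ :=
  nat_lit 0x3d506d275bfdf70e6d9c4b8a43d9e620a611149aaac8525616f688b097c8269afc66481a38d14c781838c4ea670e4e8d97c0dde0191691db8b27729c3a352f8c1f4ed541dd98ba739c131082a101b46810a1020c8553c8c90f729d44a7a78996009b0d8b9e878120561a8146830a0697c96c4eb48930d40e922b29bf0967a8808dd603cc7e4c1d1adb09083809629611b59267e6a10d709c433f14aa18327cb0115abdd7b01669cc286e3622cba2f3e119d0206895e185936a4a044d0f9bc0e807eaac12e02b1551e7f33968a6d077ac20a9a4a245320f439a9464f7f0792e2b2585cfabb252b5cc415b38826c4720f4648e608b014446f318162a330c40660599846c160d020ec9d148e16e3b31ab892d742b240c1c5ca3050ec212f078cb13386080128a2510c5090615e9e2f2a41a051f1c89c00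

noncomputable def t9 : ℕ :=
  nat_lit 0x16952b945a7d36f4501e9561747059ecaa21971f50f2386c4cfd64a489cfe6d8f9100143a68ab044c99c0ac577a42186e81acc628f4a230167c633dc22630f419c23d86944ee9e72360fc360c3c9e676403b024a153258a69d4c07ca00d76a8d08592b0408c578706a20f913960b6233e891510b71b8012ba7f810c2732fb209e3b01c04cabe0a0bda89c3c03064fb320d104953ca34a8ac113a906191089502866ec4976e8848f112d0601080cbc1c309bcc725199c4e516115ccfc6236427080ebc54841202894eee222946e485b0e99c8a618cdd6bf3ab7c961578039ea5e8125cde1c581a99a60039b09a6983948007f6d1b4f6305732e0a4968a141e936b1c99e08609c1aef82ead56eb857b295b11168a450b448c2962b21c8a8c4d25eb30980238b9c14dc6ac006a7435b4c5c3f748ac4068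

noncomputable def t10 : ℕ :=
  nat_lit 0x339e2ac63ba8e88377054caeb4d8906aa78012c72b26abd41c840fbddec6173bfdfca27235d868b7d321569858c487c3374154e30d44c248a406dad5f83c40a74d91071898989648b81e0226a42998090514d550888b782e6e6e8a1c47a68acc904a33394e02c5da18546969ad9e8440e9d596ba6913504cd5bb7c082f23c2d1c942e02d14935a030a90110a712ada3c080747615c0c70ad5f9745ad91a1ac070f5ec094c3020961181a7cc388650403e01eb85206cf27f12ba48c8d5089d4a311b98982cf792f184082b1f45c7b2baa028f35f0fcd08f0c800a4640804db89f574106cd0860ecd4996c019727364b98a25f490155eca779658a9733aa588e176834e47e7e90802d60c2410f072d28d34077d88c9e9e31b1910778284580492f070daec192c1406f3013804290b1f0b70642878243d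

noncomputable def t11 : ℕ :=
  nat_lit 0x290ac5d6f33d0a723115d786d84021b8885ec09fb0048c15a2130e804e0ee4d3401c11610e5287a6ea003ee575bfd367c2a058408945afd24553ab802883079405c0283040a4864a9e4f61e6a93e145347854cea274bb5524450119503712bc620f20d16484a787aad42a54bc38b0a62da8d1b09650f092cc5f349b2353bb7d8e48032ee188a5aba180b149a1ce2b83401e16417c311311277bc13ce76b0fdf263362d8a2cb818e166313a0a0dc66151800701399d8d60037ac0d2fe321389a7d0e3b118d370baa089d06b04fe2915ab992ad88b356e612f2c95ed77131a0e5c5510c4e2219b6c740c2291df4237aa4080fc4f86d58fb1a014ca091305dee963f090321240969e89c05ae59cb416010be78350b45eba25391ece61d8d904e3258f4983079b51b00a62a3932da420c830c3640847d0d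

noncomputable def t12 : ℕ :=
  nat_lit 0xd59a7f70355f27675445e46936b6906e788409a30085b70f64b178f8008074079a84c232b170280a32cd42075a456a31308d8f09e778940eb701955c66c79b5c4821040c1643f389b8e82d29388ae5e7c20838df4d87c920c2436d983467250ba39723248ebe6f3298ed949b3d5ad2159dd30bc0abf04e53789e45c65151d5d22219068e4f0509f06e5834358d6a73ea10c4fa7711162a46e9e97654083d4e0e17f2ad5e8f5ebed2ef780a7160ec2d27590fd39980c90d37a989b0569b1a0eb35d3962495493fd110c6c2a206f440a8cce8d2b42a1f0460c38b7065fbb610291e11416041303c360a1d0cc022c0710446130312a121d0486118995c8ed34871c2d1ec3d28ab8228a629089ea50930c1a6627064fc5921a25a0164f8156c8b55100b89661218048e54b1180503185dcca05117d2085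

noncomputable def t13 : ℕ :=
  nat_lit 0x26c2d0846a94c87d5015978f470c0584b67e93a0c75879e5b80e542384208283e5569543a282a442094d3acc5227d12100bacd06614412174547d2ed16922b945b2f6160e0b8df72aa43aee741e8ee762eb7992250d8f4004b21a3c1246552784e3a019697c1400b8026803c0784c9a1a0c572587ac01650d43299aaa74b3c52312752b4d2ff85c099ee23a3fa21093740dba8c2935138b850bc8cae379bad960d2db110268012f55e852cbc1466d6317d7e67768a86e6637b01cc726818ce6120c8b89efb629086460760a4f90e69c1d82c36b428c50435c16227f74ac0fc1f060f016474c24d8ece560e47c24228119a3572250aadb200ac0d0c0d0ec0e1811880222f1b014923326ac5ce716ba89b07042349a2ae1f8292e306436844905aad1f09907bf098822f0a0f62d0e128d8ef653dd6e6a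

noncomputable def t14 : ℕ :=
  nat_lit 0x381ab117e429b64c6eb4624e8883f9dcf17a32dcace75b41eeb13dae0d4da173ee1667831956ae774abcfe815f9d600491abe45ed4793e900286f92d7876581a5747966408baff41b7054bd8092068cd59ba9c2221d09d2eac5223ca6a30aa7040891f0788694222ac729504a4922560f91936ca19b218a785d9f218b7393c2090f77b906c7a5cbb1dae3363f4e6b6648c5bca102a7caaaa2111c78264d22d3ad616bd4e2b43843a1ac135b0e0ad8798b18ed91bb5da4b237b08e8d38433cdc93079010c5c52a9c8a245325870c0421f9f1097319894e25740dec99512a43a6d062340014191817c61278693c072a004b43b12a200616340c15a641f960245201134208710821500e2f311045f83988ee2b1498d8c7d48028b6230d8600c1347140324e42a28b2041ea60220b0e1041aa00b95d1851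

noncomputable def t15 : ℕ :=
  nat_lit 0x18ee022a170425f4f859147373144b617841383a7550248b20c11810d46808349be1f49960283348174c670523742607190acdaad20b9c3801651891072438b0e2d8168603c451bb00ce1182921ac29043115cfa85a1016822395ced0c3d424f85530b25309e5db7836d9373a172a91b319c43a110389a6b0aa8c404f02afd12a21d828544448a1480c3090e1a08657834848e29b384ca745bc007044caacccba3cbd4685213aa0e850833fd34cc839a44adc76981f66437a98fcc2728f5c2782d20d371081c3dc67d7b435fa9540a58329c851591ab604a95a70155275e8491ab1cbcef5883c7e284a0696e2f7e0f9aeb5250f178d13d8c170cf5f39204f36da01f2cd888c5f0f2000e5d2d55a10c982e5825d7ac156195dcda751b1c0a1800921cfe47badeed45912c8c7f62b21671278bb118cb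

noncomputable def t16 : ℕ :=
  nat_lit 0x2eccce85ab661a8f259a036c2040b480c74182d8ca7453e164fc57ae59653863f4eb111b33a12bc1e1f0bad1783780cc54499e145530bc55cb72122c662a3c1d9e8e5548b1cce284059dcc00ec3d3a4e420546300552ccbc866217ce02e5f80d0a4a32981900a0d1891c5b819f4262b609402e9e8942db6927d331ac3a24a906a485c0fa04e77181df29b499ddb84713ae8820c6d3c95a985f23520391ebd4208080aae0a996b9c4dc2f103ac527f04bdd86595e83d4a5c37bd870571b860e8125a43904d308839184d3209032fb6ab350e45233495814798854c521f8c15072821e80ab6703253edd652c4030622390d2a1440c8a8ed683f84c73278a0d851761ad027e2b18c1aa2353bd23100f37dc2a34d130f21f6a250da977fac1d23b113612a3411a819e9c2d1620e960010cf62575008081c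

noncomputable def t17 : ℕ :=
  nat_lit 0xd065b64190c01931135142b3334d8c1781844e6bf4117c5a8d3f8945c8f2d1e200697ebc818150da5448f4859e956070d275b4aa2aaec6c227811d30d129159b87d0b020da753b15c20216c950f8204929c3a655f0c4124b30b3566b2753ac5e481c9b1c6b545b3829011a1741c6e1502dbc4f192707aec441795e3f06a390ce2051080b04652649c1309144d6a0428700c8c582d850b9022dc764a14ab470503dc3d02fb33c35caa6873d4e30a7c3b5cf0c42100d0a8379dc6e5c84164e0bd182e9ff117b31c66f73a309a507609f830c46036120a201415ccb461ab8c6537026c8c35508793c446a0f878005e005963a1324528c97c89d4910563c5b6803cb5604cc7707dd0fa4ba7df90652960e4a311b5926a95c10dfcc57213162ef89385e6cf43b7c58e94d224d449079052d096eb5c8ad0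

noncomputable def t18 : ℕ :=
  nat_lit 0x285dca925344f83145bd176840e841927a81815dadd23b01b6bc230681ecb763e14f0e42a51f8f11e30448cf8928888c5131f5e61355424464320b911c964795a04573914d46a488275fcf949c3d34278326ca0eb5b9b05c3578368d6b2750e498b1328657c3a5b3d5c0dc3dc282a953c9e0a84277bc8bc1c82265ac3e06b890c980d804fca0480f5fa550f16d4c88271693e035818844ca6438c640403c2cd2667bb786e4968364e0b31c31c80c20598df4e67b0b1d07637c303ee584058b82a17c457ed215b3866344197574c6370446c0657361721733a48ee2d2417ce6a574c0000ac4625d3c581fb50147f4893ca4b812a3539076ba0112a82583968205eb5602683a20598df093108b05042acb2e10c21e1a515a8a1a629410c1863b569b59a4d57b9ce214301d5f66a04984c88a7f8841802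

noncomputable def t19 : ℕ :=
  nat_lit 0x22175082a1a524936ec0a17062e9dcecbb8193992ad4db7020e70fa7c044d4ea55feed3985d1ab10ac1ca02b752d8c2a344c31508a45afc2c416fa3a1e63532b9b0e55799dc24859bf982f93244870876331d80394e0140e0c70168c07b720100032482688e145baf87ccd1eac1703124a3d729122260b65182158da5839400c47a520190ade5015da286043f59ee282aa578550e328020350a513c130f3c8bd0a4b33998211520cbe843a3d4f2d22e399f501771a1ab0d37bd058b288ba1846a13b69c6343c194740b6d8b5e71038074a675359f54f096b1b9b2521a9f196bd1db2030435103556c4128689e9714108223f1e3bd18ec4090186f6560cc3209260c1eefb5a3145e4b2cbc01cd338bc5a0d7528de1c6611028d8205508dd226410d8487e3fb505c454cad48c1207bf1f0eb252003629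

noncomputable def t20 : ℕ :=
  nat_lit 0x38de81d5517c687e0bb99ea967b34cfaa081865dab6253087a751b08812783e36d9c924180c749f0dc2932fd5da2de0271344196eb23a6c8c4278a854e9d169ccd26e3c884544864a109cd659374624c6e3894cb932969f6d47d36a030d823218a8d4e3dde44b87c486511582e986c670bcdd43300b28a46c2a02d980a2cc2514982289534de1cbe0ee0414b495c623a0708282303fc76be48391d28c182b60e5c029e9a02e0b3652a5b3321880e51215888ee54a94586b378401ac0840dc7081094197eb38723886ec6c191827028844460e2821426a2010ad9eb4622a0c6e87042cfe3e2a81c6a915aa79586a308519ab877b9d6f02298782ad17e2ad1e2f33abcecd57f28df2bc10290785d388183e720782126570613e18804a25d121a801b4bc4d342c50e283db7c92000c1620ac74435c7ebd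

noncomputable def t21 : ℕ :=
  nat_lit 0x128d82b511c038854c044c4d3693e1da3981ab83ade653459e1a11829ae63029ad042442390500e5899968ee3d338660d1d865d8b7023a8983c782d990f62f02cfada150c06c351a17d662e8880d922918af96494822581ee9111f9ef0e55425a0f14626542ef45bac027c659b96adb232c1c6062204d82e60bb606ec4202fd8ef51f90470477130020ad248b5b2bb630f4909054a9c8add4328085126b3c9844d2895040720f9ece85086400e25783a744a734aaf4da60379a5985d4181d9a594b958ab10853fd229a29409fa5b5424c04e784395108a041ddb90552299242f131958ad4470b0644b7e10d86127d0f9e6bc1d06d72f440800c27827ab1fc6a29a00b47f80824f2e00c055be7634030421657be4c8ba2c224b8a34e295569f8789e0d0d339d5aa9e270503ce143a351f0b4dbed70e8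

noncomputable def t22 : ℕ :=
  nat_lit 0x1561a9d6724d96fe4d9d13824881d9cae4819a59b0071144f089740f8a70a572654e0b492ec14ac4f935090c45261ce0978bdccd0471aa86c6155b202e83274091ea94b89c109e7c298a0182da31fa7f3043cb5094336cd4fc228b4e05c63c2ce20c329b972757fa0971052f148b077401f9e4911e2dc0ad11c87440150fa88a84713380d8de019cd34a139070ae882b0c44add2ea506aca023ac507a0f04cf69659449aeaf66399b4ba8423843017a2cc96d37b2054ac1378f5f30754384fad5162d15ad96c3d5a91179c18c8387732498444a8ad6cea00371d86b6f8d19e595aa40ce1b4581c841a030cc440f52004f84f77850c411203151ac661be8bed6439a18412870c1f6c4150ede085519048cbd0685832ed1d2c5a4d0250bc1c485f9258010010fc46bc583a4522e3c90cc6a05f0dc646d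

noncomputable def t23 : ℕ :=
  nat_lit 0x390c0cd800ad68785f445045e83b69f0c8819ee18b7653b0d84b660300074729455ab3540e45061129d8d29d6f221ce805c435969c7fa312ee04f155e5021a2e8163d0c0c0923b571dc62360e2e5346a7bb8cb4b609941020a621c1827d5d950e41a32c1954e987c1066e60298c64ed629f920df1e338489363b3dae357cb89d4986a2b1fd124a441ec0426361924779b6ddef57723962a23d425f8a11192908642ea295e205eb4c9a836e00cdb012923d6b057e9fc522d378440e73633ed6068171997e852d9889f0a2f864f8d959254e23f2bb45d70b17b49326b7843980e14485c4e014d87c8a3e223c4b02c2090d2c264fbe9baa90402428923aa34ac020b0a984122719cb2426aaad2238109210ee80f118dca60705610a54314d78a4539003a101b8181a3a2e30da00f3c86de8a045b5844a3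

noncomputable def t24 : ℕ :=
  nat_lit 0x2dd5c6c64136150c4599a088439b45eece81815fc55512653ab55eac40e605a41cc4b2580e414611d97856cd4601050c519c45f0ca5b38c983c77b9094314297604d2350a81e913a18c16d70e425347265b79928a482e95ee761b045ac663a20303e5db0224425cb891305499380c3874399ba4f56401b47b32864fe1a17a0806ea78380f0eb50bb20254101acae943e3b84cbf47c2c2a9c4743df84751a9cec5f283fce29704b4cd2b308a601afd76b6de27e7b0d8b27037a583e51373403a67204350ca66c05d3ee584249530e41a5502222d091547a2995a205b55bd0b8295c2b492415f001d2351f92c64680a0e9b89e6faf026f31833002cf621207a024382184d63b8b1c245173504a5236838f28011918fa3446830c8fb7abe436437935550100916042a4831d54a270b3e9b2a04d8dc881e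

noncomputable def t25 : ℕ :=
  nat_lit 0x37a0acd7fa48c073442b9145d289ddca558184534ca5cc31fae770850dad37bc055b02543c96a9155b48dd10892508abd141d222824640100ef6fbad8ecf63071b87610020929e658e1a2e86caddd8297c388af045f958b27544b08e1086ea81a0a43118e1ec45142484e63e2140ca939198263b7038d06341cacd98480fb39309b30894d8e45f3d93a031b02d9247158c478177695002aa45ad8667a0b2ec3a4d58270d4fb4bc34a4a66c42d0f07321ed70b47f1c55e2d37a3c3c9949860bc0233c2921062e2189e7e2716d80ba34968120c4ab6d9004038f4f05f4f9400ad774a9c6ebc7511896357d3c41c2a22068faf01310494ee6a9fc7ef3619621c1251b5982683583d4afc182b1a8da108f8004c17be56424468892c81329e562437a89de810200e8a6320c8298a2e06855088e508b03623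

noncomputable def t26 : ℕ :=
  nat_lit 0x3921a788024dcacd4db2caa764e9a4e89c81890a2e2673fa20b866031f2f85a4317706283d5f89e56179b50784a3814802598222c85543d02d430a08ca7d6d8f4eeba0c09c589f7302de66a422e5ec363f38cb51263aa12ee7449c1830256a61ae58792cdfef1464108aae6c2a47c9670bdc2e3c6fb28f62b09bb8e435002dd425470095d8b63d1b13447260159204188d04c3967a2088a24a37850ea0fb74388f6ca295e7152c28b6525942ca6fd41990ea66809fdd02d37970429927025e8086ac150d0826a9d56d349298dc5d6e25440152b9add6030f074e6d14895870c56224060fa5f08c663258ba434492090ddaef1d8049463343ec365f5aa361c4043b59846763048b2c31713de0c0038e82c29179e4f819520fd0abd5f9b5780e31009a41007819464808909a03723051608b500a8440d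

noncomputable def t27 : ℕ :=
  nat_lit 0x42623077fc3a14fe85c1609027ec221b1281c1a190f8040620c338ac4f27e5a1b0c4d22fbd5d2ef6a18d9ef6412f9886a5c2b8e8b66538d98df30b915a7735b0108b262b58d0f07c179e6d73eadcf0727338992eb32b6da0f15a9c1846e639e900fa6e9759c755cb79f866771f178d97432d764f562892c5048148b25843a31409848a7d348a2a14532a152a14ae8e2724d3c862e22d48aa4a155129b29a9d52b03db217a817db4ddad8323a8da7334ae9ce6066b84fec137b69f2ec632bdb8676abdd7e8359bc9c0e568bd0ec4d532552e8d2d2a138885196d3a5655a491e291992858350208c144107114020f0d8e83a261e018260b18130642b14120682e178dc5a2a189246c4b010ec4a19068fc0e1800084383d1110c22091c87c280c0b9004810090688c150290840270f0f87003238208816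

noncomputable def t28 : ℕ :=
  nat_lit 0x3fcc0736f1760acd443957292860455c55819dd34ca45145fa285e850db113a4057e5631988eae0308d1066c5b15066e173bdda68287c10b2251db8c2eed321ed604d3519c044f852e8d2092fa720efb3f320b50056c0900b544b08e0b31caf99801792a118c4722a970b42941818504bc3520df48bacdcd26ec21a0480fb38f48b55bbe20a2503d9fd0b389712a046c2993ec767a5149094dc488a9843a19b6766e2dc402939198f8311580c2cec6307084e64e8d95e2d379380e7802860b6490432c268505aed3cf8479787a386895dd00664875c4470f30132d91e2a5268174994608d751e58622073c5f4d5589621cd45610dea96151fc641925868fa68000b982126d09d8a0a1b899e06b17855464c10835e8845e0d5dcd75391888412503d6410160e8a63f79bf14ad67c8f8488e509003623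

noncomputable def t29 : ℕ :=
  nat_lit 0x3786647653480c82739cdccce5bb7e188a5f8807654510ade077779146a7c08929ba4824a903ae37c0d1d6be768e534362aae4f413212ec7825722a9cae01b851f4c705ba03e4145bdd06f67705c34260b43c9662382d4530957340bb117fba4d8cc3a8a18872302d8b263070a8e8bd30999121c4c281b29449345931066c0db912712780688223b18ca72b8e1d4a83b2ad3b0536ab5228569c10a3006bc22022d11240082303b0074fb3dbd498327e0313e05641e1085c1790158195d0602a6a3897c04b15a428144f619a102d8858fd32936d254b69c10a8d1c6b83abc9a3100b0900f179119529b67bf5966e81021787d46384acb36d86c4e433f2e05c0f181e4ce2c328258a500f0f5421079a987c5a123e5e88f6b149605e43350d2978321e1cd537a596458091381a533fc34c8c146bf94a00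

noncomputable def t30 : ℕ :=
  nat_lit 0x28180a4650440d052d98988862784d208a510fd0a885f80884773e3643cef69340f41d1191c90fd7db3dd69a76a557cd685c25badf7827c74dc83449eaa11b95d525c4386c201645c394cc221c2146bc20c3d4a736c26452b92f928087e81bb1603d711adcc3283ad98c631c034c8192730d1c6d493788a944c08802f2293fc4aaa3aa792254223a4b2ab0a038aca82c29d1a820e144063b69c115a9c0905d187168c30ba49038cc78f83db945c727e24d76b1852e0cec7079011ebd281a02a5e16ab856055a3215eb73306182702a8816a0c4b8e5cf00040691228300289a7964bd9e6f488119f49b1a38da86e2d0844ce1809f5d4966dba1f2ee889e0982f378c5082c7f2c98aba1ab31c01f4020ca7026a89de2ac1b334d86a6732cd2da7202dee24182cc12766b984543e3fc34e8814e9949600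

noncomputable def t31 : ℕ :=
  nat_lit 0x290c4a003045949062300b68627a220a8a5fa147e1351008847777a60027c69088f44836b783a1b2c84116141b838aed684c2dba54781d522412c29e10bc76af9e4ff293f59e2575c3984a62b3d5d2a16e43d1a33382d40e5538b44ba67638681e085dac5ce7234055f07b1c8b8a0bd5c42a00232291d24946cb403ca9439702cab4fa7874df2228df6aa4d25486a8834494b0c248307820203f126894bb951e5f25208081c149cc06c63185c1a32822b5c46b61938fd035834d18193241d6c5e570b456282699814b76418182d85c8ed3251090e1cc8e1ebb138050c2bd68791aa0e04f17d11a209b0fba0a6db40331c027563e5dcd53738cfaea42184546c180c6226932ac8fe74648844c342d3d9a8f34b385e9011b02c5e6a670f858d73b335eeb33789012e46d1e098cb62c35748125bf93a00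

noncomputable def t32 : ℕ :=
  nat_lit 0x2485a45653480c90732b9cedd3524e0a773812438ad6c009ac8a4c91c74b5088899c1d1036490e37d8e5b652698d19a425c9550c0c1b1d43c3d4e3c9cacb2002d4e5c0a3a07021373dd84a66a85c243e044344e5f5f9f00f0b39b44bb0a81b6960dc5d814b6af301a58c4d080a9746f2719cec3b5026148946f34123124d3fd99104fa7802512225cb2fa4387d2ca844aa5c30c42951926d76c11110651c22043325208083f149c46af85a3d4980a7e04dc4283f2e186c7078dde6303a06058b760188566b3dc44645e421a182a28488ddedf74b3d88e420b5cb0b1839c8c60901a0d1ef455119569b4abf5c08b80858a68d2d27566567586c9624641e05c2f0cac8cc15328c4fe641e095a80e563d84c8c21a95e280782f8d84f3d2856cec8015e1cee5eba8f28e0d1841abc62c3ca0813ebf9f200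

noncomputable def t33 : ℕ :=
  nat_lit 0x2a4ccab86bde1f0c2a99d72e50c2260afc63a3d00762e3f9d1042caa93ac6873d82ef14629de8364cacc80d73709024fd2db12108e0db894a5328b650c0845869bca276108ac261b845a2d01c1e8ae165e018788481be18ae63f30982ae3802cdecb5d942124e2f0b0f863770c40a0f39300265a883ea24a879299c2924bb607c454fa79f2584da1dde475190c3e94442903c90813904ef36d9de0c934d37492c841a0903013fb0c96b526b38126145400ea6438abce6bf5ebac402f1413c2a6085444ca745a0b4f06819adcbaff73ab1f69c66b56160c70051beba352e0f60d3e9290a1d4c11940444b3587aed0e28482c91180420cf69bc0060e2f8296419360a8c4b6158b8526b46b5042ea1d8884a6d4aa44903f71b6861077ab30d25256ba5a439580d098545f0c8f2dc03b2962041a8087400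

noncomputable def t34 : ℕ :=
  nat_lit 0x2a4ccab86bde1f0c2a99d72e50c2260afc63a3d00762e3f9d1042caa93ac6873d82ef14629de8364cacc80d73709024fd2db12108e0db894a5328b650c0845869bca276108ac261b845a2d01c1e8ae165e018788481be18ae63f30982ae3802cdecb5d942124e2f0b0f863770c40a0f39300265a883ea24a879299c2924bb607c454fa79f2584da1dde475190c3e94442903c90813904ef36d9de0c934d37492c841a0903013fb0c96b526b38126145400ea6438abce6bf5ebac402f1413c2a6085444ca745a0b4f06819adcbaff73ab1f69c66b56160c70051beba352e0f60d3e9290a1d4c11940444b3587aed0e28482c91180420cf69bc0060e2f8296419360a8c4b6158b8526b46b5042ea1d8884a6d4aa44903f71b6861077ab30d25256ba5a439580d098545f0c8f2dc03b2962041a8087400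

noncomputable def t35 : ℕ :=
  nat_lit 0x3e986a786c3a1e9085a1212f53423904fc2e2b1e658639943704634491a597bb0a10f480aade2d65aa58801237355aee373b982e89741d4963e569159c2145a8d40bf74bc1d4bc1bb48444a0737428411301874677fbed8ac488bd9025f6c21c60d44fae97261350b1de63219e5622f190cdbf02792a554a88820cfa986d1c0a6d95da784e764d82cf8a40d3b820942a11c6b0c2d419f2806d9ddc80c5f1e8470a53415828c3f9994a9926a19644e45271c47416828c4a20cbac7e0f35adc2b07641f9fc645a1c570186013c09032da3df10029090aa935095c26502f1e0f62a70b40764849119bc44598d998ed36b802c0124b243e34699092238572bc12bd58034e6b60113052284eb2c105642b45b81c1c80c3a207ea5cde60728f4d2cd28bb022953633c5c884d1c8622503b280a5d0f0ac7800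

noncomputable def t36 : ℕ :=
  nat_lit 0x3e986a786c3a1e9085a1212f53423904fc2e2b1e658639943704634491a597bb0a10f480aade2d65aa58801237355aee373b982e89741d4963e569159c2145a8d40bf74bc1d4bc1bb48444a0737428411301874677fbed8ac488bd9025f6c21c60d44fae97261350b1de63219e5622f190cdbf02792a554a88820cfa986d1c0a6d95da784e764d82cf8a40d3b820942a11c6b0c2d419f2806d9ddc80c5f1e8470a53415828c3f9994a9926a19644e45271c47416828c4a20cbac7e0f35adc2b07641f9fc645a1c570186013c09032da3df10029090aa935095c26502f1e0f62a70b40764849119bc44598d998ed36b802c0124b243e34699092238572bc12bd58034e6b60113052284eb2c105642b45b81c1c80c3a207ea5cde60728f4d2cd28bb022953633c5c884d1c8622503b280a5d0f0ac7800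

noncomputable def t37 : ℕ :=
  nat_lit 0x3ea22f2823d1f8bb8599d72bf19418eb0f3d38178766e994f90d6b449b43678929b10e6a441eec671acdda7d373a9c2b573b10e0e477a09d30256b79fe6d6dbe5b2f525bedaaf31b92106c21a31c6a49401dd7c84673c18ae661b41025f843245501862c6126a3098dd02c770bd7479340cdbe3e53aa554445588824924685cb4a04827834584a00436471390c209b06290289f29a3946264581912541d1702cc868b8982cb3f9f9d8fd34c0d605e654020a28311805ae5173adb831322e0f6af85199fc6b5b1cd6e72601e0ba862da84849c01958aa884787826052713c2a306bbd998d24c1188aa84b164764010ab0460b20a1c3e0e69be19acf5741cd84c591bce2b415af452744ba3038241ea987e081c94822254ca741a0a512149a9128a943a95048e032931e0601e2003a28a0042b8093400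

noncomputable def t38 : ℕ :=
  nat_lit 0x3ea22f2823d1f8bb8599d72bf19418eb0f3d38178766e994f90d6b449b43678929b10e6a441eec671acdda7d373a9c2b573b10e0e477a09d30256b79fe6d6dbe5b2f525bedaaf31b92106c21a31c6a49401dd7c84673c18ae661b41025f843245501862c6126a3098dd02c770bd7479340cdbe3e53aa554445588824924685cb4a04827834584a00436471390c209b06290289f29a3946264581912541d1702cc868b8982cb3f9f9d8fd34c0d605e654020a28311805ae5173adb831322e0f6af85199fc6b5b1cd6e72601e0ba862da84849c01958aa884787826052713c2a306bbd998d24c1188aa84b164764010ab0460b20a1c3e0e69be19acf5741cd84c591bce2b415af452744ba3038241ea987e081c94822254ca741a0a512149a9128a943a95048e032931e0601e2003a28a0042b8093400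

noncomputable def t39 : ℕ :=
  nat_lit 0x248e7104196d4ced7a4283b0337a55a6d184275b856729a5fa227d91cb459739dcb90b10aacaa7c1b152186d3a9d840e37bb49fe1f741b99ae01a3799d014fa8d40d80e265381e82b9a08ca28b75c29a48b4192670bb180e1116a289a5f5f858c00345ae89009151748402441380aaf582b870277929130a853c34a4aa6d1c0a6d96d91a04d54db31aca94ba4e0c444b4499640468411e085db0872b31ea190a84878dcf6253f9c4aef0409e8f0797b3a9d674889b0fca283b89d87235931fc19641882a641599862bd600356cf5873e5f0243ec01e2ee50a959e50172c9826a0a01876b97d2788a94062d41690090f90e01248e912ad413bc4cdf198bcc2181913d860431adc5228560d5005811bf1e6e97235212d70d868d03063af8ca4b070fd888e0504cbc432083d708c62929622c5e2d07800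

noncomputable def t40 : ℕ :=
  nat_lit 0x248e7104196d4ced7a4283b0337a55a6d184275b856729a5fa227d91cb459739dcb90b10aacaa7c1b152186d3a9d840e37bb49fe1f741b99ae01a3799d014fa8d40d80e265381e82b9a08ca28b75c29a48b4192670bb180e1116a289a5f5f858c00345ae89009151748402441380aaf582b870277929130a853c34a4aa6d1c0a6d96d91a04d54db31aca94ba4e0c444b4499640468411e085db0872b31ea190a84878dcf6253f9c4aef0409e8f0797b3a9d674889b0fca283b89d87235931fc19641882a641599862bd600356cf5873e5f0243ec01e2ee50a959e50172c9826a0a01876b97d2788a94062d41690090f90e01248e912ad413bc4cdf198bcc2181913d860431adc5228560d5005811bf1e6e97235212d70d868d03063af8ca4b070fd888e0504cbc432083d708c62929622c5e2d07800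

noncomputable def t41 : ℕ :=
  nat_lit 0x260c4a741c2d4c8b87211a50859040dcd181c08aeea639358c220da911ae32aa29ea5b293c9cef05a9517603414006a59788742e397c34c101a07378e07d48285408648b58b03f71426080656a8918410e1290ac87fbf40e48389dcd25f3d2f8c26d769402230360adde044441d625e06ab99eac5591d249b8843442fa29b39b4d9201193a245402d33121f24d1c944b2a5aedb2d255f2cd863d83eb343b61930a87bac2a143f8b5b87c32afcd019611586e74330a986dd2741578b73583d8279339ccf6642ec457a31602c0c65c7a23dd0d5809d9eeee51bcc70ba179bdfc0a12b2802c4552788a44060d9989f6a25c7a3b1e08dc8513a909d213198b8c0b8278c8fc025b1c8522813880969c1d3f14a2644849cccb7db80f0097285902801a07973063537d5e434d13030e162b400ab4760b09200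

noncomputable def t42 : ℕ :=
  nat_lit 0x260c4a741c2d4c8b87211a50859040dcd181c08aeea639358c220da911ae32aa29ea5b293c9cef05a9517603414006a59788742e397c34c101a07378e07d48285408648b58b03f71426080656a8918410e1290ac87fbf40e48389dcd25f3d2f8c26d769402230360adde044441d625e06ab99eac5591d249b8843442fa29b39b4d9201193a245402d33121f24d1c944b2a5aedb2d255f2cd863d83eb343b61930a87bac2a143f8b5b87c32afcd019611586e74330a986dd2741578b73583d8279339ccf6642ec457a31602c0c65c7a23dd0d5809d9eeee51bcc70ba179bdfc0a12b2802c4552788a44060d9989f6a25c7a3b1e08dc8513a909d213198b8c0b8278c8fc025b1c8522813880969c1d3f14a2644849cccb7db80f0097285902801a07973063537d5e434d13030e162b400ab4760b09200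

noncomputable def t43 : ℕ :=
  nat_lit 0x38e06eb69bfdec736f44104ce36404dcd27b9d19a3441baa22a07ea296c7e53321551246309eaca3127214b0790e4a4e20ea65e8197c12964dc018b54ecb87a69728b0242536be6d955bb0b3291c6278799f16eed0baba0e5f4c4352d0449180d2ad732758c7d0e368ee5a5d390a90264a101625243ed860922bc5a87548889d2b5780a49846259fdde333cab1c014133a06a59708ed9830738d8422a30be8d4a2728452a6467c3969052b2fe00ec330e1b224689acf45c7f31cba7b4a15ddc518436150b3269c0566f8618cecab682f4e20e143546e206fa005e8136b5c3ea11ea409cbb212e0363a46b58149f009058a3203a784e3e43300268f2da15825044419528e02a4cbc10528fc5c4327a90781e0aaf1f80f620092e0d202bc88080921cce892c03162160c08df22c39019461a2494cd000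

noncomputable def t44 : ℕ :=
  nat_lit 0x3d1fb0a6d9f9845f683b5ac67628b8f8c088ac20c79871bdf61d5521812e381c35e2e565bad4c9f4c9a59078883f9429245aed06b2893a11e9529c2da2e069ad8ea6627108aca587c10e65b3fc22028d6e3c15ef6372e47a1b54bc862363d350b41e242cdb24664be5407d323841aec0b31978962e3d45a656ebdc4e2202a1098fc200e974ee6ab69ccc30cb05026b152fd464a1a0b086f36c3e8202f090dc64ae7fc24a0524d3e170ca361c52ecc5a97549028601cb262304149f07392157a01089dd9e802f3bd0ebe620a4da7019ad1200f351eda4b1013a4d03011924c69d4db8806ab672714e151211c7c17130e0962147111d4762aa2923004c0f19a8c28895bc0830a213c571ca4d587405289125426881ceb722811c80b638303e941a84d04280e160300e5690550141d81856d76f8687e00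

noncomputable def t45 : ℕ :=
  nat_lit 0x40de48387bf5c67c3bbe176c63ec09bc62612f9b860888c5da558842cb4aa75bd21aa64dbfd905b3d23e1c567299200474129dee657a85dd47b3b2fd8ea86d949246e01a619a6969b6422d1598b468da1c9c0207e5ca8143047144918a982c19d888483cdbae409b0594cb580f4bccf0e1295a7839c291701453d93b0c2b998a1084215032745d3b83a5f362c8de5d05b4857094d13a0eb6603996e6364ab90a1b7d9d4fee012bc51aa44019df2277d051ce4b1b8686cb523120da2e040d4609e7790970e15e31064e96b00492e82c9e5e0610b2f4666803b3054c53910452244e21928d82e2559c4d7f2891c99288112c0535a4d68385588818d57e16086d40f25c8a3e090fc8828560550209299c442201787c800e4f93d4a2661a8c30df44a45a0871e2bc1a6a1d028983b118181e2c0135d6200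

noncomputable def t46 : ℕ :=
  nat_lit 0x309fefb87bb5eaa47d2a920a046af97ec48941950e97910e1c33419dcf30a72a99c6f65d444fc5933a69fabd7bb84c05c3aa29d6b886b0cc8800a41573016db31a4480117c683069a49a01158115aa525a2d50ef16ec20a0620bc0d6c8b6f408ac6384a6d8e6544a30e03967a5802b3072195a271bbe180dc733d0327c0b1098ac60d9a14a4b79a3c80d6170f48c491d36424bb77104fac154a9c26bc081290a9f8839c4a7b40b220f0c703bcb4ac85b7d049c5593c44ca4ab60da971d831a8543d289c8ea44410b1004c2c52847783e4b63251bb1f89e11b687ea10d23888093a2b8ba6e741bc5a29189989c1d150b1640f0402d9638399c4d4cd2a985fc690f9b19c04489449a283c060fe4c038d842200f0bd32af421c93a157115c4c765b8ada2c9028701a3549828486b29818783e6b80cbc00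

noncomputable def t47 : ℕ :=
  nat_lit 0x2a9daff87bee249052439f4a074c197ec47910d1aa87aaf9850c8527d34f76438e20fd70395ec5919968fc6041895028b5141206e478b796c502a05cf4566da5d24ca1db412acc69888225f1a2607296599c002f8239098ae6783d1d87c2d89c321654a8576ee0d1f480da1e918462e4292888ac45435729c55bae025c27a09007584a2519004d9956a455a350a40c4a2181cfc47a794a4b0da9d1c131d36424ef5339e0eba5ec45c2673d9dcf3026ea2210ea3118da4d858120043036ac59ea360319f2dc190dc82c16b124210b82ae186df0a1918e5843b555af3342f07e6c4e8d80a1d2a8259c513c1984c99100f1960b0514c480339ab83e69421c8624c039bda2c90e034542b7f184e8cd351c5224d02174dc2874060feb771138ae153b2bc5a1e1788452931f35d643807818bc35041ac5800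

noncomputable def t48 : ℕ :=
  nat_lit 0x434fcf587c2954fc2e3ed3e7540c18b6e6729e14a9c8809de89087424cac87c3c5fec22840dc6c3422e222c1531d20e1b41311e4e47b05cfaf32c388ee646dad10c700517ca496699c45ad63491448d41eb6058f72a9998b042cbf4c06782bf8fe4e5ca01525a0c385329765824d46f090d8a2ac53c4977004520d1b0b3439d75087d23896a84dbe480ce6d331aa9306364430c47a26029d742ad3c7629a495e3375a89d2a10cbb56cc03db74f2433d04d40251b8c844ca17074d64c0108c684f3e1093456391cc4cec680143ca45fbb9e0540ab708edf1d25488e0518584030462b8bc6e63ac930ad81318c2b52682d663e6ba1d9a083112808cf7798c626c07ac02201140a41a1c5f105d43958b481c3f1a840902b45add7a1a6f2f0285744215a25d03a4454941e0ec8c0317818921f1c1b59200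

noncomputable def t49 : ℕ :=
  nat_lit 0x3fdeaf287c498490523b5f4c44690d40bf552f950e987419f6dd5331d70e381c35e2e54dbae22e785b91909c88401d4773105cfc65419d4c87b2c208f4256d8e48a86569219ed569a6194d86a1c0a4301a088190a84a2974c3843d96c9f512b20edf19940b8792a205a4965a33162950117c1d0282bdd728c6f3f5c2ef44411c0ab33850c0564016924b5582cd2e9400844da8b4d2257b0186164c64f43b4076bb7c29d82f36e3d0964750bf1f2270d84c6e7d2d8c9ac4a1eb647eda220405c4160399dca5473c0d019200e846a92123d8cbc4f3b0f81a2491824c5518590a693a33808712ab34dc287f1ccc2ae48974126a2687cd851710b46a2442054f0b2499303a2c050ac426b189d8fecb1f344101c2f0786c03742dd3a4e33060e457130e1323c64b5d5e0f058a8de29038180a53100345e00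

noncomputable def t50 : ℕ :=
  nat_lit 0x439e2eb87bfdec8b77b218ec35ebf956a27bab118ea8910d4c7a7ec24f2835530a227e40441ea62521961456793a6001b78199e8ee7c0dd4aa15e29df87f6d9b0dcd0071c5a8cf69ad444866a9288cb2123441eed7d164a108624350267824091a584231552f90d30530b34b0c1629706901aebe5040cb901413ecc90b27afcf7056015c32ec79a3c22d24aad1609417a647f0c2d18e0ea8483191ca343b609a3371b796c9b12b94e85570375703174099c44b2105490ce049152239140f098614f85dc8e144b9c829d5707c7cb939a6914df0a2708eb70233470ba44060762e3e9c0a6d63e149b26b8316cd05f3688cde1042979b4123a8746acb5d9c84ecc009a46c2c1502810443c04db8342eb2852031d0785a203b950c01673138649e3b145246a062b404c9058ac7a21038180a490e2bd2600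

noncomputable def t51 : ℕ :=
  nat_lit 0x3acfcf787bca22ef3e3edf8373fbcd0505871edd2ec88201f0b971b7462c87fbc5e8c232c0dca422a90d4c8c55159383339b0decfe85198e89a13288b8196dac0946e140b468cb69888224512340d84c5a2641efd3d18970e23abd4c81b502844a13601e6127827a9594d4678b83c52149c4d6e06f4498eea5fa0c96470a2ad1ea7742dd7b01772b16ad166b548c9417b48410b5f2f1b900523c1be571ab647e6776c11c2e43043582902d2a44ec54218dcc812c8606cd8181c03897091a8de323bb120c7d2c16ce5076b17846fa63409ce760d2a218a324b69aef94f1a0da095b218081d458e59c384da282a4801975643c488e92a0e0bab80a964f938a069008f4be2c0680814515d2253ab31f248543b0f82c804d5da211a61841042c54472b530100611010c958abd982b038190e53428852600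

noncomputable def t52 : ℕ :=
  nat_lit 0x2aa1aff87c0cfc554838d721730196088279169388c7bb91910985170a0fd8839584f583439ec8a8626d0700892a2029f2c9d5e2807db1102ac44aadf48d6d9490c702897d2cb469a4930ce599152e096a2d418f85496cf066733d0fabb53a3d3a8e0d89df8c54f12d32cb120f416da050d8249a513acf456503b56c8b2a3797cbf1993c4ae921b819411360d0729400888767c5084c32ec239084c1a02928067753414e8fe83c44c90b8131d74b83396186e1739855c6e34b609acd569a8604e42389e6c13b318307f169787cdd311ece663443a9de14022c050315b8c838cc52b64a64052255a00e773c02c1d4288c5c3c100e88c44841c50ed5741a1f26f49ac9ac2c040855ed73cb7d7acf2eb4804910fac4906d6015db8721b85482a35e1ada210648e0560f0f0a4980d038186a491f8a85e00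

noncomputable def t53 : ℕ :=
  nat_lit 0x3d590e587c45f0c77e44976e7802e1c4c486b9096c178be5e4c0758ccf7037b20e14fb3c1f9dabf3d2e9fe647a2056c47512294c505516c4a430a85d3e9c6dad05a7115b28982e69b39b0483490048391ea18190e422097c627838e0f0b61995d432482b036a14723494b21836962d41fa6014ee1bb08ee7473441b8dd6fc220c755204d50a513a6db27067b31aa2c499148909799a1d27d7d29c82581ab595b0c7b9997a31763f4c0b97f19dc08f2a860849d55a21a2ae668d850b3578f12eb777b198a7f30c10348c5a9787ce882a01bc723b385528924b2c11025e279ae950c97c08222e0d03a023ca80a8d23588ca410070e92c21398440a094593cb46c17ac13207268ec060d4d058ac6f2eb4040380f87924513e18e02572c8514626270a4dc6a648a8da0f05a148c1c4a0190e53092440200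

noncomputable def t54 : ℕ :=
  nat_lit 0x42a1ca687b220684603d520a260a84b6627c1403307769ecfd0b7a22dfd0d41bde24eb47bf5fec333ab1e27f7daf51a5c8429e210261414ac795196548a56dac932d126a192ab069900e2224bb48de96293581f1186198cb045faaa00fc78315024f84bb8f906343a4beda362d1622e359c10aba39b8caa9d45395389f0ab9d70426e938e8dc4d09c5aae348e498074987404bb3c2dd6c6019b98a87202b2814c77b319d45a323c9181b7cbbc86f35495d40a81b961b098120441a301f8419e8e3d2097cec0d310c67d251784647710c42e880c094ee41020f438e41904c56d580ad4a6d0740252491701d512ce57975966a150e99820559b90e467d2f100b317b51b2946b838246d4d851c2cd1f12070210f8788a085c98496766f099be164f00c6c3c060ec50c905ab46851160186a49149100200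

noncomputable def t55 : ℕ :=
  nat_lit 0x3b502c421af4610e46900ceb160a5df2c806bc5662e2831434fb543fdd2377b18c043b7089466bf87b4144ec0b2d9cafa7ab60467e0b8c9c8aa831e93e442cb4cdb0788b9d986015c21e10c3917cfa701b16e08193cba9ee7b5d07c98a34a959dce011258b4277a015066f360aa149d6d210d2c25f045decf2410492a4893008488483c8943d00aa58c627c2b90afd6b26176a6232c0723145841b6a18101da2c30719168802586050ab5293d12122c350182c473f0d0716b986006657c3414d5560bc12007f054ca24269fca6871fa318eb85e0f036865a820bc0f478f964e61a1ce205450378eeca4d11dbad26e38c387c81a483ac96fa08ea512e2704c7480880426a35b38ec7822ae4262982a295ad984a780ce20a3ac70f302250749b0f334ae91741756e52370b4163553c2d324e01a4caacb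

noncomputable def t56 : ℕ :=
  nat_lit 0x28dae4977c30d4d0032c43ed26c37c46c91da1c5e6d7d18d28727e3a20a9762bddceb70c27a04d154af624ec0d319f20f6b131d2e11f071e6bc1b918823f44abc40e637a4cd0766d1010aee540a824d50011071042ca65fd10422b20ea2782ae1c5748b0c4c5806ba8a68180936108e35a5842673e38134fb03a40f6a4603b510476e87960320a10c0a92832e97e16010e8209f279ce165a45888f2a02e1512aae5a8da22802f3919a3c623798e28228a46a302533ce0cc5a02db2b3158b15a71849b0c2827b260dcd4671441c33652e5b67708af802482e83068ff3d010bec13fa754aa72123c4edc87a854d0a2d93938567a0551a197c32c104b78b89190d33400147469ac8487d5c0c5e46072aec5a2e6104c723d2abf5907e71bacc41b129e1548a2820e0675049a4ca52430756c1701bd53664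

noncomputable def t57 : ℕ :=
  nat_lit 0x21d68995cc0586d062abdf65f35351603b090a45eb5048e89f127f3da13051c1721a8e79a31150c4d364a2944782d9ac0573610c450c240083c6d8447a5e52b5e1c966941d64ac269bd0a95291001e711fa5c46896118dbeff5d1915b0659a00babe620b086b8248317ad5071a198005880860e845aad406e6313a16fd64a493c5a4fbbc0c3e0d879465948884a6466b0340ee15e3e8c2140b19c90013ca34dae6333dd9ceb5ba7104ec65aa8f0fc3f129902d02b2a14d335864d8206d13015115b2fc96651a180662840ba45cf482098e6e33e00c8436781fc4475700c8549363aa19e505495d4c984da20ef0881104b0a40fbe4101081a89f02472b9026747740182f5380acf6397111caaa78827508d10ea84b61c87b78ecdd0b9e97631793a8ac7d6e20ca8f11bb9c2a62393b488270d1a44a35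

noncomputable def t58 : ℕ :=
  nat_lit 0x3f0d0230db65eaf0529c5f2406b301f05b1b8fe1c2e623ed487884a387435413e8585c7984c18534f0bc0c7c40048bcac0521066322c09d204f62868300f6f9addce66d24d69063835c410c24a05d2b13d9c9467525a9e16bb86b1c5ae8332f16a8f0ab0e1eb83f99e01115fb555f058539d82d4551e88e4a12115b63c4c8d83ca94fa84447e21bbe204465361a0ec262892ee275bd10cf255bc5904289395a221071f4bebe291dc2057148590e7920864a0302c81d982b692a10a6d37c1c04b24520cc8c2630211a62843717af60ea81303d230444a0d4ab3dda487ea99a66a329d96e8913251c8055c9547cce65a71bae0823f850f70595000633093828ad80974e8ba151360460021680234649452c6c1da683e1c4d80cdce30ba2c128c18c0dbc3866acd24b6751a5fe3948a74e6e12b2b910b0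

noncomputable def t59 : ℕ :=
  nat_lit 0x759c911314c42202a0a8446b051102a351d1d5e00e53818061f4ec40a209742652cc94fa6cdc6c2ab41963c45c25e2733a130704571811c4de513adbab6493312a93389a6109859428bad14334914d3240e5940b2e1e06c24423d05805772a8cc7a1a3988e171992906406c97ce0bb158b5ea592b9183ca53c9381a563903c02a10e0945241501080e52043590aa401370c4270b08cfa1b3e0646e132d8405c6a80ab1aeab308f9a8e044a52083b4e37dd4c35b8a09ad557c2e00b558b9d5a813b0bdf48e7e195044b6d0317ea300278fe5827af028e936a347e120d0c8d0ae7b36dcb034d3f54ccf548c4fc6f281dc7a117c3b584c07f335ff127bb91730d862cd74d85a44590c770bbd18874bc0a0ebd82a2160b82d2018a1879bb0c70f21be51f0633c38bca87d8c18c64301ec92905f305e4c4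

noncomputable def t60 : ℕ :=
  nat_lit 0xd054fa0a038602f37349d4d5108403e7924089066d1a8dc8c6305994243b1992d5ac20b805d301132fc74166f1d4a8f7352e8923271b844e7c3b381ba922517d662c40a58e07d66339a0ee224446cda76b25e8291402432003a0e404382e80c4056580b4621c39b70d82b1734cd61d37930d282402f8860c7f91550942e37d409b79969f6777911decd411bd5b27a6c36e200408990a42575b34f61e1233d2ac35a984d01a2c9051a8b032f14ec61f19e04e77428daeb1203c4a6f084211ac4d07af4c4080aa44fe0759035a2c74386d585855a91df0b87261f23f2ba98e2e6302d80acb5caa9c90609a6938b4289f87aec3c40d94e544b1608bb5b938840a332155cc157c293a724843d3cc4474261b0c7e2a6249f4613d14185c23e0a55441407886514014a5e6441df0974cbf980e27ea4d425b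

noncomputable def t61 : ℕ :=
  nat_lit 0x14fc360f130f02d1632dca313489db6240e8f4122e37bd068fc3506064ca4c9cce4264f88dd8286c1083822680352eb92f154f85b289e8b412338455201730286684643918a81362b894f776998be60551c02e6b60011387b7f26942dd07809604309938b90643159690a0cad9829632c0ca0af178808e071e325c0491f344881f3b03006530b2499c2b6d27454405d82d66931d05400951c1751e105d3b872e2149c4fefb6a4404a456b0ddc2753b86d00fd373ca22f871bd860d378c34fab879bad4a795333cc8523a3d584e81a8859af924119b20825b3106dc6aa6d650427a892063030ee181a51a5110b758a38a8bf26a250a8b77a09885982961410761ba6130f31231ff0e4f2acdaf073b5cc2b5633e9bc986f8fd230b2b8517887522b1a441892f5d4684540202be56b1d4f0807409508d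

noncomputable def t62 : ℕ :=
  nat_lit 0x3ce27e160a0d4450c2d05a04182e0664c57008120a14b0ce8fc40078b070681b8bcfe339c8d6241ba199ef1330345c5c11b6e12d637a10f2a50d875805082a5caaef111ec9e7f3604544eb31264b252853e14cd70307daa351797562c71e0201c1549a1dd068202c840b5489347ebd563480e121332dba010298cca132192982317989d2cc527309ee1c74ac11842482683249448f8002a1c02c74410a2dc72d8288d9a87540c44d2e562388c90d3ba7cf05f7b3d504ca7f9cc4ad3643ee0e0c6fb395e61240ac42cc66b9d14b97238468320bad9cc3d4e181c6ad25ae8770e29b45485754958f8a15e3b820940d28e04a72323d0a8b3d440b6fd6cbe6106d55c02190b4c25506f0833d0fb04793b0b4aa5043e06ed3b11166fa64a6d1c165db81bc885f80dd49e4936a02545411e24c64eaf9b88d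

noncomputable def t63 : ℕ :=
  nat_lit 0xf06c710c09100e50f0808a1f12830aa2808820129728aad9afc3c0b1f2f8333d8462f0d979ae4c7110056c84c83414e8390ce18c414bbcc2af4fab80c076c8b9b67a788d4a6d436075a2ce4c341facc5ab2890ec548c496e41302c3447028f53a3e24859729e210ed96aa5991888037037802a57f2d18e500795d58930aa887e046fae17a4f43a29d6cf800392a865217522134790c008c1c26912884da507237379f9030d3fa08602d2db6042fb3b99cd45939b9e2070419b8d2d3111d4da273b3dc245a0b871c2601a3c9245c3d990e858531360a026a949fea84e050acf06292976c9602ca12b1472dc82ee50af17d125b0e90a8b42445ac5f730c98c7d7a368f8fa768a9c7043430e0f0e7a9acf30a8442da46279b04330f31ae9464e48196061053a59d506613a603026e3757ea0581515a8d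

noncomputable def t64 : ℕ :=
  nat_lit 0xf06c710c09100e50f0808a1f12830aa2808820129728aad9afc3c0b1f2f8333d8462f0d979ae4c7110056c84c83414e8390ce18c414bbcc2af4fab80c076c8b9b67a788d4a6d436075a2ce4c341facc5ab2890ec548c496e41302c3447028f53a3e24859729e210ed96aa5991888037037802a57f2d18e500795d58930aa887e046fae17a4f43a29d6cf800392a865217522134790c008c1c26912884da507237379f9030d3fa08602d2db6042fb3b99cd45939b9e2070419b8d2d3111d4da273b3dc245a0b871c2601a3c9245c3d990e858531360a026a949fea84e050acf06292976c9602ca12b1472dc82ee50af17d125b0e90a8b42445ac5f730c98c7d7a368f8fa768a9c7043430e0f0e7a9acf30a8442da46279b04330f31ae9464e48196061053a59d506613a603026e3757ea0581515a8d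

noncomputable def t65 : ℕ :=
  nat_lit 0x2a88e7c7d089e8db71bc9ee92139186ced88380b4da418d1f64a0da2c74fc3d1714ea0133c17e9019a5148234115034b95daa5b2ee87b982cbe05c31bc9e75a85321d0290806192d95594111040cf08f763e134f56727c86400baac88454c2b0183b8926dec4b722a190244aa7072251eb953a652fc39a053821d424b5009c1d259613160c7d80a00fd0a17158a46c65bf4c0f16a2591a817fc3566cc04b4d2edd85a10202f190dd46ef1ab4828f3743258c763b9245ad10f1cc0e7b0e0c5b83e24361d4210fb9d74f9531319a6e6b1e4ce2a351b62302581fcded518384d21347288788a8493ccc85073111286052d94ab4282320051033016e5763905be15020fdc43849a20302b5e18cd06b079889c5e2e8a60a7261ac4b02c8421d5a616b834e2911413404b27f304c8af5c2b99e74838217a00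

noncomputable def t66 : ℕ :=
  nat_lit 0x2ecab0371aa914de41a608e1701a743aa76715136394582d24f87ec3cc0ca84ae5910d3c42920f23e39208cb6d9954277313895cb7858b49d0218b75086986401ca660996ca08f431e8e0a902b1cba8849b44ecb5199d53c420da7c143678b80022773985d0071a8f9483c448303453040182abe61449ccb67a97c7aed3e929b4f4633715ab25d325b2bf42a3966ee15c2020f06612d1a3a7d120822a0b10088827fbad189a292653910363dcb4cd399d14c043707022a228970ac941215c9a252c9155809130882891558803ef669c0540191a259a4ea54254703b230841c5e5c3f0e46788c1980c162b5864c4171a15e495e3e5622c3f414f6fe779fcd44f4025ce218141603c0f83bcd60b476438c8cf319bdb06b7dba5a82961b84607926295a0811190c24bd6f8fd0e02368ddae2f6a8354600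

noncomputable def t67 : ℕ :=
  nat_lit 0x449fc4c6430586b75d4295cb283ac168c5602c55ebd5c4456cf74e0f9d4a27e3894cf46c10de29d7234542ec72be52ece56265d6ef4fbd9a8e0668f1b6956ea8c70f36ba59aae152a4ddccb67ba1be9168269930f63a3a088c86a1a1d0347a2200b345c2d72ff863f513055e422050680c250ee725908943f203d5a6396d3e1da3d718ede0fb24329cc4174b59b849690e998905fb191ac45da296abe56b090a840a860fe28409f81a053d8c4d273020bc12713c1b0e80f358b00072379a8f24d32998ce642f140c24f2718cba2d0c8c81430158b866071500852623017cd11055aa5289b239108a46792a930a7543e940de4f24948d9120983e1e2a968f4583b158b86e2b94ca280110d84a370e09c42201a8d03a230b868b6820d80d060c08848261038020fa1403164ea0e2a02cf8770b148026d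

noncomputable def t68 : ℕ :=
  nat_lit 0x36d724519b41548075825ec5c7bad0229a1a1f984e57f90df63c5ac25f83600be99c3a253293ee8778b0d449243755c1b2a82c18e47191d20b8639dc082d6a32db29454a650d12491b83c876c26de50d1eb35e6e03d1f18b0c4597c0a2f2ec44cec03c1957cc818ae9fab3833d1fcb04796a06f15233046700e88880710787c98d2563e04e397a8c08d104ba59aacf121494c6c173ba14ed3ca0ca07b87254de263ab7912c4210edcc291437d864b4104d14170a0615651092820ae11c2313866278596cbf319ce1e6080bb0c80e103a4b2a21b8084a7452b4d50815e864ac3e5db24bd0b1ab5930935881d085368a85b4f9812c8d21003279c4ad30adc65045e2bc068e3b1398c8805105ce446ba454e082c0fc421c781c8541a2a1a02a6215a14da6b06c2147003ea751a5b3f95c00ea6e1360ec1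

noncomputable def t69 : ℕ :=
  nat_lit 0x1e4b84f0209828c30c90c440932a2c1ceb56054661b178e81ea0319cc9c586f9a8b49a2a15c3c7e35a7dfd09119e0f402323fd0f0b3d948bac02f9c52a5051c3cb3013a9582c7c402054ad029becd0675243a14f3109d1ba6e1a07d36967b210581d532e9a4107ab6c6efa7409de8ee61355063214bbd226112800020d5b351426c5818970be03ac5d27f5e3818af046af45cea20b8c6235260c090b215119e29c0c209720609a50aaa2472640a9026a28220c5a21824ab44880ccfc552fd1e171c1148e0b670905ac77ba9c803b462dc5003050f07ec8210696a3e250e497063bc42106f839c8dafd64b3cd2e13eb7204d688bb5f2cc28c14b70c6c40d2676732a5509286b94e0d944328bc9e823b0c0c457a152f000e389c8ad66ab87a2b4c379ae9d220d996c673bc8920860b4e24da7c2cda2bb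

noncomputable def t70 : ℕ :=
  nat_lit 0x1d329f3c13e185b7db20e2f085c1ce6c085328be8a4aabdfa182d08d3c550294d58c535268781b0f029424e048e8083623a113a936dba1923d1087498e34ba40b2a3033bc768745888840d48901249857299ac8f101f0bc57179b16e7f0c94806297c368decd16ac8224d42ad47eb063345a40c0b140e45419b80c2251905570797c9dd76ba661a4cea4442c51a0273bb4907b301a17c5d1720c56dc36af4c4fc551711c515cbfa127e4e295a90d88399ecce7a38956a282341408661b62248276199690135badb30387415a68187c18f4df3aad9caf5623fe1100324457e3e0583c3846138043e41000c46a1a0a1260408080c0722a132a48a96123cd969409231eed753928dc38720b136892c10df41722385e2dd4004cca76771f496343a18cace91403978a83831d66de790dd82d5613a99ead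

noncomputable def t71 : ℕ :=
  nat_lit 0xa1fc943731db0b30faad9ad717ba99cd51f0e048f768934ecff3d33cc6b943179de58023760a802ea3178652a83dd6516835208b00f1a8d6563632d22264410dc8b15a37d447b7e0f113005ba5c0aec4e3800067570b0c91138b898661788c4cc7470834d273049fdcac8608617a1540abc9811383c95a4a2281904de072d42835368d024220e00c18495f8fc34391d91040480b8c06e2d040d9a62a15b9c968754b6e1d032e42de69b45c08ae5a64a5a209929c0619124724ddc8f5625546f6844354c84593a0def47cae93a987d041b2d205a9d24465411db4c641884804f3f2e16c720084d94e9311d452c419808646017094840a84c1934a17e9e49cc02843d3f0762a94f10a50148f8905f29046aa429513c3a3bb08365f6b1f4b21d71bd57641453e0d0ed1ebecb6e60b3311a0713bc1b819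

noncomputable def t72 : ℕ :=
  nat_lit 0x368ecf30e125260b000f95ad765c086a945bb353c5e72324d41013aa0de2d23b9982a36e1edb0121a319ee7c193b1e4211229d09034e1ae205a3ea09d47f5d23cd0ee6cb55f3067e12c5efa88a38f10d8599602051588124702239da22a0d1806c6d26a74a86901c1018bb862bd66e029b3a003d11a41a4f81f931ac302312960e94b14932a183b8c74b46dc498abe592b1a83903a152eca1d829306c662c56a380c04d52770f3760a141898dc24e3a15cb0e2131b858c77437d00b95e26dfc080f81910726f0a0a25544974c24107a688acf14bbc088c43ae212ae00a4478f42dafd06810cbedeb0e76889a64017256145f5523590f01b970c90f0b958e6e50b19c2b08332acea7a53280fcc06110d4a1b7b1e586eb01044841d511641a253129066bd24311a050452193e710483916b627bc5fefd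

noncomputable def t73 : ℕ :=
  nat_lit 0x2ed84c77d10612895229d52f17443e05124db7a108b5e375dc9034310660b568b036f53baf894402485c96ba081218c705ac34cab96cb6e22bf33acde48309a28a0b8573e0c4c05902072c118a18ba6681a3dca3a00b31ccc56b1f5c6274685854ed551d60c7c493d10a4e5b07484dc8532dfa0658a39c8614c0d5081a738f88ef97e4319d0b3d1d9263c5bb882a882ac01a29e2a27de0c92214e08e0392853a450721d8663693cdeca80a10c6e5c403fe1c6e6abdc1e8c3a33d7a3853415d65974a59407970919a10152a68ac585637daeef0fba928ab5115dfc2651c41222d2f8f4c02e060acbcc8193686c0a03b28f0055796c0669182d02264093ec682901064a47e04b4cdeb0413605e040c0fce24d141ec48cd118ec426a6a204446d2d41c00250e034984f28a64d66c1025d381e4a9fdd873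

noncomputable def B : List ℕ :=
  [nat_lit 111, nat_lit 259, nat_lit 16, nat_lit 94, nat_lit 140]

noncomputable def E0 : List ℕ :=
  [t0, t1, t2, t3, t4, t5, t6]

noncomputable def E : List ℕ :=
  [t7, t8, t9, t10, t11, t12, t13, t14, t15, t16, t17, t18, t19, t20, t21, t22, t23, t24, t25, t26, t27, t28]

noncomputable def sl0 : List ℕ :=
  [t7, t8, t9, t10, t11, t12, t13, t14, t15, t16, t17, t18, t19, t20, t21, t22, t23, t24, t25, t26, t27, t28]

noncomputable def ul0 : List ℕ :=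
  [t29, t30, t31, t32, t33, t34, t35, t36, t37, t38, t39, t40, t41, t42, t43, t44, t45, t46, t47, t48, t49, t50, t51, t52, t53, t54, t55, t56, t57, t58, t59, t60, t61, t62, t63, t64, t65, t66, t67, t68, t69, t70, t71, t72, t73]

noncomputable def g2_0_7 : List (ℕ × ℕ × ℕ) :=
  [(nat_lit 2, t29, t30), (nat_lit 2, t31, t32), (nat_lit 2, t33, t34), (nat_lit 2, t35, t36), (nat_lit 2, t37, t38), (nat_lit 2, t39, t40), (nat_lit 2, t41, t42)]

noncomputable def g2E : List ℕ :=
  [t29, t31, t33, t35, t37, t39, t41]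

noncomputable def g3_0_6 : List (ℕ × ℕ × ℕ) :=
  [(nat_lit 3, t43, t44), (nat_lit 3, t45, t46), (nat_lit 3, t47, t48), (nat_lit 3, t49, t50), (nat_lit 3, t51, t52), (nat_lit 3, t53, t54)]

noncomputable def g3E : List ℕ :=
  [t43, t45, t47, t49, t51, t53]

noncomputable def g5_3_6 : List (ℕ × ℕ × ℕ) :=
  [(nat_lit 5, t55, t56), (nat_lit 5, t57, t58), (nat_lit 5, t59, t60)]

noncomputable def g5E : List ℕ :=
  [t55, t57, t59]

noncomputable def g7_0_3 : List (ℕ × ℕ × ℕ) :=
  [(nat_lit 3, t61, t62), (nat_lit 2, t63, t64), (nat_lit 7, t65, t66)]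

noncomputable def g7E : List ℕ :=
  [t61, t63, t65]

noncomputable def wp0 : List (List ℕ × List ℕ) :=
  Fx82.wl (nat_lit 48) (nat_lit 0x116510000000300003299000000020001a29900000002000114d100000013000000220000000b0001a2d100000011000004d30000000a00013453000000010001a68b00000001000003130000001c0000b451000000030000328a00000003000132ca000000010001a2ca00000001000000e10000002100000859000000030000001a00000001000008cb0000000c0000001c000000110001345100000003000000ca000000010001329a0000000b00000011000000030000002100000013000000ca00000003000004d30000000b00000021000000110000065100000013000002cb00000013000004d10000000b00001699000000130000065900000002000000d10000000200000022000000010000069a0000000100000099000000030000000b0000000a0000001a0000000b0000000c000000030000168a00000019000000590000001a0000002200000021000000230000002100000013000000010000009a000000190000001a0000001900000021000000020000001900000002)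

noncomputable def wp1 : List (List ℕ × List ℕ) :=
  Fx82.wl (nat_lit 30) (nat_lit 0x94520000004a0009144a000000110008a2510000000200000099000000020000148a00000002000032cb00000001000000c900000002000000510000000200002451000000010000009a0000000b0000145100000002000000130000001100489451000000010025228a0000000200000002000000510000028a00000002000016cb00000001000000da000000190000001300000009000000d300000001000000090000008a0000128a00000002000000130000000100000013000000190000000b000000020000000b0000001a0000000a000000010000001a0000000100000019000000020000000b00000001)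

noncomputable def wp2 : List (List ℕ × List ℕ) :=
  Fx82.wl (nat_lit 26) (nat_lit 0x6d1000000120000049a0000000b000004c90000001b000134d3000000010000048a000000190000004a0000001a000000990000001b000000ca0000000900000059000000120000001300000019000000cb000000120000000b0000001a0000009300000001000000d200000001000000030000000a00000013000000090000009a00000001000000120000000b0000005900000002000000cb0000000200000019000000120000001a000000090000001a00000001000000190000000200000013000000010000000b00000002)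

noncomputable def wp3 : List (List ℕ × List ℕ) :=
  Fx82.wl (nat_lit 16) (nat_lit 0x4890000000900001452000000090000128900000012000124510000000100012291000000020000025100000012000002520000000100000491000000010000004a0000001200000091000000120000000900000011000000120000000a00000091000000020000004a000000010000004a000000020000009100000001)

noncomputable def g3_1_6 : List (ℕ × ℕ × ℕ) :=
  [(nat_lit 3, t45, t46), (nat_lit 3, t47, t48), (nat_lit 3, t49, t50), (nat_lit 3, t51, t52), (nat_lit 3, t53, t54)]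

noncomputable def g3_1_3 : List (ℕ × ℕ × ℕ) :=
  [(nat_lit 3, t45, t46), (nat_lit 3, t47, t48)]

noncomputable def g3_3_6 : List (ℕ × ℕ × ℕ) :=
  [(nat_lit 3, t49, t50), (nat_lit 3, t51, t52), (nat_lit 3, t53, t54)]

noncomputable def g3_0_1 : List (ℕ × ℕ × ℕ) :=
  [(nat_lit 3, t43, t44)]

noncomputable def wp4 : List (List ℕ × List ℕ) :=
  Fx82.wl (nat_lit 8) (nat_lit 0x489000000910128a4510000000200001289000000020000024a0000001200000489000000020000128a00000002000000020000000a0000000900000011)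

noncomputable def g2_1_7 : List (ℕ × ℕ × ℕ) :=
  [(nat_lit 2, t31, t32), (nat_lit 2, t33, t34), (nat_lit 2, t35, t36), (nat_lit 2, t37, t38), (nat_lit 2, t39, t40), (nat_lit 2, t41, t42)]

noncomputable def g2_1_4 : List (ℕ × ℕ × ℕ) :=
  [(nat_lit 2, t31, t32), (nat_lit 2, t33, t34), (nat_lit 2, t35, t36)]

noncomputable def g2_4_7 : List (ℕ × ℕ × ℕ) :=
  [(nat_lit 2, t37, t38), (nat_lit 2, t39, t40), (nat_lit 2, t41, t42)]

noncomputable def g2_0_1 : List (ℕ × ℕ × ℕ) :=
  [(nat_lit 2, t29, t30)]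

noncomputable def wp5 : List (List ℕ × List ℕ) :=
  Fx82.wl (nat_lit 21) (nat_lit 0x24a00000012000092520000000200000251000000120000948a0000001200009452000000020000024900000091000002910000000200002489000000020000049100000009000024910000000200000251000000010000004a00000012000000120000000a00000091000000090000004a00000001000000090000000a0000009100000001000000020000001100000091000000020000004a000000020000000100000011)

noncomputable def wp6 : List (List ℕ × List ℕ) :=
  Fx82.wl (nat_lit 20) (nat_lit 0x1248a000000010000248a00000009000912890000000200091491000000020000044a000000090124a2490000000200000251000000020000048a00000002000000120000004a000014510000000200000251000000010000048a000000010000004a000000020000008a000000010000009100000001000000010000000a0000004a00000001000000090000000a00000012000000110000009100000002)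

noncomputable def r2 : List ℕ :=
  [t67]

noncomputable def fz2 : List (ℕ × ℕ × ℕ × ℕ) :=
  [(nat_lit 3, nat_lit 0, nat_lit 1, nat_lit 0x20303130a0c1213), (nat_lit 16, nat_lit 0, nat_lit 1, nat_lit 0x20110080e0b0b151616), (nat_lit 32, nat_lit 0, nat_lit 1, nat_lit 0xf031005140d0b10121616), (nat_lit 96, nat_lit 0, nat_lit 1, nat_lit 0x20b021006050d0e0b0b10111216), (nat_lit 114, nat_lit 0, nat_lit 1, nat_lit 0x501011508110d1011121616), (nat_lit 4, nat_lit 0, nat_lit 1, nat_lit 0xc02120e060c0c0b121610), (nat_lit 8, nat_lit 0, nat_lit 1, nat_lit 0x303120a0d110b0b16101016)]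

noncomputable def cl2 : List ℕ :=
  [nat_lit 3, nat_lit 16, nat_lit 32, nat_lit 96, nat_lit 114, nat_lit 4, nat_lit 8]

noncomputable def g2_0_0 : List (ℕ × ℕ × ℕ) :=
  []

noncomputable def r3 : List ℕ :=
  [t68, t69]

noncomputable def fz3 : List (ℕ × ℕ × ℕ × ℕ) :=
  [(nat_lit 3, nat_lit 0, nat_lit 1, nat_lit 0x1205010a130d0b131012), (nat_lit 6, nat_lit 0, nat_lit 1, nat_lit 0x80301120a160b14131616), (nat_lit 9, nat_lit 0, nat_lit 1, nat_lit 0x406010f05110c1316), (nat_lit 12, nat_lit 0, nat_lit 1, nat_lit 0x201090a110d1216), (nat_lit 15, nat_lit 0, nat_lit 1, nat_lit 0x3021405110c0c121110), (nat_lit 16, nat_lit 0, nat_lit 1, nat_lit 0x80308060b140c10121116), (nat_lit 18, nat_lit 0, nat_lit 1, nat_lit 0xa030111080d0d1512), (nat_lit 21, nat_lit 0, nat_lit 1, nat_lit 0x60105100514100c0b111416), (nat_lit 23, nat_lit 0, nat_lit 1, nat_lit 0xf020e0f050f0b1116), (nat_lit 24, nat_lit 0, nat_lit 1, nat_lit 0x1004010c05120d0b161010), (nat_lit 27, nat_lit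 0, nat_lit 1, nat_lit 0x903050905120c1316), (nat_lit 33, nat_lit 0, nat_lit 1, nat_lit 0x40902050a05120c101216), (nat_lit 36, nat_lit 0, nat_lit 1, nat_lit 0x14020f060e100b16101016), (nat_lit 42, nat_lit 0, nat_lit 1, nat_lit 0x205010f0a0d0d16131116), (nat_lit 44, nat_lit 0, nat_lit 1, nat_lit 0x110b0114060c1110), (nat_lit 45, nat_lit 0, nat_lit 1, nat_lit 0x20a0205080c0d0b16), (nat_lit 51, nat_lit 0, nat_lit 1, nat_lit 0x903010806150c16151616), (nat_lit 54, nat_lit 0, nat_lit 1, nat_lit 0x2130601091205130d0b1113), (nat_lit 56, nat_lit 1, nat_lit 1, nat_lit 0xe06010a15050c0f1616), (nat_lit 57, nat_lit 0, nat_lit 1, nat_lit 0x40f050d0c121311), (nat_lit 63, nat_lit 0, nat_lit 1, nat_lit 0x1107010b10050b0b111016), (nat_lit 66, nat_lit 0, nat_lit 1, nat_lit 0x409020608050b121016), (nat_lit 72, nat_lit 0, nat_lit 1, nat_lit 0x2010f060e0d0b16101016), (nat_lit 75, nat_lit 0, nat_lit 1, nat_lit 0xf01100705120c121316), (nat_lit 76, nat_lit 0, nat_lit 1,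 nat_lit 0x409040f07160f131616), (nat_lit 81, nat_lit 0, nat_lit 1, nat_lit 0xc010e08130d0b141316), (nat_lit 99, nat_lit 0, nat_lit 1, nat_lit 0x60a010c12060b0b0b111410), (nat_lit 118, nat_lit 1, nat_lit 1, nat_lit 0x80301090a0b120c14131616), (nat_lit 162, nat_lit 0, nat_lit 1, nat_lit 0x106020907110c0b1613111616), (nat_lit 171, nat_lit 0, nat_lit 1, nat_lit 0xc0f01140905110b151010), (nat_lit 48, nat_lit 0, nat_lit 1, nat_lit 0xc0f010c1206120d0b1215121616), (nat_lit 69, nat_lit 0, nat_lit 1, nat_lit 0x913010c0c050e0c0b14121616), (nat_lit 90, nat_lit 0, nat_lit 1, nat_lit 0xf0e01060805130d0b1616), (nat_lit 111, nat_lit 0, nat_lit 1, nat_lit 0x1005010a05130e0b0b1011121616), (nat_lit 159, nat_lit 0, nat_lit 1, nat_lit 0x205080b140b1413), (nat_lit 180, nat_lit 0, nat_lit 1, nat_lit 0xb05010b0e060d100b10121116), (nat_lit 201, nat_lit 0, nat_lit 1, nat_lit 0x50b0514110b1114101616), (nat_lit 222, nat_lit 0, nat_lit 1, nat_lit 0x14030508130d0c1413111616),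 (nat_lit 378, nat_lit 1, nat_lit 1, nat_lit 0xb06011406160c0c141016), (nat_lit 675, nat_lit 1, nat_lit 1, nat_lit 0x120204141106130d0c1211)]

noncomputable def cl3 : List ℕ :=
  [nat_lit 3, nat_lit 6, nat_lit 9, nat_lit 12, nat_lit 15, nat_lit 16, nat_lit 18, nat_lit 21, nat_lit 23, nat_lit 24, nat_lit 27, nat_lit 33, nat_lit 36, nat_lit 42, nat_lit 44, nat_lit 45, nat_lit 51, nat_lit 54, nat_lit 56, nat_lit 57, nat_lit 63, nat_lit 66, nat_lit 72, nat_lit 75, nat_lit 76, nat_lit 81, nat_lit 99, nat_lit 118, nat_lit 162, nat_lit 171, nat_lit 48, nat_lit 69, nat_lit 90, nat_lit 111, nat_lit 159, nat_lit 180, nat_lit 201, nat_lit 222, nat_lit 378, nat_lit 675]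

noncomputable def g3_0_0 : List (ℕ × ℕ × ℕ) :=
  []

noncomputable def r5 : List ℕ :=
  [t70, t71]

noncomputable def fz5 : List (ℕ × ℕ × ℕ × ℕ) :=
  [(nat_lit 1, nat_lit 0, nat_lit 1, nat_lit 0x8010809070c0f0c14131116), (nat_lit 2, nat_lit 0, nat_lit 1, nat_lit 0x16050109070e0c0b1310), (nat_lit 3, nat_lit 0, nat_lit 1, nat_lit 0x40b020c060f0c0b12151016), (nat_lit 4, nat_lit 0, nat_lit 1, nat_lit 0x409040608050f0f0d121011), (nat_lit 5, nat_lit 0, nat_lit 1, nat_lit 0xb04011109140c16131016), (nat_lit 6, nat_lit 0, nat_lit 1, nat_lit 0xc011408130e0b0b1411), (nat_lit 7, nat_lit 0, nat_lit 1, nat_lit 0x110d0114060e110b13), (nat_lit 8, nat_lit 0, nat_lit 1, nat_lit 0x160401140905120c141016), (nat_lit 9, nat_lit 0, nat_lit 1, nat_lit 0xa040511060c0d0b141216), (nat_lit 10, nat_lit 0, nat_lit 1, nat_lit 0x60a010b11050c0b1514111616), (nat_lit 11, nat_lit 0, nat_lit 1, nat_lit 0x1004010809070f0d1213111616), (nat_lit 12, nat_lit 0, nat_lit 1, nat_lit 0xf12010b060b0b111014),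 (nat_lit 13, nat_lit 0, nat_lit 1, nat_lit 0xe04010a0c101016), (nat_lit 14, nat_lit 0, nat_lit 1, nat_lit 0xf0406060d160b1311), (nat_lit 15, nat_lit 0, nat_lit 1, nat_lit 0x10e010a07130e0b0b101116), (nat_lit 16, nat_lit 0, nat_lit 1, nat_lit 0xb05010b0e050d0b0c1012101616), (nat_lit 17, nat_lit 0, nat_lit 1, nat_lit 0xa02081106110c13101616), (nat_lit 18, nat_lit 0, nat_lit 1, nat_lit 0x606040b09050b0b0b1210111616), (nat_lit 19, nat_lit 0, nat_lit 1, nat_lit 0x1401140905110b), (nat_lit 20, nat_lit 0, nat_lit 1, nat_lit 0xb0b0105080d140c11141616), (nat_lit 21, nat_lit 0, nat_lit 1, nat_lit 0xa02080e060b0c13101116), (nat_lit 22, nat_lit 0, nat_lit 1, nat_lit 0xc02040c060f0f0b131011), (nat_lit 23, nat_lit 0, nat_lit 1, nat_lit 0x13060414050b140c15141116), (nat_lit 24, nat_lit 0, nat_lit 1, nat_lit 0x150804050c05110d0c10151016), (nat_lit 30, nat_lit 1, nat_lit 1, nat_lit 0x1010408070f0d0b1112), (nat_lit 60, nat_lit 1, nat_lit 1, nat_lit 0x1408010608050e0c0b1412101616),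 (nat_lit 90, nat_lit 1, nat_lit 1, nat_lit 0x110c010d060513110b14121616), (nat_lit 120, nat_lit 1, nat_lit 1, nat_lit 0x8010e070e0c0b1110141616)]

noncomputable def cl5 : List ℕ :=
  [nat_lit 1, nat_lit 2, nat_lit 3, nat_lit 4, nat_lit 5, nat_lit 6, nat_lit 7, nat_lit 8, nat_lit 9, nat_lit 10, nat_lit 11, nat_lit 12, nat_lit 13, nat_lit 14, nat_lit 15, nat_lit 16, nat_lit 17, nat_lit 18, nat_lit 19, nat_lit 20, nat_lit 21, nat_lit 22, nat_lit 23, nat_lit 24, nat_lit 30, nat_lit 60, nat_lit 90, nat_lit 120]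

noncomputable def g5_3_3 : List (ℕ × ℕ × ℕ) :=
  []

noncomputable def r7 : List ℕ :=
  [t72]

noncomputable def r11 : List ℕ :=
  [t73]

end Cfsg.Agent.SB.SporF.McL
end

-- part: SB/SporF/McL/Chk0
section
/-! S5765, row of McL: kernel checks (generated by notes/SB/spor_tools, helper63) -/

set_option autoImplicit false

namespace Cfsg.Agent.SB.SporF.McL

open Cfsg.Agent.SB Cfsg.Agent.SB.Spor

set_option Elab.async false

noncomputable def d13 : ℕ → ℕ :=
  (rd (nat_lit 6) (nat_lit 63) [nat_lit 0x574d304405304105336f3915c13974c138410410161804404e1000485c31012c104311204e21b50dac511b366bc88c16032c430115b140053390317104058404053a8e3810502530630650410585c104e4d74410042254015440412c10411501540509010827df0990822822822a269668a6a71c00500442411052d22091415014400c33152430e92411861cf1c60821c20094461a184218609909908202e7511863cf64618264a08268f7969c02515555292433032e360b043401441503000, nat_lit 0x59601c55544434970170905d34034c48e06c5991ca0091410cb2010eb48804914d40414134404498500030338804406304305b1483a404150138d1480411011691000411451412c124404404505714d04820e10e20d34504e3810400c141d04104104b1871cf1ca0821c200305d75841151c5105462a278208228a7c218758279a1d96875820012412c91878961c728a1df0861de81f8198220a07e70a22a00806012c10012105442430440c32280c849404890d5c114812b04114b04105b004,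 nat_lit 0x1490c10c00410e61040c804b04804505b14104508a19e08218208628208729a68a28f01c0501001049830410410412c404b04e14131411005c082b0628228a08708208729a3ca58f9c708700400120e0cc2967877c02c80450d505720850d20510535b04104000139230d0c16c114105212550120804511034434401c0d83030c49830863cf1860871800410e87021a28461820861c208659602590444134934125cb410030cc6037032491863cf1870876400c155d2461a16868420821c60a1, nat_lit 0x8004100105b14104b0440434015c004155004904104b0418cc3001013934c40410410415d30530090451550440482c148814831100124549bb430410410411444883404534dd06a04104110404d04ca914c00444920412c104104104332d201045001068c0124b04904304128a8202821c264218a0802cc5012510c01051450442c104904804520b141214045009070a01041b9708f3cf1c70876400410cc0422ac7822820821c208658a0110e44433010010524840442410c10410d248510c, nat_lit 0x1000c301405d0150450c020c5c32001431450c80080432d804100130514c0430400451450c30433d63cf1861c60001430c50c61861c60012c304000c1433010c104304004c0c505810130b04101525894104b04904f1c73c7282087])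

theorem c18 : chkS' lk mk (nsC lk B wp0) g7_0_3 t67 2 0 d13 = true := by
  rewrite [show nsC lk = Fx82.nsF (nat_lit 9) (nat_lit 511) from Fx82.nsF_eq _ _,
    show mk = Fx82.hor (nat_lit 9) (nat_lit 511) (nat_lit 275) from Fx82.pmk_eq _ _ _ _ (by decide) (by decide)]
  decide +kernel

noncomputable def d17 : ℕ → ℕ :=
  (rd (nat_lit 5) (nat_lit 31) [nat_lit 0x288422889120885091e81184213cc05bc4418d0709c831042639ccf2102329884a9482355600a652099501d0f6404238342c7486654548761d008c260142428825208a22092b188411104b110852084228962110011b1c109da999cce4842aa31ac6bc2d0b8e14b20c0a55408061a412141c776058a3264c0a94850c6152876a28690ba61680222c161288ab2848b291641084422de5595e138841284e510800, nat_lit 0x242d70c6d605ac321211a1c1721c61b020184e8484f4321016846361df351d4308d80184e20ace459051906a613cc82082930844014c220d22218b25886332c8622042588251080609da31a0e16a82e08c3880d875294109e6e18021520615532c385490a5a79b4e808c6f52a237006141c633c4a24050118d6231c4830c41388251300108902090492086f10c248d5e220425320a6094460096221862208a2,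 nat_lit 0x11044208a419006490822904911025201651082911d62110a2580c15386341c28769834dc011b26331e4669c6e30c2d024241142842ce2790a132c80185a8319d30c28140c23434200858e485b30a10a70d216b62800c326043060cee0a069329913a80f7c5031922b21d2208a2411a28200222082539062296060a4521164520161208221106c58ce358c92a9dec5840111e02321e91096210cb015442108b5, nat_lit 0x500420085a00908402484214031a9c3180215382a700a111126110091b50319d83004d3504d4405404904420844108a0084ed3058d0c1c901424])

theorem c24 : chkS' lk mk (nsC lk B wp2) g7_0_3 t69 1 0 d17 = true := by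
  rewrite [show nsC lk = Fx82.nsF (nat_lit 9) (nat_lit 511) from Fx82.nsF_eq _ _,
    show mk = Fx82.hor (nat_lit 9) (nat_lit 511) (nat_lit 275) from Fx82.pmk_eq _ _ _ _ (by decide) (by decide)]
  decide +kernel

noncomputable def d15 : ℕ → ℕ :=
  (rd (nat_lit 5) (nat_lit 31) [nat_lit 0x2452a21290246164c484949248042308c22704e21304510ce3085012cc2561908195886990341c63385083310e134416b8a708902195062846710428194611842c615c81044811c20559294a95125149e6a2139c21109c169442c2ce231421c042d08445b9b0b36366689abc88e1134b96b8e6084cb3082211cab6dea1308c10cc45298c10d4475b446155c1098453896b5ac4299ae7981ea7c48a7d209491e0, nat_lit 0x10842108449021088210b820304211842e08c1d7c021084a113837108c6041fd08461404280a042330731180422484a108fb795a971505042109c21585ab108ebc18c7087210d44138aa5dccb729c1a9528f7913256a4982884b24912588f4c64108421095812cca31144328c2160823088556218718c651b0e560901320592b86318463188221144340244b2550])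

theorem c21 : chkS' lk mk (nsC lk B wp1) g5_3_6 t68 1 0 d15 = true := by
  rewrite [show nsC lk = Fx82.nsF (nat_lit 9) (nat_lit 511) from Fx82.nsF_eq _ _,
    show mk = Fx82.hor (nat_lit 9) (nat_lit 511) (nat_lit 275) from Fx82.pmk_eq _ _ _ _ (by decide) (by decide)]
  decide +kernel

noncomputable def d23 : ℕ → ℕ :=
  (rd (nat_lit 5) (nat_lit 31) [nat_lit 0x31214186251d4e13064329253891509025495613a08348ca238824410c828c238284238d42194211908530d01314ee12829118c32104618882a14c1130c11ac853842320c4a1056320562324222244b61d09395669b0eb1194612907209690a48121a0b415c310c2f135413a523094a128483194665254868d03504c14252819ce561cc4418a2094c7448e411421385416a4915a886415e0])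

theorem c33 : chkP' lk mk (nsC lk B wp5) g3_1_3 g3_3_6 t72 0 d23 = true := by
  rewrite [show nsC lk = Fx82.nsF (nat_lit 9) (nat_lit 511) from Fx82.nsF_eq _ _,
    show mk = Fx82.hor (nat_lit 9) (nat_lit 511) (nat_lit 275) from Fx82.pmk_eq _ _ _ _ (by decide) (by decide)]
  decide +kernel

noncomputable def d25 : ℕ → ℕ :=
  (rd (nat_lit 5) (nat_lit 31) [nat_lit 0x4873a46c49cc6114a572d88110a4808241896708886408274a434598822ce2428424199614390840c2608ca5328ec7186440d05399c828863691441a86d08485145ae215a33058558946909c40b4882b06d120a3290250890f51922305c2430e113902124435b48c084e329847795251046709d6a109cc490433b4e240de621cad20ccb50c8109821231497845012c63324621914309020])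

theorem c36 : chkP' lk mk (nsC lk B wp6) g3_1_3 g3_3_6 t73 0 d25 = true := by
  rewrite [show nsC lk = Fx82.nsF (nat_lit 9) (nat_lit 511) from Fx82.nsF_eq _ _,
    show mk = Fx82.hor (nat_lit 9) (nat_lit 511) (nat_lit 275) from Fx82.pmk_eq _ _ _ _ (by decide) (by decide)]
  decide +kernel

noncomputable def d19 : ℕ → ℕ :=
  (rd (nat_lit 5) (nat_lit 31) [nat_lit 0x2d84389031146a3916b094e5098232144518845304663042533a0d2944408c6531cc218ccc1b8262208808488288664086449cc8288282a4233a4671048a509643188640c22290a51a0e618ca8590aa518a31106352421190410a085189c320c84304412b102094222904939489618443b421090843906a388261048610c4113c410a44318da260826130a6210e310cc5089611184428420])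

theorem c27 : chkP' lk mk (nsC lk B wp3) g3_1_3 g3_3_6 t70 0 d19 = true := by
  rewrite [show nsC lk = Fx82.nsF (nat_lit 9) (nat_lit 511) from Fx82.nsF_eq _ _,
    show mk = Fx82.hor (nat_lit 9) (nat_lit 511) (nat_lit 275) from Fx82.pmk_eq _ _ _ _ (by decide) (by decide)]
  decide +kernel

noncomputable def d3 : List (ℕ × ℕ × ℕ) :=
  [(nat_lit 0, t29, nat_lit 0x7030f0b050c0f1110101616), (nat_lit 1, t30, nat_lit 0), (nat_lit 0, t31, nat_lit 0x409030b0916120e0d1412131818), (nat_lit 1, t32, nat_lit 0), (nat_lit 0, t33, nat_lit 0x50a05100a0910100f1714161a1a), (nat_lit 1, t34, nat_lit 0), (nat_lit 0, t35, nat_lit 0x120715110c1a17111817161c1c), (nat_lit 1, t36, nat_lit 0), (nat_lit 0, t37, nat_lit 0xa091e0e15151a181e), (nat_lit 1, t38, nat_lit 0), (nat_lit 0, t39, nat_lit 0x11110b0f1c0f1e17201d1b2020), (nat_lit 1, t40, nat_lit 0), (nat_lit 0, t41, nat_lit 0x140f0d2015111a21171c1d1e22), (nat_lit 1, t42, nat_lit 0), (nat_lit 0, t43, nat_lit 0x17110f24142422191e1f),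 (nat_lit 1, t44, nat_lit 0), (nat_lit 0, t45, nat_lit 0x1412221715231c1c2321), (nat_lit 1, t46, nat_lit 0), (nat_lit 0, t47, nat_lit 0x141913171f221d2828), (nat_lit 1, t48, nat_lit 0), (nat_lit 0, t49, nat_lit 0x1a171f1c27221f1f25262a), (nat_lit 1, t50, nat_lit 0), (nat_lit 0, t51, nat_lit 0x2318171d1d1b232c2927), (nat_lit 1, t52, nat_lit 0), (nat_lit 0, t53, nat_lit 0x211b241d24272b282a), (nat_lit 1, t54, nat_lit 0), (nat_lit 0, t55, nat_lit 0x26251c2629202c252a252a2c30), (nat_lit 1, t56, nat_lit 0), (nat_lit 0, t57, nat_lit 0x261e1d2528212930282d2c3232), (nat_lit 1, t58, nat_lit 0), (nat_lit 0, t59, nat_lit 0x2c201f2a272e322a332f2e), (nat_lit 1, t60, nat_lit 0), (nat_lit 0, t61, nat_lit 0x212e233026322e2b2b35343636), (nat_lit 1, t62, nat_lit 0), (nat_lit 0, t63, nat_lit 0x272323282a2730332d323438), (nat_lit 1, t64, nat_lit 0), (nat_lit 0, t65, nat_lit 0x2c25302c2936303534383a), (nat_lit 1, t66, nat_lit 0), (nat_lit 0, t67, nat_lit 0x3028272c2e2b3a34313a38),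 (nat_lit 0, t68, nat_lit 0x2c2a2d2c343532323c3837), (nat_lit 0, t69, nat_lit 0x29292c36382e353e38383e), (nat_lit 0, t70, nat_lit 0x2c392d3c33363f34393b393f3f), (nat_lit 0, t71, nat_lit 0x2b332c353a2f3e373a3f40), (nat_lit 0, t72, nat_lit 0x41302c4136403f3d41), (nat_lit 0, t73, nat_lit 0x342e313635383937423c3c42)]

theorem c3 : slp lk ver d3 E = true := by
  decide +kernel

noncomputable def d27 : ℕ → ℕ :=
  (rd (nat_lit 20) (nat_lit 0xfffff) [nat_lit 0x181b3cc180241b06c053cc1b0040500c1806c180001b0180525c1b0240514418018101400a0081d0080b02409000220f4110280f0040200c0906c223980b0040f86802004110080a1d01d0001052002520118680f0141d00c101d00a004221d00b000093cc0d6b0155201c1401400c04008190040b25c090001f3cc041d0190081443c091441f5200b14015b201c0000d00c1f43c0b004090041c1440d00815200191d0140000400c0b260090002514007024018681a8680043c170080606c010041a00807868171d006004001d009004250000b1400643c000041700c250180b008090101a44007000011441e00403520130081c3cc071d00fb20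196b0100001700c070080f2001c008103cc175201943c03004130001e14417004191401043c1300c1e25c031400f1d01c0000752006004140040a06c2400c031d0131d01a14011000150240339813000241d011018150081a028140f40a8680600c150141a008115200a0040686814008130042400003140028680d43c018681d06c0014004004211d0030001302400440040101d2600300c130002143c0d004011d0020181300c210080386801008020040d008040041d000000240f00c1a0080d43c041440625c106b00c004230001600c0643c100040402423024163980c06c1a1d00d0000f06c160080c000233980d00c0f0001a0041052004000060240c024206b01625c1500c02004070081706c1d000141440243c070041500c1d024143981700420008160000c00c141d0170001d3981606c0c000205200743c150000200c0a024191d0000040c00026004160080100c1c0001100027028165200c0241c00c111d00100c19008000000a01811440010001c440000180a00019520160280c00000, nat_lit 0xc080041225c0e024120000e144083cc0e06c0801812144120240e000080180e3cc0806c1225c0800c120040e06c0e018083cc120040825c1200c0e000121440e024081441b3cc05018180241800c1b0000506c1b25c0500418000180041b1440500c0525c18])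

theorem c40 : covChk lk B 3 g3_0_0 g3_0_6 g3_0_6 cl3 d27 0 = true := by
  decide +kernel

noncomputable def d21 : ℕ → ℕ :=
  (rd (nat_lit 4) (nat_lit 15) [nat_lit 0x4114111168521224412421121664221552311221832774212612632125533330])

theorem c30 : chkP' lk mk (nsC lk B wp4) g2_1_4 g2_4_7 t71 0 d21 = true := by
  rewrite [show nsC lk = Fx82.nsF (nat_lit 9) (nat_lit 511) from Fx82.nsF_eq _ _,
    show mk = Fx82.hor (nat_lit 9) (nat_lit 511) (nat_lit 275) from Fx82.pmk_eq _ _ _ _ (by decide) (by decide)]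
  decide +kernel

noncomputable def d1 : List (ℕ × ℕ × ℕ) :=
  [(nat_lit 0, t7, nat_lit 0x10104060203050107), (nat_lit 0, t8, nat_lit 0x80402020403080807), (nat_lit 0, t9, nat_lit 0x5020705), (nat_lit 0, t10, nat_lit 0xa060807), (nat_lit 0x20403, t11, nat_lit 0x30201), (nat_lit 4, t12, nat_lit 0x40101), (nat_lit 1030, t13, nat_lit 0x30103), (nat_lit 0x70207, t14, nat_lit 0x10405), (nat_lit 5, t15, nat_lit 0x50203), (nat_lit 1801, t16, nat_lit 0x40606), (nat_lit 518, t17, nat_lit 0x60302), (nat_lit 0x20407, t18, nat_lit 0x50302), (nat_lit 1027, t19, nat_lit 0x20208), (nat_lit 261, t20, nat_lit 0x70404), (nat_lit 6, t21, nat_lit 0x60402), (nat_lit 0x50505, t22, nat_lit 0x50203), (nat_lit 1029, t23, nat_lit 0x40301), (nat_lit 1027, t24, nat_lit 0x60703), (nat_lit 0x80208, t25, nat_lit 0x80108), (nat_lit 0, t26, nat_lit 0x40403), (nat_lit 0, t27, nat_lit 0x10202), (nat_lit 517, t28, nat_lit 0x20402)]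

theorem c1 : slp lk ver d1 E0 = true := by
  decide +kernel

noncomputable def d28 : ℕ → ℕ :=
  (rd (nat_lit 16) (nat_lit 0xffff) [nat_lit 0x14030808900d6412001714172803c808640d001214122817c8036408000d140d54120817640300080408040d041204170003c8021407640c28110016901614026407080c00110811141664025407000cc80c14116416280200070407040c04110416000228016406140bc8100015541564011406080b00100810641514019006000b280b64101415c80100060406040b04100415000164000805540a140f00146414c8002805140a000f640fc81428001405000a640a900f0814140000050405040a040f04140000001b080410090c0e00131013001a0c040809000e080e0c130019100400090c09100e08130018000404040409040e04130000])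

theorem c42 : covChk lk B 5 g5_3_3 g5_3_6 g5_3_6 cl5 d28 0 = true := by
  decide +kernel

theorem c39 : fuse lk B E g3_0_6 r3 fz3 = true := by
  decide +kernel

noncomputable def d12 : List (ℕ × List ℕ) :=
  [(nat_lit 1, [nat_lit 0xb021108110b141311, nat_lit 0xb02040e050f0b151010]), (nat_lit 16, [nat_lit 0x80605150b13101116, nat_lit 0x80904140d05100e0b10101616]), (nat_lit 4, [nat_lit 0x30a010606150b1014, nat_lit 0x1010a08050f0d10121616]), (nat_lit 0, [nat_lit 0x80802051205110d1213, nat_lit 0x1508120b100b11131616])]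

theorem c17 : Nat.ble 40320 (chain lk E 275 (okN lk B t67 2) d12 []) = true := by
  decide +kernel

noncomputable def d24 : List (ℕ × List ℕ) :=
  [(nat_lit 3, [nat_lit 0xa03010d050d110b0b11101616]), (nat_lit 0, [nat_lit 0x13010113080d0b1210])]

theorem c35 : Nat.ble 55 (chain lk E 275 (okN lk B t73 11) d24 []) = true := by
  decide +kernel

noncomputable def d16 : List (ℕ × List ℕ) :=
  [(nat_lit 8, [nat_lit 0x1002140d0516140b121316]), (nat_lit 4, [nat_lit 0x1204010e05110f151411, nat_lit 0x8030b0810110b131116]), (nat_lit 1, [nat_lit 0x213011605150c13, nat_lit 0x4020b0e06110c0b1410]), (nat_lit 0, [nat_lit 0x1004010d080b13101616])]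

theorem c23 : Nat.ble 58320 (chain lk E 275 (okN lk B t69 3) d16 []) = true := by
  decide +kernel

noncomputable def d22 : List (ℕ × List ℕ) :=
  [(nat_lit 13, [nat_lit 0xc07010a0f100b101516, nat_lit 0xa0204160c0c12111016]), (nat_lit 0, [nat_lit 0xc0701090a150c101611])]

theorem c32 : Nat.ble 42 (chain lk E 275 (okN lk B t72 7) d22 []) = true := by
  decide +kernel

noncomputable def d20 : List (ℕ × List ℕ) :=
  [(nat_lit 2, [nat_lit 0xe030e06140c1211, nat_lit 0x106010c070d1411]), (nat_lit 1, [nat_lit 0x14020e06050b0c1413, nat_lit 0xa04140a05150c111216])]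

theorem c29 : Nat.ble 3000 (chain lk E 275 (okN lk B t71 5) d20 []) = true := by
  decide +kernel

noncomputable def d14 : List (ℕ × List ℕ) :=
  [(nat_lit 1, [nat_lit 0x1401100705150b1014, nat_lit 0x1501010815050f0f0d10]), (nat_lit 3, [nat_lit 0x150905140c0b11, nat_lit 0xf1201050a05130c16]), (nat_lit 0, [nat_lit 0x120401050814110b16101616])]

theorem c20 : Nat.ble 1944 (chain lk E 275 (okN lk B t68 3) d14 []) = true := by
  decide +kernel

theorem c41 : fuse lk B E g5_3_6 r5 fz5 = true := by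
  decide +kernel

noncomputable def d18 : List (ℕ × List ℕ) :=
  [(nat_lit 1, [nat_lit 0x1505010e07120c1210, nat_lit 0x30a010c07120d0b141016]), (nat_lit 0, [nat_lit 0xb10041409121311])]

theorem c26 : Nat.ble 100 (chain lk E 275 (okN lk B t70 5) d18 []) = true := by
  decide +kernel

noncomputable def d26 : ℕ → ℕ :=
  (rd (nat_lit 17) (nat_lit 0x1ffff) [nat_lit 0x320010000080000008000570010000ec0020020b00808083c02400205008000804024200820045806800594008b00408060005760081004100610020c01000190002000100018000810040000])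

theorem c38 : covChk lk B 2 g2_0_0 g2_0_7 g2_0_7 cl2 d26 0 = true := by
  decide +kernel

noncomputable def d2 : List (ℕ × List ℕ) :=
  [(nat_lit 111, [nat_lit 1, nat_lit 2]), (nat_lit 259, [nat_lit 5, nat_lit 7]), (nat_lit 16, [nat_lit 11, nat_lit 12]), (nat_lit 94, [nat_lit 16, nat_lit 17, nat_lit 18]), (nat_lit 140, [nat_lit 22])]

theorem c2 : baseChk lk E 275 898128000 d2 = true := by
  decide +kernel

noncomputable def d7 : List (ℕ × List ℕ) :=
  [(nat_lit 94, [nat_lit 1, nat_lit 3]), (nat_lit 82, [nat_lit 5, nat_lit 6])]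

theorem c9 : Nat.ble 729 (chain lk g3E 275 (fun _ => true) d7 []) = true := by
  decide +kernel

noncomputable def d4 : ℕ → ℕ :=
  (rd (nat_lit 6) (nat_lit 63) [nat_lit 0x400420040810091420402901c2041bd9304085180])

theorem c5 : Nat.blt (nat_lit 0) (pcChk lk B d4 g2_0_7 (nat_lit 1)) = true := by
  decide +kernel

noncomputable def d6 : ℕ → ℕ :=
  (rd (nat_lit 8) (nat_lit 255) [nat_lit 0x10003010017111a001b394e2b002a8e4c1a267e00])

theorem c8 : Nat.blt (nat_lit 0) (pcChk lk B d6 g3_0_6 (nat_lit 1)) = true := by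
  decide +kernel

theorem c37 : fuse lk B E g2_0_7 r2 fz2 = true := by
  decide +kernel

noncomputable def d5 : List (ℕ × List ℕ) :=
  [(nat_lit 157, [nat_lit 1, nat_lit 2, nat_lit 6]), (nat_lit 70, [nat_lit 7])]

theorem c6 : Nat.ble 128 (chain lk g2E 275 (fun _ => true) d5 []) = true := by
  decide +kernel

noncomputable def d9 : List (ℕ × List ℕ) :=
  [(nat_lit 272, [nat_lit 1, nat_lit 2])]

theorem c12 : Nat.ble 125 (chain lk g5E 275 (fun _ => true) d9 []) = true := by
  decide +kernel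

noncomputable def d8 : ℕ → ℕ :=
  (rd (nat_lit 5) (nat_lit 31) [nat_lit 0x205d000])

theorem c11 : Nat.blt (nat_lit 0) (pcChk lk B d8 g5_3_6 (nat_lit 1)) = true := by
  decide +kernel

noncomputable def d10 : ℕ → ℕ :=
  (rd (nat_lit 4) (nat_lit 15) [nat_lit 0x108110])

theorem c14 : Nat.blt (nat_lit 0) (pcChk lk B d10 g7_0_3 (nat_lit 1)) = true := by
  decide +kernel

noncomputable def d11 : List (ℕ × List ℕ) :=
  [(nat_lit 52, [nat_lit 1, nat_lit 3])]

theorem c15 : Nat.ble 42 (chain lk g7E 275 (fun _ => true) d11 []) = true := by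
  decide +kernel

theorem c4 : invChk lk B (g2_0_7.map Prod.snd) = true := by
  decide +kernel

theorem c7 : invChk lk B (g3_0_6.map Prod.snd) = true := by
  decide +kernel

theorem c10 : invChk lk B (g5_3_6.map Prod.snd) = true := by
  decide +kernel

theorem c13 : invChk lk B (g7_0_3.map Prod.snd) = true := by
  decide +kernel

theorem c16 : ordChk lk B t67 2 = true := by
  decide +kernel

theorem c19 : ordChk lk B t68 3 = true := by
  decide +kernel

theorem c22 : ordChk lk B t69 3 = true := by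
  decide +kernel

theorem c25 : ordChk lk B t70 5 = true := by
  decide +kernel

theorem c28 : ordChk lk B t71 5 = true := by
  decide +kernel

theorem c31 : ordChk lk B t72 7 = true := by
  decide +kernel

theorem c34 : ordChk lk B t73 11 = true := by
  decide +kernel

end Cfsg.Agent.SB.SporF.McL
end

-- part: SB/SporF/McL/Main
section
/-! S5765, row of McL: assembly (generated by notes/SB/spor_tools, helper63) -/

set_option autoImplicit false

namespace Cfsg.Agent.SB.SporF.McL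

open Cfsg.Agent.SB Cfsg.Agent.SB.Spor

open Cfsg

set_option maxRecDepth 100000
set_option linter.unusedSectionVars false

variable {G : Type*} [Group G]

theorem tab (M : PM G 275) : M.Tab lk mk ver := perm_tab M rfl (by norm_num) (by norm_num)

/-- the tables `E0` describe elements of `G`, and the order of `G` is bounded -/
structure Hyp (M : PM G 275) : Prop where
  h0 : AllIn M lk E0
  hN : Nat.card G ≤ 898128000

variable [Finite G] {M : PM G 275} (H : Hyp M)
include H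

theorem s0 : AllIn M lk sl0 :=
  slp_spec (tab M) d1 E0 H.h0 c1

theorem i7 : M.In lk t7 :=
  s0 H _ (.head _)

theorem i8 : M.In lk t8 :=
  s0 H _ (.tail _ (.head _))

theorem i9 : M.In lk t9 :=
  s0 H _ (.tail _ (.tail _ (.head _)))

theorem i10 : M.In lk t10 :=
  s0 H _ (.tail _ (.tail _ (.tail _ (.head _))))

theorem i11 : M.In lk t11 :=
  s0 H _ (.tail _ (.tail _ (.tail _ (.tail _ (.head _)))))

theorem i12 : M.In lk t12 :=
  s0 H _ (.tail _ (.tail _ (.tail _ (.tail _ (.tail _ (.head _))))))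

theorem i13 : M.In lk t13 :=
  s0 H _ (.tail _ (.tail _ (.tail _ (.tail _ (.tail _ (.tail _ (.head _)))))))

theorem i14 : M.In lk t14 :=
  s0 H _ (.tail _ (.tail _ (.tail _ (.tail _ (.tail _ (.tail _ (.tail _ (.head _))))))))

theorem i15 : M.In lk t15 :=
  s0 H _ (.tail _ (.tail _ (.tail _ (.tail _ (.tail _ (.tail _ (.tail _ (.tail _ (.head _)))))))))

theorem i16 : M.In lk t16 :=
  s0 H _ (.tail _ (.tail _ (.tail _ (.tail _ (.tail _ (.tail _ (.tail _ (.tail _ (.tail _ (.head _))))))))))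

theorem i17 : M.In lk t17 :=
  s0 H _ (.tail _ (.tail _ (.tail _ (.tail _ (.tail _ (.tail _ (.tail _ (.tail _ (.tail _ (.tail _ (.head _)))))))))))

theorem i18 : M.In lk t18 :=
  s0 H _ (.tail _ (.tail _ (.tail _ (.tail _ (.tail _ (.tail _ (.tail _ (.tail _ (.tail _ (.tail _ (.tail _ (.head _))))))))))))

theorem i19 : M.In lk t19 :=
  s0 H _ (.tail _ (.tail _ (.tail _ (.tail _ (.tail _ (.tail _ (.tail _ (.tail _ (.tail _ (.tail _ (.tail _ (.tail _ (.head _)))))))))))))

theorem i20 : M.In lk t20 :=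
  s0 H _ (.tail _ (.tail _ (.tail _ (.tail _ (.tail _ (.tail _ (.tail _ (.tail _ (.tail _ (.tail _ (.tail _ (.tail _ (.tail _ (.head _))))))))))))))

theorem i21 : M.In lk t21 :=
  s0 H _ (.tail _ (.tail _ (.tail _ (.tail _ (.tail _ (.tail _ (.tail _ (.tail _ (.tail _ (.tail _ (.tail _ (.tail _ (.tail _ (.tail _ (.head _)))))))))))))))

theorem i22 : M.In lk t22 :=
  s0 H _ (.tail _ (.tail _ (.tail _ (.tail _ (.tail _ (.tail _ (.tail _ (.tail _ (.tail _ (.tail _ (.tail _ (.tail _ (.tail _ (.tail _ (.tail _ (.head _))))))))))))))))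

theorem i23 : M.In lk t23 :=
  s0 H _ (.tail _ (.tail _ (.tail _ (.tail _ (.tail _ (.tail _ (.tail _ (.tail _ (.tail _ (.tail _ (.tail _ (.tail _ (.tail _ (.tail _ (.tail _ (.tail _ (.head _)))))))))))))))))

theorem i24 : M.In lk t24 :=
  s0 H _ (.tail _ (.tail _ (.tail _ (.tail _ (.tail _ (.tail _ (.tail _ (.tail _ (.tail _ (.tail _ (.tail _ (.tail _ (.tail _ (.tail _ (.tail _ (.tail _ (.tail _ (.head _))))))))))))))))))

theorem i25 : M.In lk t25 :=
  s0 H _ (.tail _ (.tail _ (.tail _ (.tail _ (.tail _ (.tail _ (.tail _ (.tail _ (.tail _ (.tail _ (.tail _ (.tail _ (.tail _ (.tail _ (.tail _ (.tail _ (.tail _ (.tail _ (.head _)))))))))))))))))))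

theorem i26 : M.In lk t26 :=
  s0 H _ (.tail _ (.tail _ (.tail _ (.tail _ (.tail _ (.tail _ (.tail _ (.tail _ (.tail _ (.tail _ (.tail _ (.tail _ (.tail _ (.tail _ (.tail _ (.tail _ (.tail _ (.tail _ (.tail _ (.head _))))))))))))))))))))

theorem i27 : M.In lk t27 :=
  s0 H _ (.tail _ (.tail _ (.tail _ (.tail _ (.tail _ (.tail _ (.tail _ (.tail _ (.tail _ (.tail _ (.tail _ (.tail _ (.tail _ (.tail _ (.tail _ (.tail _ (.tail _ (.tail _ (.tail _ (.tail _ (.head _)))))))))))))))))))))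

theorem i28 : M.In lk t28 :=
  s0 H _ (.tail _ (.tail _ (.tail _ (.tail _ (.tail _ (.tail _ (.tail _ (.tail _ (.tail _ (.tail _ (.tail _ (.tail _ (.tail _ (.tail _ (.tail _ (.tail _ (.tail _ (.tail _ (.tail _ (.tail _ (.tail _ (.head _))))))))))))))))))))))

theorem hE : AllIn M lk E :=
  (AllIn.cons (i7 H) (AllIn.cons (i8 H) (AllIn.cons (i9 H) (AllIn.cons (i10 H) (AllIn.cons (i11 H) (AllIn.cons (i12 H) (AllIn.cons (i13 H) (AllIn.cons (i14 H) (AllIn.cons (i15 H) (AllIn.cons (i16 H) (AllIn.cons (i17 H) (AllIn.cons (i18 H) (AllIn.cons (i19 H) (AllIn.cons (i20 H) (AllIn.cons (i21 H) (AllIn.cons (i22 H) (AllIn.cons (i23 H) (AllIn.cons (i24 H) (AllIn.cons (i25 H) (AllIn.cons (i26 H) (AllIn.cons (i27 H) (AllIn.cons (i28 H) AllIn.nil))))))))))))))))))))))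

theorem hB0 : M.Base B ∧ Nat.card G = 898128000 :=
  base_of_chk (hE H) H.hN (B := B) rfl c2

theorem hB : M.Base B :=
  (hB0 H).1

theorem u0 : AllIn M lk ul0 :=
  slp_spec (tab M) d3 E (hE H) c3

theorem i29 : M.In lk t29 :=
  u0 H _ (.head _)

theorem i30 : M.In lk t30 :=
  u0 H _ (.tail _ (.head _))

theorem i31 : M.In lk t31 :=
  u0 H _ (.tail _ (.tail _ (.head _)))

theorem i32 : M.In lk t32 :=
  u0 H _ (.tail _ (.tail _ (.tail _ (.head _))))

theorem i33 : M.In lk t33 :=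
  u0 H _ (.tail _ (.tail _ (.tail _ (.tail _ (.head _)))))

theorem i34 : M.In lk t34 :=
  u0 H _ (.tail _ (.tail _ (.tail _ (.tail _ (.tail _ (.head _))))))

theorem i35 : M.In lk t35 :=
  u0 H _ (.tail _ (.tail _ (.tail _ (.tail _ (.tail _ (.tail _ (.head _)))))))

theorem i36 : M.In lk t36 :=
  u0 H _ (.tail _ (.tail _ (.tail _ (.tail _ (.tail _ (.tail _ (.tail _ (.head _))))))))

theorem i37 : M.In lk t37 :=
  u0 H _ (.tail _ (.tail _ (.tail _ (.tail _ (.tail _ (.tail _ (.tail _ (.tail _ (.head _)))))))))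

theorem i38 : M.In lk t38 :=
  u0 H _ (.tail _ (.tail _ (.tail _ (.tail _ (.tail _ (.tail _ (.tail _ (.tail _ (.tail _ (.head _))))))))))

theorem i39 : M.In lk t39 :=
  u0 H _ (.tail _ (.tail _ (.tail _ (.tail _ (.tail _ (.tail _ (.tail _ (.tail _ (.tail _ (.tail _ (.head _)))))))))))

theorem i40 : M.In lk t40 :=
  u0 H _ (.tail _ (.tail _ (.tail _ (.tail _ (.tail _ (.tail _ (.tail _ (.tail _ (.tail _ (.tail _ (.tail _ (.head _))))))))))))

theorem i41 : M.In lk t41 :=
  u0 H _ (.tail _ (.tail _ (.tail _ (.tail _ (.tail _ (.tail _ (.tail _ (.tail _ (.tail _ (.tail _ (.tail _ (.tail _ (.head _)))))))))))))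

theorem i42 : M.In lk t42 :=
  u0 H _ (.tail _ (.tail _ (.tail _ (.tail _ (.tail _ (.tail _ (.tail _ (.tail _ (.tail _ (.tail _ (.tail _ (.tail _ (.tail _ (.head _))))))))))))))

theorem i43 : M.In lk t43 :=
  u0 H _ (.tail _ (.tail _ (.tail _ (.tail _ (.tail _ (.tail _ (.tail _ (.tail _ (.tail _ (.tail _ (.tail _ (.tail _ (.tail _ (.tail _ (.head _)))))))))))))))

theorem i44 : M.In lk t44 :=
  u0 H _ (.tail _ (.tail _ (.tail _ (.tail _ (.tail _ (.tail _ (.tail _ (.tail _ (.tail _ (.tail _ (.tail _ (.tail _ (.tail _ (.tail _ (.tail _ (.head _))))))))))))))))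

theorem i45 : M.In lk t45 :=
  u0 H _ (.tail _ (.tail _ (.tail _ (.tail _ (.tail _ (.tail _ (.tail _ (.tail _ (.tail _ (.tail _ (.tail _ (.tail _ (.tail _ (.tail _ (.tail _ (.tail _ (.head _)))))))))))))))))

theorem i46 : M.In lk t46 :=
  u0 H _ (.tail _ (.tail _ (.tail _ (.tail _ (.tail _ (.tail _ (.tail _ (.tail _ (.tail _ (.tail _ (.tail _ (.tail _ (.tail _ (.tail _ (.tail _ (.tail _ (.tail _ (.head _))))))))))))))))))

theorem i47 : M.In lk t47 :=
  u0 H _ (.tail _ (.tail _ (.tail _ (.tail _ (.tail _ (.tail _ (.tail _ (.tail _ (.tail _ (.tail _ (.tail _ (.tail _ (.tail _ (.tail _ (.tail _ (.tail _ (.tail _ (.tail _ (.head _)))))))))))))))))))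

theorem i48 : M.In lk t48 :=
  u0 H _ (.tail _ (.tail _ (.tail _ (.tail _ (.tail _ (.tail _ (.tail _ (.tail _ (.tail _ (.tail _ (.tail _ (.tail _ (.tail _ (.tail _ (.tail _ (.tail _ (.tail _ (.tail _ (.tail _ (.head _))))))))))))))))))))

theorem i49 : M.In lk t49 :=
  u0 H _ (.tail _ (.tail _ (.tail _ (.tail _ (.tail _ (.tail _ (.tail _ (.tail _ (.tail _ (.tail _ (.tail _ (.tail _ (.tail _ (.tail _ (.tail _ (.tail _ (.tail _ (.tail _ (.tail _ (.tail _ (.head _)))))))))))))))))))))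

theorem i50 : M.In lk t50 :=
  u0 H _ (.tail _ (.tail _ (.tail _ (.tail _ (.tail _ (.tail _ (.tail _ (.tail _ (.tail _ (.tail _ (.tail _ (.tail _ (.tail _ (.tail _ (.tail _ (.tail _ (.tail _ (.tail _ (.tail _ (.tail _ (.tail _ (.head _))))))))))))))))))))))

theorem i51 : M.In lk t51 :=
  u0 H _ (.tail _ (.tail _ (.tail _ (.tail _ (.tail _ (.tail _ (.tail _ (.tail _ (.tail _ (.tail _ (.tail _ (.tail _ (.tail _ (.tail _ (.tail _ (.tail _ (.tail _ (.tail _ (.tail _ (.tail _ (.tail _ (.tail _ (.head _)))))))))))))))))))))))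

theorem i52 : M.In lk t52 :=
  u0 H _ (.tail _ (.tail _ (.tail _ (.tail _ (.tail _ (.tail _ (.tail _ (.tail _ (.tail _ (.tail _ (.tail _ (.tail _ (.tail _ (.tail _ (.tail _ (.tail _ (.tail _ (.tail _ (.tail _ (.tail _ (.tail _ (.tail _ (.tail _ (.head _))))))))))))))))))))))))

theorem i53 : M.In lk t53 :=
  u0 H _ (.tail _ (.tail _ (.tail _ (.tail _ (.tail _ (.tail _ (.tail _ (.tail _ (.tail _ (.tail _ (.tail _ (.tail _ (.tail _ (.tail _ (.tail _ (.tail _ (.tail _ (.tail _ (.tail _ (.tail _ (.tail _ (.tail _ (.tail _ (.tail _ (.head _)))))))))))))))))))))))))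

theorem i54 : M.In lk t54 :=
  u0 H _ (.tail _ (.tail _ (.tail _ (.tail _ (.tail _ (.tail _ (.tail _ (.tail _ (.tail _ (.tail _ (.tail _ (.tail _ (.tail _ (.tail _ (.tail _ (.tail _ (.tail _ (.tail _ (.tail _ (.tail _ (.tail _ (.tail _ (.tail _ (.tail _ (.tail _ (.head _))))))))))))))))))))))))))

theorem i55 : M.In lk t55 :=
  u0 H _ (.tail _ (.tail _ (.tail _ (.tail _ (.tail _ (.tail _ (.tail _ (.tail _ (.tail _ (.tail _ (.tail _ (.tail _ (.tail _ (.tail _ (.tail _ (.tail _ (.tail _ (.tail _ (.tail _ (.tail _ (.tail _ (.tail _ (.tail _ (.tail _ (.tail _ (.tail _ (.head _)))))))))))))))))))))))))))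

theorem i56 : M.In lk t56 :=
  u0 H _ (.tail _ (.tail _ (.tail _ (.tail _ (.tail _ (.tail _ (.tail _ (.tail _ (.tail _ (.tail _ (.tail _ (.tail _ (.tail _ (.tail _ (.tail _ (.tail _ (.tail _ (.tail _ (.tail _ (.tail _ (.tail _ (.tail _ (.tail _ (.tail _ (.tail _ (.tail _ (.tail _ (.head _))))))))))))))))))))))))))))

theorem i57 : M.In lk t57 :=
  u0 H _ (.tail _ (.tail _ (.tail _ (.tail _ (.tail _ (.tail _ (.tail _ (.tail _ (.tail _ (.tail _ (.tail _ (.tail _ (.tail _ (.tail _ (.tail _ (.tail _ (.tail _ (.tail _ (.tail _ (.tail _ (.tail _ (.tail _ (.tail _ (.tail _ (.tail _ (.tail _ (.tail _ (.tail _ (.head _)))))))))))))))))))))))))))))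

theorem i58 : M.In lk t58 :=
  u0 H _ (.tail _ (.tail _ (.tail _ (.tail _ (.tail _ (.tail _ (.tail _ (.tail _ (.tail _ (.tail _ (.tail _ (.tail _ (.tail _ (.tail _ (.tail _ (.tail _ (.tail _ (.tail _ (.tail _ (.tail _ (.tail _ (.tail _ (.tail _ (.tail _ (.tail _ (.tail _ (.tail _ (.tail _ (.tail _ (.head _))))))))))))))))))))))))))))))

theorem i59 : M.In lk t59 :=
  u0 H _ (.tail _ (.tail _ (.tail _ (.tail _ (.tail _ (.tail _ (.tail _ (.tail _ (.tail _ (.tail _ (.tail _ (.tail _ (.tail _ (.tail _ (.tail _ (.tail _ (.tail _ (.tail _ (.tail _ (.tail _ (.tail _ (.tail _ (.tail _ (.tail _ (.tail _ (.tail _ (.tail _ (.tail _ (.tail _ (.tail _ (.head _)))))))))))))))))))))))))))))))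

theorem i60 : M.In lk t60 :=
  u0 H _ (.tail _ (.tail _ (.tail _ (.tail _ (.tail _ (.tail _ (.tail _ (.tail _ (.tail _ (.tail _ (.tail _ (.tail _ (.tail _ (.tail _ (.tail _ (.tail _ (.tail _ (.tail _ (.tail _ (.tail _ (.tail _ (.tail _ (.tail _ (.tail _ (.tail _ (.tail _ (.tail _ (.tail _ (.tail _ (.tail _ (.tail _ (.head _))))))))))))))))))))))))))))))))

theorem i61 : M.In lk t61 :=
  u0 H _ (.tail _ (.tail _ (.tail _ (.tail _ (.tail _ (.tail _ (.tail _ (.tail _ (.tail _ (.tail _ (.tail _ (.tail _ (.tail _ (.tail _ (.tail _ (.tail _ (.tail _ (.tail _ (.tail _ (.tail _ (.tail _ (.tail _ (.tail _ (.tail _ (.tail _ (.tail _ (.tail _ (.tail _ (.tail _ (.tail _ (.tail _ (.tail _ (.head _)))))))))))))))))))))))))))))))))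

theorem i62 : M.In lk t62 :=
  u0 H _ (.tail _ (.tail _ (.tail _ (.tail _ (.tail _ (.tail _ (.tail _ (.tail _ (.tail _ (.tail _ (.tail _ (.tail _ (.tail _ (.tail _ (.tail _ (.tail _ (.tail _ (.tail _ (.tail _ (.tail _ (.tail _ (.tail _ (.tail _ (.tail _ (.tail _ (.tail _ (.tail _ (.tail _ (.tail _ (.tail _ (.tail _ (.tail _ (.tail _ (.head _))))))))))))))))))))))))))))))))))

theorem i63 : M.In lk t63 :=
  u0 H _ (.tail _ (.tail _ (.tail _ (.tail _ (.tail _ (.tail _ (.tail _ (.tail _ (.tail _ (.tail _ (.tail _ (.tail _ (.tail _ (.tail _ (.tail _ (.tail _ (.tail _ (.tail _ (.tail _ (.tail _ (.tail _ (.tail _ (.tail _ (.tail _ (.tail _ (.tail _ (.tail _ (.tail _ (.tail _ (.tail _ (.tail _ (.tail _ (.tail _ (.tail _ (.head _)))))))))))))))))))))))))))))))))))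

theorem i64 : M.In lk t64 :=
  u0 H _ (.tail _ (.tail _ (.tail _ (.tail _ (.tail _ (.tail _ (.tail _ (.tail _ (.tail _ (.tail _ (.tail _ (.tail _ (.tail _ (.tail _ (.tail _ (.tail _ (.tail _ (.tail _ (.tail _ (.tail _ (.tail _ (.tail _ (.tail _ (.tail _ (.tail _ (.tail _ (.tail _ (.tail _ (.tail _ (.tail _ (.tail _ (.tail _ (.tail _ (.tail _ (.tail _ (.head _))))))))))))))))))))))))))))))))))))

theorem i65 : M.In lk t65 :=
  u0 H _ (.tail _ (.tail _ (.tail _ (.tail _ (.tail _ (.tail _ (.tail _ (.tail _ (.tail _ (.tail _ (.tail _ (.tail _ (.tail _ (.tail _ (.tail _ (.tail _ (.tail _ (.tail _ (.tail _ (.tail _ (.tail _ (.tail _ (.tail _ (.tail _ (.tail _ (.tail _ (.tail _ (.tail _ (.tail _ (.tail _ (.tail _ (.tail _ (.tail _ (.tail _ (.tail _ (.tail _ (.head _)))))))))))))))))))))))))))))))))))))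

theorem i66 : M.In lk t66 :=
  u0 H _ (.tail _ (.tail _ (.tail _ (.tail _ (.tail _ (.tail _ (.tail _ (.tail _ (.tail _ (.tail _ (.tail _ (.tail _ (.tail _ (.tail _ (.tail _ (.tail _ (.tail _ (.tail _ (.tail _ (.tail _ (.tail _ (.tail _ (.tail _ (.tail _ (.tail _ (.tail _ (.tail _ (.tail _ (.tail _ (.tail _ (.tail _ (.tail _ (.tail _ (.tail _ (.tail _ (.tail _ (.tail _ (.head _))))))))))))))))))))))))))))))))))))))

theorem i67 : M.In lk t67 :=
  u0 H _ (.tail _ (.tail _ (.tail _ (.tail _ (.tail _ (.tail _ (.tail _ (.tail _ (.tail _ (.tail _ (.tail _ (.tail _ (.tail _ (.tail _ (.tail _ (.tail _ (.tail _ (.tail _ (.tail _ (.tail _ (.tail _ (.tail _ (.tail _ (.tail _ (.tail _ (.tail _ (.tail _ (.tail _ (.tail _ (.tail _ (.tail _ (.tail _ (.tail _ (.tail _ (.tail _ (.tail _ (.tail _ (.tail _ (.head _)))))))))))))))))))))))))))))))))))))))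

theorem i68 : M.In lk t68 :=
  u0 H _ (.tail _ (.tail _ (.tail _ (.tail _ (.tail _ (.tail _ (.tail _ (.tail _ (.tail _ (.tail _ (.tail _ (.tail _ (.tail _ (.tail _ (.tail _ (.tail _ (.tail _ (.tail _ (.tail _ (.tail _ (.tail _ (.tail _ (.tail _ (.tail _ (.tail _ (.tail _ (.tail _ (.tail _ (.tail _ (.tail _ (.tail _ (.tail _ (.tail _ (.tail _ (.tail _ (.tail _ (.tail _ (.tail _ (.tail _ (.head _))))))))))))))))))))))))))))))))))))))))

theorem i69 : M.In lk t69 :=
  u0 H _ (.tail _ (.tail _ (.tail _ (.tail _ (.tail _ (.tail _ (.tail _ (.tail _ (.tail _ (.tail _ (.tail _ (.tail _ (.tail _ (.tail _ (.tail _ (.tail _ (.tail _ (.tail _ (.tail _ (.tail _ (.tail _ (.tail _ (.tail _ (.tail _ (.tail _ (.tail _ (.tail _ (.tail _ (.tail _ (.tail _ (.tail _ (.tail _ (.tail _ (.tail _ (.tail _ (.tail _ (.tail _ (.tail _ (.tail _ (.tail _ (.head _)))))))))))))))))))))))))))))))))))))))))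

theorem i70 : M.In lk t70 :=
  u0 H _ (.tail _ (.tail _ (.tail _ (.tail _ (.tail _ (.tail _ (.tail _ (.tail _ (.tail _ (.tail _ (.tail _ (.tail _ (.tail _ (.tail _ (.tail _ (.tail _ (.tail _ (.tail _ (.tail _ (.tail _ (.tail _ (.tail _ (.tail _ (.tail _ (.tail _ (.tail _ (.tail _ (.tail _ (.tail _ (.tail _ (.tail _ (.tail _ (.tail _ (.tail _ (.tail _ (.tail _ (.tail _ (.tail _ (.tail _ (.tail _ (.tail _ (.head _))))))))))))))))))))))))))))))))))))))))))

theorem i71 : M.In lk t71 :=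
  u0 H _ (.tail _ (.tail _ (.tail _ (.tail _ (.tail _ (.tail _ (.tail _ (.tail _ (.tail _ (.tail _ (.tail _ (.tail _ (.tail _ (.tail _ (.tail _ (.tail _ (.tail _ (.tail _ (.tail _ (.tail _ (.tail _ (.tail _ (.tail _ (.tail _ (.tail _ (.tail _ (.tail _ (.tail _ (.tail _ (.tail _ (.tail _ (.tail _ (.tail _ (.tail _ (.tail _ (.tail _ (.tail _ (.tail _ (.tail _ (.tail _ (.tail _ (.tail _ (.head _)))))))))))))))))))))))))))))))))))))))))))

theorem i72 : M.In lk t72 :=
  u0 H _ (.tail _ (.tail _ (.tail _ (.tail _ (.tail _ (.tail _ (.tail _ (.tail _ (.tail _ (.tail _ (.tail _ (.tail _ (.tail _ (.tail _ (.tail _ (.tail _ (.tail _ (.tail _ (.tail _ (.tail _ (.tail _ (.tail _ (.tail _ (.tail _ (.tail _ (.tail _ (.tail _ (.tail _ (.tail _ (.tail _ (.tail _ (.tail _ (.tail _ (.tail _ (.tail _ (.tail _ (.tail _ (.tail _ (.tail _ (.tail _ (.tail _ (.tail _ (.tail _ (.head _))))))))))))))))))))))))))))))))))))))))))))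

theorem i73 : M.In lk t73 :=
  u0 H _ (.tail _ (.tail _ (.tail _ (.tail _ (.tail _ (.tail _ (.tail _ (.tail _ (.tail _ (.tail _ (.tail _ (.tail _ (.tail _ (.tail _ (.tail _ (.tail _ (.tail _ (.tail _ (.tail _ (.tail _ (.tail _ (.tail _ (.tail _ (.tail _ (.tail _ (.tail _ (.tail _ (.tail _ (.tail _ (.tail _ (.tail _ (.tail _ (.tail _ (.tail _ (.tail _ (.tail _ (.tail _ (.tail _ (.tail _ (.tail _ (.tail _ (.tail _ (.tail _ (.tail _ (.head _)))))))))))))))))))))))))))))))))))))))))))))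

theorem g2p0 : PcG M lk g2_0_7 128 :=
  pcg_of (hB H) (fa_cons (⟨i29 H, i30 H⟩) (fa_cons (⟨i31 H, i32 H⟩) (fa_cons (⟨i33 H, i34 H⟩) (fa_cons (⟨i35 H, i36 H⟩) (fa_cons (⟨i37 H, i38 H⟩) (fa_cons (⟨i39 H, i40 H⟩) (fa_cons (⟨i41 H, i42 H⟩) fa_nil))))))) c4 c5 (E := g2E) rfl c6

theorem g3p0 : PcG M lk g3_0_6 729 :=
  pcg_of (hB H) (fa_cons (⟨i43 H, i44 H⟩) (fa_cons (⟨i45 H, i46 H⟩) (fa_cons (⟨i47 H, i48 H⟩) (fa_cons (⟨i49 H, i50 H⟩) (fa_cons (⟨i51 H, i52 H⟩) (fa_cons (⟨i53 H, i54 H⟩) fa_nil)))))) c7 c8 (E := g3E) rfl c9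

theorem g5p3 : PcG M lk g5_3_6 125 :=
  pcg_of (hB H) (fa_cons (⟨i55 H, i56 H⟩) (fa_cons (⟨i57 H, i58 H⟩) (fa_cons (⟨i59 H, i60 H⟩) fa_nil))) c10 c11 (E := g5E) rfl c12

theorem g7p0 : PcG M lk g7_0_3 42 :=
  pcg_of (hB H) (fa_cons (⟨i61 H, i62 H⟩) (fa_cons (⟨i63 H, i64 H⟩) (fa_cons (⟨i65 H, i66 H⟩) fa_nil))) c13 c14 (E := g7E) rfl c15

theorem dn0 : Dn (M.el lk t67) 3 42 :=
  (g7p0 H).dnS (tab M) (nsC_ok (hB H) _) (i67 H) (Upto.zero) c18

theorem ok0 : Rc.Ok ⟨2, 3, 42, 40320⟩ (M.el lk t67) :=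
  rc_ok (hB H) (i67 H) (by norm_num) c16 (dn0 H) (by norm_num) (norm_ge (hB H) (hE H) (i67 H) c17)

theorem dn1 : Dn (M.el lk t68) 2 125 :=
  (g5p3 H).dnS (tab M) (nsC_ok (hB H) _) (i68 H) (Upto.zero) c21

theorem ok1 : Rc.Ok ⟨3, 2, 125, 1944⟩ (M.el lk t68) :=
  rc_ok (hB H) (i68 H) (by norm_num) c19 (dn1 H) (by norm_num) (norm_ge (hB H) (hE H) (i68 H) c20)

theorem dn2 : Dn (M.el lk t69) 2 42 :=
  (g7p0 H).dnS (tab M) (nsC_ok (hB H) _) (i69 H) (Upto.zero) c24

theorem ok2 : Rc.Ok ⟨3, 2, 42, 58320⟩ (M.el lk t69) :=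
  rc_ok (hB H) (i69 H) (by norm_num) c22 (dn2 H) (by norm_num) (norm_ge (hB H) (hE H) (i69 H) c23)

theorem g3p1 : PcG M lk g3_1_6 243 :=
  (g3p0 H).right (A := g3_0_1) rfl (by decide +kernel)

theorem dn3 : Dn (M.el lk t70) 1 243 :=
  (g3p1 H).dnP (A := g3_1_3) (R := g3_3_6) rfl (tab M) (nsC_ok (hB H) _) (i70 H) (Upto.zero) c27

theorem ok3 : Rc.Ok ⟨5, 1, 243, 100⟩ (M.el lk t70) :=
  rc_ok (hB H) (i70 H) (by norm_num) c25 (dn3 H) (by norm_num) (norm_ge (hB H) (hE H) (i70 H) c26)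

theorem g2p1 : PcG M lk g2_1_7 64 :=
  (g2p0 H).right (A := g2_0_1) rfl (by decide +kernel)

theorem dn4 : Dn (M.el lk t71) 1 64 :=
  (g2p1 H).dnP (A := g2_1_4) (R := g2_4_7) rfl (tab M) (nsC_ok (hB H) _) (i71 H) (Upto.zero) c30

theorem ok4 : Rc.Ok ⟨5, 1, 64, 3000⟩ (M.el lk t71) :=
  rc_ok (hB H) (i71 H) (by norm_num) c28 (dn4 H) (by norm_num) (norm_ge (hB H) (hE H) (i71 H) c29)

theorem dn5 : Dn (M.el lk t72) 1 243 :=
  (g3p1 H).dnP (A := g3_1_3) (R := g3_3_6) rfl (tab M) (nsC_ok (hB H) _) (i72 H) (Upto.zero) c33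

theorem ok5 : Rc.Ok ⟨7, 1, 243, 42⟩ (M.el lk t72) :=
  rc_ok (hB H) (i72 H) (by norm_num) c31 (dn5 H) (by norm_num) (norm_ge (hB H) (hE H) (i72 H) c32)

theorem dn6 : Dn (M.el lk t73) 1 243 :=
  (g3p1 H).dnP (A := g3_1_3) (R := g3_3_6) rfl (tab M) (nsC_ok (hB H) _) (i73 H) (Upto.zero) c36

theorem ok6 : Rc.Ok ⟨11, 1, 243, 55⟩ (M.el lk t73) :=
  rc_ok (hB H) (i73 H) (by norm_num) c34 (dn6 H) (by norm_num) (norm_ge (hB H) (hE H) (i73 H) c35)

theorem cov2 : Cov M lk 2 r2 :=
  (g2p0 H).cov (hB H) (A := g2_0_0) (R := g2_0_7) (d := 7016625) (a := 1) rfl (by norm_num) (hB0 H).2 (by decide +kernel) (hE H)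
    (AllIn.cons (i67 H) AllIn.nil) c37 (cls := cl2) rfl
    (show ∀ c ∈ [0], _ from (fa_cons (⟨_, c38⟩) fa_nil))

theorem cov3 : Cov M lk 3 r3 :=
  (g3p0 H).cov (hB H) (A := g3_0_0) (R := g3_0_6) (d := 1232000) (a := 1) rfl (by norm_num) (hB0 H).2 (by decide +kernel) (hE H)
    (AllIn.cons (i68 H) (AllIn.cons (i69 H) AllIn.nil)) c39 (cls := cl3) rfl
    (show ∀ c ∈ [0], _ from (fa_cons (⟨_, c40⟩) fa_nil))

theorem cov5 : Cov M lk 5 r5 :=
  (g5p3 H).cov (hB H) (A := g5_3_3) (R := g5_3_6) (d := 7185024) (a := 1) rfl (by norm_num) (hB0 H).2 (by decide +kernel) (hE H)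
    (AllIn.cons (i70 H) (AllIn.cons (i71 H) AllIn.nil)) c41 (cls := cl5) rfl
    (show ∀ c ∈ [0], _ from (fa_cons (⟨_, c42⟩) fa_nil))

theorem cov7 : Cov M lk 7 r7 :=
  cov_of_prime (d := 128304000) (by norm_num) (ok5 H).ord ((hB0 H).2.trans (by norm_num)) (by norm_num)

theorem cov11 : Cov M lk 11 r11 :=
  cov_of_prime (d := 81648000) (by norm_num) (ok6 H).ord ((hB0 H).2.trans (by norm_num)) (by norm_num)

theorem sheet : Sheet G 898128000 [⟨2, 3, 42, 40320⟩, ⟨3, 2, 125, 1944⟩, ⟨3, 2, 42, 58320⟩, ⟨5, 1, 243, 100⟩, ⟨5, 1, 64, 3000⟩, ⟨7, 1, 243, 42⟩, ⟨11, 1, 243, 55⟩] :=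
  sheet_of (hB0 H).2 (F := [(2, 7), (3, 6), (5, 3), (7, 1), (11, 1)]) (by norm_num) (reps := [t67, t68, t69, t70, t71, t72, t73])
    (.cons (ok0 H) (.cons (ok1 H) (.cons (ok2 H) (.cons (ok3 H) (.cons (ok4 H) (.cons (ok5 H) (.cons (ok6 H) .nil)))))))
    (fa_cons (pcov (by norm_num) (cov2 H) (fa_cons ((.head _)) fa_nil)) (fa_cons (pcov (by norm_num) (cov3 H) (fa_cons ((.tail _ (.head _))) (fa_cons ((.tail _ (.tail _ (.head _)))) fa_nil))) (fa_cons (pcov (by norm_num) (cov5 H) (fa_cons ((.tail _ (.tail _ (.tail _ (.head _))))) (fa_cons ((.tail _ (.tail _ (.tail _ (.tail _ (.head _)))))) fa_nil))) (fa_cons (pcov (by norm_num) (cov7 H) (fa_cons ((.tail _ (.tail _ (.tail _ (.tail _ (.tail _ (.head _))))))) fa_nil)) (fa_cons (pcov (by norm_num) (cov11 H) (fa_cons ((.tail _ (.tail _ (.tail _ (.tail _ (.tail _ (.tail _ (.head _)))))))) fa_nil)) fa_nil)))))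

theorem big : ∀ c : G, (orderOf c).Prime → orderOf c ∣ 125 → Dn c 1 49 :=
  big_of (F := [(5, 3)]) (by norm_num)
    (fa_cons (pcov (by norm_num) (cov5 H) (fa_cons ((ok3 H).big (by norm_num) (by norm_num)) (fa_cons ((ok4 H).big (by norm_num) (by norm_num)) fa_nil))) fa_nil)

theorem row [IsSimpleGroup G] (hK : ¬ IsMulCommutative G) (ho : Nat.card (Out G) ≤ 2) : Row G :=
  (sheet H).row_two hK ho (by norm_num) (hB0 H).2 (a := 7185024) (by norm_num) (by norm_num) (big H)
    (by simp only [List.map, List.sum_cons, List.sum_nil, Rc.term]; norm_num)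

end Cfsg.Agent.SB.SporF.McL
end

-- part: SB/SporF/RowMcL
section
/-!
# S5765, the row of `McL` (helper61)

The action on 275 points; `row_McL`.
-/

set_option autoImplicit false
set_option maxRecDepth 100000

namespace Cfsg.Agent.SB.SporF

open Cfsg Cfsg.Agent.SB.Spor

/-- a permutation representation as a model -/
def permPM {G : Type*} [Group G] {n : ℕ} (φ : G →* Equiv.Perm (Fin n)) : PM G n where
  act g i := if h : i < n then φ g ⟨i, h⟩ else 0
  lt g i hi := by
    rw [dif_pos hi]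
    exact Fin.is_lt _
  one i hi := by
    rw [dif_pos hi, map_one]
    rfl
  mul g h i hi := by
    rw [dif_pos hi, dif_pos hi, dif_pos (Fin.is_lt _), map_mul, Equiv.Perm.mul_apply]

namespace McL

open Cfsg.Agent.McLType.X275 Cfsg.Agent.McLType.Gens

theorem ck : allN 7 (fun k => allN 275 fun i => Nat.beq
    (SporadicStructure.PermChain.look 9 (tabs.getD k 0) i) (lk (E0.getD k 0) i)) = true := by decide +kernel

theorem hyp : Hyp (permPM ψ) := by
  refine ⟨fun t ht => ?_, card_G1.le⟩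
  obtain ⟨k, hk, rfl⟩ := List.mem_iff_getElem.1 ht
  have hk7 : k < 7 := hk
  obtain ⟨g, hg⟩ := exists_gen ⟨k, hk7⟩
  refine ⟨g, fun i hi => ?_⟩
  show (if h : i < 275 then _ else _) = _
  rw [dif_pos hi, hg, σ_spec, ← List.getD_eq_getElem _ 0 hk]
  exact Nat.eq_of_beq_eq_true (of_allN (of_allN ck k hk7) i hi)

end McL

/-- **The row of `McL`.** -/
theorem row_McL (K : Type*) [Group K] (h : Spor.IsoMcL K) : Row K := by
  obtain ⟨e⟩ := h
  obtain ⟨f⟩ := McLType.X275.isoMcL_G1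
  have : Finite McLType.X275.G1 := Nat.finite_of_card_ne_zero (by rw [McLType.X275.card_G1]; norm_num)
  have := McLType.X275.isMcL_G1.1
  refine Row.of_equiv (e.trans f.symm) (McL.row McL.hyp (not_comm_of_card ?_) ?_)
  · rw [McLType.X275.card_G1]
    norm_num
  · exact ((card_out_congr f).trans S2073.result).le

end Cfsg.Agent.SB.SporF
end
end

-- part: SB/SporF/RowHS
section
prune_inst 0x10000000000000
set_option linter.all false
open scoped Cfsg.Agent.FastGrp

-- part: SB/SporF/HS/Data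
section
/-! S5765, row of HS: data (generated by notes/SB/spor_tools, helper63) -/

set_option autoImplicit false

namespace Cfsg.Agent.SB.SporF.HS

open Cfsg.Agent.SB Cfsg.Agent.SB.Spor

noncomputable def lk (t i : ℕ) : ℕ := Nat.land (Nat.shiftRight t (Nat.mul (nat_lit 7) i)) (nat_lit 127)

noncomputable def mk : (ℕ → ℕ) → ℕ := pmk (nat_lit 7) (nat_lit 127) (nat_lit 100) (nat_lit 7)

noncomputable def ver : (ℕ → ℕ) → ℕ → (ℕ → ℕ) → Bool := pver (nat_lit 7) (nat_lit 127) (nat_lit 100)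

noncomputable def t0 : ℕ :=
  nat_lit 0xbb62bd6ab4b1d4a13a8e2c382fdc817acdb7969dbe8f2653496c99c261117535b31ccf9aa1eb64ee11c88b190c33f05f9d366933a6ea4b966a518935e4961956a8e0d4a9062240788111024c150a1870f06285820e10001

noncomputable def t1 : ℕ :=
  nat_lit 0xb58b0e3b7668d0bf626cc951e1c19cfdf3ca8eef3a6f21a57854deb05eba7ada4b22a951815a56a8e4a27286e1faa78ea46710c17ac59915292c99c249c8901e386b18c32e8b1424d8880d838534e150332101060201026

noncomputable def t2 : ℕ :=
  nat_lit 0x9cfb0e386fecdb793665868ca82e5b45dd5a98941d808abca6692e415ec095abce86bda5813954a8e449271149fbf3d608203d88c2e6eeb5291932a3c0dbc2426038e0b5a38b08584d3226a2cb32080ab6c003383829039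

noncomputable def t3 : ℕ :=
  nat_lit 0x9b324969ef9d9e6189d2c91457dfb07545c6f79695a95c2947f0cd1faaf1cd24e3cbd0ad2c4b4c71d9618381092481eca54ccc8c616a4e5d9429586b68c8191c6d720b48a2c21ae272a62f4053084c44006da20118d4c02

noncomputable def t4 : ℕ :=
  nat_lit 0xc71d1285ec1dd77ab10e2c205e3112d4e298b2120869181b926f975925119267e960d656151d09574c5e2800b191f60fd25b7d3cda97014c3c6858c1a1a5d5c100543a2e27109f69baa6611b42407471ba656dc90e44bba

noncomputable def t5 : ℕ :=
  nat_lit 0x3a3e4862e52f11435de41874e7e11d6d480c10153b0266ea70a242390655618469a11e6519c3a0ebc60b6f2d722347df529b89836156ab457b628df9cb54354b56e4a2640920a80989c566d24ca0fda0d8f8d988b320b44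

noncomputable def t6 : ℕ :=
  nat_lit 0x1620e1ac6986578238f90b33822944a81bb58be04d26fedd5ac81b16b05712137130007d7e398bc9180257258ccb5446a36551a0167197423b0cf61a129e091e465dc5ae29120aea44f6a6438a4adeea87a51c970d153d3

noncomputable def t7 : ℕ :=
  nat_lit 0xbc6260baad6d2f3e8dca869717457785f278609094a37516214eadc400a4ccb2eb1b319526126549243f0c2440f250668c5a54eabc740d530671e0426f5bd42c4290eac963ce0a45060b0e008d661cdb0b2ca3573d7e7c0

noncomputable def t8 : ℕ :=
  nat_lit 0x353e839c329e82b2c19dfb90649308504ad3f6f11e2e610298a8c401ae188b6baf30129954b0506d1aa1550a2483ac6347363d2af334db8d1471c5aa58c5a71d39fc0a80158c2b2d65876f8826ac92f289b0e88774b9922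

noncomputable def t9 : ℕ :=
  nat_lit 0x3c495841a386564c5e5e1af102cf0f7a938728054eb440d80109d7288ac434628970585a904b0ba3dabf54088981704d2f468a0012750abb9a0d9c9a0a615bc4da45568dcb59c73161974f50be3af0e43951cfd1bf71953

noncomputable def t10 : ℕ :=
  nat_lit 0x1ae19a226a6e827adc02158052a6a4128c0b36aa1c613a809ac622c28620594560e6de7329558741da9748b88beae74a86a68242f6d6efb42d3c6103326e2714b4d23c23cf9e0b2e23b8d8cde28e39e3198a2abf24ca0e0

noncomputable def t11 : ℕ :=
  nat_lit 0x8c3db332f36f4226fc9193abe7d1bb8c6cc787c014762a9098a162318f585db069c62a952683796c1a8ea75c362050672c908dd438082aa63656fbd72844164b51f1cb41c22db092e3869855d96440d2e44a14983c048e0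

noncomputable def t12 : ℕ :=
  nat_lit 0xa0cd839923e528b5489035c212a252f4814569131c1a81c5584840828b1161e813cace0a5cc3bbad9ad368c98ccaf7098b74b712f0024f844ea9f8a0f1888c36f0b517c3add9a98e1e09b611e1acdef41911ef9a3218ecb

noncomputable def t13 : ℕ :=
  nat_lit 0x2b4c6e0205a8424e6a019222c60e7225a2b7d287cb3f31b37656ab9d02098d842989a4bf8d9a90945a85310c4548e1a6ac076dda846f2ccf4029d2a9c5e2dd37852e26149fde25562380e7a33d8320a5601724a238b97ad

noncomputable def t14 : ℕ :=
  nat_lit 0x19452600b795c4389644eaec46cf7775b09aaf1d00c21f15a5ede2ae644440e965d69568799988d25a90731eb308619ec1400d481468acbf2884fd24c64150363e6df089ec1694f8ed3c732a1a584ed8b1571c125509440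

noncomputable def t15 : ℕ :=
  nat_lit 0x12a66b8a654a2f563c9878a2d25d0a97004603118d2d564d8b93830250b9622b36e83a6d51a3b5b45adf210e083851d356152cc448d49b803248b9ac3280be373cfb37b3203cc7788e2909d50e6271f88b475ca140cab9e

noncomputable def t16 : ℕ :=
  nat_lit 0x2b4c6e0205a8424e6a019222c60e7225a2b7d287cb3f31b37656ab9d02098d842989a4bf8d9a90945a85310c4548e1a6ac076dda846f2ccf4029d2a9c5e2dd37852e26149fde25562380e7a33d8320a5601724a238b97ad

noncomputable def t17 : ℕ :=
  nat_lit 0x78da039763c55c284a94e5c21125a6e9c5a476e31e08dc81f8a840c78446b1c6068a83c058c49bacdaa9695d8cc64a09c17ab712fb2fea8d1c1c4ca549a25e3740bdfc69d20090f8305c32d5cd588060ba80a8cf330ced8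

noncomputable def t18 : ℕ :=
  nat_lit 0x4f4d1e2c0b692e084e650642d0a49226f9f788250ec671dde5e0e15c3a098949b75d4b70adb512a15aa9721a0ce88a0608241d9c35521e961e78d0d4b663bf362aa106e65330b5622b4458631758faad60004c5b815c8cf

noncomputable def t19 : ℕ :=
  nat_lit 0x357dbd377350c2ab2c93c05053d0693a494327cf4c2e29c968a721868ec85c0c33deaac4368b67e41ae067718ca3abf1ac4560c44b6809d94a5478ca57970936b5f05b41d5d44692bb8ba0c226acc230890a14ba004408e

noncomputable def t20 : ℕ :=
  nat_lit 0x1581fb670b5f2ea9003bcae2e82668ae8cf4318759246a49984562816446b14a52ded8a6959989ca5a90720a0838f72f08c2ab1449834784747ea97132a1a23600b054831b93b5757bb478edc86334e2c4ea2fa0607431e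

noncomputable def t21 : ℕ :=
  nat_lit 0x6042953c536ac2424cb2a86c6d24522648c747c1be40b5c923afc128b95c58d2a11ebc77019b8397da85a31e0ca8abf1888d60c440e5e58fa986c946e388ce362a6604f6d5a5bb41936467a7c8ac6912c4c19a1900b80de

noncomputable def t22 : ℕ :=
  nat_lit 0x95830e2beb425cab309d8af06da1a74a48d4d1805a2f8e8ba3b3a2815e0ab275691ebc69219852aa5abb724458386baf2c7ea9b06813c63e328aa12382a39f3639198963db87b2819102c6a825627848828a1c5d610a24d

noncomputable def t23 : ℕ :=
  nat_lit 0x5ae0f85c4383c7475132a3b05016c0fd9979e26f3a90c248f5f49928aeb98998d01ed820368df44eda98720ab1ab84452c9cf1a06244d3d518728242a021b73729f29436b0ddb296136973665b178d58829129843d14083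

noncomputable def t24 : ℕ :=
  nat_lit 0xc609343893d20774e4e5d3c04a4b112ab349320d92608d703b4f4b0f017e0a7aa39590b94cea8811df0616dd619a378a91c0cebb8c56ea189c3550c0a968596ab54b17f8669715184c2406a93c5e4ec4508d993b447d0cc

noncomputable def t25 : ℕ :=
  nat_lit 0xc69cb2b84bac3b4d1ce095345fa5743579dbc8ca80a94a7ce6c4845fc0420b72ed630c096ed286418dd05414c4b1724d317a84cb88184f5d940c08f055dcd99a3982429156d5153163c88f9120664c8d3b8d0f87918ab43

noncomputable def t26 : ℕ :=
  nat_lit 0x516c2be1d784dc6f0c9c44b50b8d4f4482f5ce511d331e4aa42d0160b4f45617760d92290199c10ae9465315e4a3d3e4186c3e7412cca5a0022d800a60e6382292bddaa7d887b2561355a8c34d198d6627f59d04a09af9a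

noncomputable def t27 : ℕ :=
  nat_lit 0x14220440378c5cc50c9be3218bd63ed69035ca461d4ac24ad94d1958b44543a0f821317e1671cb6ac8467298aa1a13c7896d219e3a60ab9a1d363a42cbe6387a025acaa9c93bb2f0dd1557ea0b4506eb728370843d151a0

noncomputable def t28 : ℕ :=
  nat_lit 0xc785947a3265843f30e30ba82a91c4386609e6e93458faf4d247602f6d5a0db280dca17608013751912b854cf3178b91d7b57d20a4c144d46ab62338b621d91b38c252ede53f71414811720d2a20a0ca70ef445c2a58786

noncomputable def t29 : ℕ :=
  nat_lit 0xc74f1505526b8480ace1e590aaa46536f929e6a45aba56f0ec0d8fa13ace0c5292832f76dde932d0d1cc418585888b914b683088a109cc295ad5e56b6c63599c344992e081bf711ea0b0348dd11ea12850e0135c7ce8839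

noncomputable def t30 : ℕ :=
  nat_lit 0xc67ed801f24c04a676ca44a84bb08a8c0865c0dac6333af2272af0a099120e2286b0420e228384f687365f008a9ad3e689862cf2804ea5b191499bc6551a1c7c56bacaa98dbf26f6c5f18b6510a22ae96771dbdc1a15512

noncomputable def t31 : ℕ :=
  nat_lit 0xc7022bd2124484c2dac9132bcb9eb6885b95d296c34a36f230d329c256f20b2286c9200e9a3b80ad269d427d254673c7188c058286e5abd8a522b44c4a6d1c2afa5ddaa20d3f260188cbed418f542963a774015c9c9e8e0

noncomputable def t32 : ℕ :=
  nat_lit 0x8209d3d9b255dc112eca4b46eab02d464395d0865d68f2f2a0c6134a12371a728bc9030f4e393c49485734dc8a92b3c7cc5948f283f6ceb1022df4e0b50c9c6759b432f850bf7002c2d6b7d00e462a345774200488c9160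

noncomputable def t33 : ℕ :=
  nat_lit 0x82dcb001d2665c4d5ec91686aa9e74aa9065c82facb512f517224403313b185288704a0f8681364647cb36092547d3c82bbb218288115b581604a8d4ea529cacccec62f4d7bf70f58b55a3214d442a1db771cf847989192

noncomputable def t34 : ℕ :=
  nat_lit 0xc6ca992197965c8ad2cb196ceaa9c3215479e3472bae0e4d2a10edbc8c8209f7e54044765833804756daad8ac1e42b9add9946a280a20c91448d7c280c1b1c346d2892ee9f14278120f213675f0228c260ee538494dc5bd

noncomputable def t35 : ℕ :=
  nat_lit 0xc6ca992197965c8ad2cb196ceaa9c3215479e3472bae0e4d2a10edbc8c8209f7e54044765833804756daad8ac1e42b9add9946a280a20c91448d7c280c1b1c346d2892ee9f14278120f213675f0228c260ee538494dc5bd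

noncomputable def t36 : ℕ :=
  nat_lit 0xc6213b117784dc6e76c924b58b860ad48305d391c3320e4ad3cac13c990a09628548c4767d4b8b6d2936669b050433e4188c3dc8ac2cab809a397a0751ed1c366a5acab01f3f2761ed15488681bea2ee20f529849514624

noncomputable def t37 : ℕ :=
  nat_lit 0xc6213b117784dc6e76c924b58b860ad48305d391c3320e4ad3cac13c990a09628548c4767d4b8b6d2936669b050433e4188c3dc8ac2cab809a397a0751ed1c366a5acab01f3f2761ed15488681bea2ee20f529849514624

noncomputable def t38 : ℕ :=
  nat_lit 0x26c8412b578597757c5299b582314d184d09f12ba31c824c38f48b4e900dc407ef9e8d776c3416e3cc8c678aa2442b92814462c1c0b4d6b098ad7ca3e44828346daaab914a94c780f1d6d2de34bb668e10ee53d58409600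

noncomputable def t39 : ℕ :=
  nat_lit 0x26c8412b578597757c5299b582314d184d09f12ba31c824c38f48b4e900dc407ef9e8d776c3416e3cc8c678aa2442b92814462c1c0b4d6b098ad7ca3e44828346daaab914a94c780f1d6d2de34bb668e10ee53d58409600

noncomputable def t40 : ℕ :=
  nat_lit 0x269e9861378855b745431915ae29c32ed009ef21ada50a4d77a3a28d9b29c027efa3ce76e89413e055aa6616c3042ba60f6ad2a59c4211a44a657836e7858a346d10c0858a94c6e48dd591a2183a72fa60f819174101b50

noncomputable def t41 : ℕ :=
  nat_lit 0x269e9861378855b745431915ae29c32ed009ef21ada50a4d77a3a28d9b29c027efa3ce76e89413e055aa6616c3042ba60f6ad2a59c4211a44a657836e7858a346d10c0858a94c6e48dd591a2183a72fa60f819174101b50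

noncomputable def t42 : ℕ :=
  nat_lit 0xb9517315ac2eda198c9d897228ce86802898b88b8d2541f3942cd1597e7ce8ba6f03c9096eb4764ed4bd4e6d2afbc04d031500a268c1b041993dc0f10b121c6f7cc982d34ab5895c890a4ad1ba543a54268a2ab63c0b080

noncomputable def t43 : ℕ :=
  nat_lit 0xb5380a534beee3757225824e42e27e3eaca4550b23ae25e56709e793a62122a8725a3e6c324213610a078cdf05e6186f9e1c2da8666a189d1b163d2840e09c64b4c989a5caa9b32c890402a65b80ae81f7a9a8bb5809700

noncomputable def t44 : ℕ :=
  nat_lit 0x9f6d2139a0cc45148a599622c78c72129096ee9ea34b41f2a5e9d957ac0445390f2fc9aaae030c615a9a8d7221e5904bc79cfd4a8669ac9f1a6ef36c2e215db458a9c0ed2c142580890775260e878a52e5a190514208e80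

noncomputable def t45 : ℕ :=
  nat_lit 0x6e28f927a84e32c46d295890dd8e814424ac6aef8db225e3f58cee31167573955266be1f3a99e9e81a964f16bb88e203af75214a88c9a5e1996818548c009844d2c5d5a68c94c04c890aa311d4ad6e8412e19b52bc0a100

noncomputable def t46 : ℕ :=
  nat_lit 0x231625f307571ec75a49502f1acf1748a4a9858fc2103d8d93602d2b4832e4b204d362aac8d0d58d82c352191b0badd52f8efa857b1812cd90b4546688493ac379dbd38a28a744e5fdb66e29d41d04207065cca0800a709

noncomputable def t47 : ℕ :=
  nat_lit 0xb6f0da6c0697c121164275169d8c1b48aa9a80524f8142ca35683161693050322a8c56327090e5cdaa9f1eea4b0597513788b599628f52c3624cf049b72f178ee42df0d3ac517c771bf942dc42a68404b10c9a890e0abc6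

noncomputable def t48 : ℕ :=
  nat_lit 0x492a3555b8eeaf689c2b35c72f8c912cadaa2818063b41f266f727c40516739862dc561d61fb5080ddd228eac872c8499baf24ba8c460436a6644ac4a7adcc82458a31f86132c040fcda8f55291b1d59a24f1101bd00500

noncomputable def t49 : ℕ :=
  nat_lit 0xbc9cb13aa0eec63b418ba56f300f46d27ca8b0481ca58955315861447e54d8273247066aca03d8e91c5bb050ccdb95efa01234628b520fe3301574e227a5d6582112652be8b35a1cd122eec5d47c050a56132cb76d0c200

noncomputable def t50 : ℕ :=
  nat_lit 0x8070b351c0944610f2fd14251da71a44b865282f3a3f32caa8f846003b527349614c33913e9236efe99a2b16ae3b825e9b5cc6544ad24839164d5ac25752b282c303ea0bc7c270d8383b498ce2442abcd4961684876c09e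

noncomputable def t51 : ℕ :=
  nat_lit 0x6032319b334f2f043e486129d8c26ae6c17750444a7ea533b8f719280650de36c616daab312136e4b040787151a2cac2a043227dda838e87702ebce96021e258d06bda3859d6447e9252b7e9c5462975b2341f0421780c4

noncomputable def t52 : ℕ :=
  nat_lit 0x760d2ad5ed9330667a7549a09d424760b505784ec3ab8eb489615644166afc980f871c7a5555a12e13929f70b996e8ab9140f1939c460835ba10fdba37b0288d494d336063ae28303d98b2830a1a220b41f3189348fd080

noncomputable def t53 : ℕ :=
  nat_lit 0x949e71d82791b240e08525b265d83068fd06766b868e3a0482a6c7c499504bf04f9daac7554365f79208b6a42dcbe530459ee4c9c6b77083a6b80ab436a6bc2f098266345d1308d16250ef45928631b8a2236322c558b00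

noncomputable def t54 : ℕ :=
  nat_lit 0x657cb5ac01618e103e8af28f1212991d0b06e0588d5b42b2ab60d9ce7cd4528908ccbf7a2414159088c53ca46638caec549b02e1c414ecde16e0f9ac32d3b9a48a5260f10bd5695dd2508ec33630557623b7679b2724800

noncomputable def t55 : ℕ :=
  nat_lit 0x6020fdfc4903298f812ad2524a2c4c6ecca0b115d33c6413fa4bda16bad9c2a790ddd61c44e229e321138b8e6d0b0265b75d219403a608557c6a8a742cc3a80881e8b2b845570751a81b5726314705d5b2e36f0f8ce6700

noncomputable def t56 : ℕ :=
  nat_lit 0xa73e0da9d0181739822c22200a33c70d2bec57d7a40cf4f9940aac81a5630de0f42522089958a04b4c1ea8b8add9ac9b1273181930aea8cc34f064792d07db168e435b8218d550b2b893a3472136e08167f2d3bb52de256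

noncomputable def t57 : ℕ :=
  nat_lit 0xc72b0b8ab1aba333399b4bb5afad5d2d09a9f69dc7a588eac9978c2a867204102c94af9ae88e048d8058b2f8693794ea483711ea814204b7b88a8a03e7a4c25742dc52e101946049c8f203988c169d2a60e082962a19fb5

noncomputable def t58 : ℕ :=
  nat_lit 0x770916014ca81e4f7ecd52e86018974a2434b4655c1c4598b8e1ab4eba0aa586e91ebc60c63052a3cc803e0c8632d21a2c576c2015498613402229b9331c28475c9413451faf7cd66ba1b4db4f5d684e152e4e87bd88e2d

noncomputable def t59 : ℕ :=
  nat_lit 0x4d329bf0f4194da84425640d2702329e8c5c186e8b8729528c471090b66afb3a4fae44470a4da1e2433b5af528e002925e26c46059e35c95b1216293edc1ba5d1aaa2af060477849b2b5e6ce9728c1c350364c08c72cb1e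

noncomputable def t60 : ℕ :=
  nat_lit 0x6d229530404a18432708576fa78dae009c580d41c3589e595ab41330b8185a05612b4c623cd59bd88b10747702f192890e0f11ec6b0a1cd14a7ce476e8d99b127a0bc5b371d422d0417656852a8576da4be657299cfd138

noncomputable def t61 : ℕ :=
  nat_lit 0x150db5e544971c89743c63d411287b81dbe28b0fa7803a0e32a215d19e8d0007114dc74d5c2cb20c0e8f16f26592e6ad53ad62129b96c4cda926955680dbb19cb46329010c064a85a914809d0126bd9dfc388cca1a59cbf

noncomputable def t62 : ℕ :=
  nat_lit 0xaa88fa5c4706dc160ef11138ebb16a3f09748762cfbe6c2ad0d123c152adcc014651b42aab0484336ca69741dbcba1d3d4674ec30a46843f9508137213a1ba5e3103eb4e0032a2d8f492c51ea8996d746ac109921c61601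

noncomputable def t63 : ℕ :=
  nat_lit 0x4186c97a81542b8d3f037a60839bacd9c0918925b22ad1711bd4980e86b4e0b635e6062d280a166e6c629c28f1430fde834f16e8881109d18201149aaa8d1d32ed4c7b4989631ef2fc81a12e3a58fad90a0be6a34b08fb5

noncomputable def B : List ℕ :=
  [nat_lit 53, nat_lit 27, nat_lit 61, nat_lit 79, nat_lit 21]

noncomputable def E0 : List ℕ :=
  [t0, t1, t2]

noncomputable def E : List ℕ :=
  [t3, t4, t5, t6, t7, t8, t9, t10, t11, t12, t13, t14, t15, t16, t17, t18, t19, t20, t21, t22, t23]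

noncomputable def sl0 : List ℕ :=
  [t3, t4, t5, t6, t7, t8, t9, t10, t11, t12, t13, t14, t15, t16, t17, t18, t19, t20, t21, t22, t23]

noncomputable def ul0 : List ℕ :=
  [t24, t25, t26, t27, t28, t29, t30, t31, t32, t33, t34, t35, t36, t37, t38, t39, t40, t41, t42, t43, t44, t45, t46, t47, t48, t49, t50, t51, t52, t53, t54, t55, t56, t57, t58, t59, t60, t61, t62, t63]

noncomputable def g2_0_9 : List (ℕ × ℕ × ℕ) :=
  [(nat_lit 2, t24, t25), (nat_lit 2, t26, t27), (nat_lit 2, t28, t29), (nat_lit 2, t30, t31), (nat_lit 2, t32, t33), (nat_lit 2, t34, t35), (nat_lit 2, t36, t37), (nat_lit 2, t38, t39), (nat_lit 2, t40, t41)]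

noncomputable def g2E : List ℕ :=
  [t24, t26, t28, t30, t32, t34, t36, t38, t40]

noncomputable def g3_1_3 : List (ℕ × ℕ × ℕ) :=
  [(nat_lit 3, t42, t43), (nat_lit 3, t44, t45)]

noncomputable def g3E : List ℕ :=
  [t42, t44]

noncomputable def g5_3_6 : List (ℕ × ℕ × ℕ) :=
  [(nat_lit 5, t46, t47), (nat_lit 5, t48, t49), (nat_lit 5, t50, t51)]

noncomputable def g5E : List ℕ :=
  [t46, t48, t50]

noncomputable def g11_0_2 : List (ℕ × ℕ × ℕ) :=
  [(nat_lit 5, t52, t53), (nat_lit 11, t54, t55)]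

noncomputable def g11E : List ℕ :=
  [t52, t54]

noncomputable def wp0 : List (List ℕ × List ℕ) :=
  Fx82.wl (nat_lit 29) (nat_lit 0x194d30000000a0001a299000000110000b2ca0000000b000004d30000001100019453000000010001345a0000000b0000028a00000003000002d3000000020000b28a0000000b0001a2d100000002000000d300000011000002ca00000013000034590000001a00013299000000030000068a0000000b00000659000000020001a28a000000190000028a0000000b000002cb000000130000001a0000000b0000168a0000001900000059000000130000000b0000000a0000069a000000190000009a0000001900000011000000030000001a00000001000000190000001a0000001900000002)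

noncomputable def g5_4_6 : List (ℕ × ℕ × ℕ) :=
  [(nat_lit 5, t48, t49), (nat_lit 5, t50, t51)]

noncomputable def g5_3_4 : List (ℕ × ℕ × ℕ) :=
  [(nat_lit 5, t46, t47)]

noncomputable def wp1 : List (List ℕ × List ℕ) :=
  Fx82.wl (nat_lit 90) (nat_lit 0x19699000000020000b45a0000001a0001a2ca000000010000b2990000001a000132d1000000130000011900000022000114d100000013000000290000000300000a69000000020001945300000002000000cb0000000a0001a2cb000000020000069a000000010000b451000000030000145100000013000002cb000000040000030c00000022000004510000000400000b2c000000010000085900000002000016590000001a0000002b000000290001a68a000000010000269a0000000b0001a28b000000010000002900000002000000530000000200000aaa00000001000132ca00000003000016990000001a0000045100000019000008cc000000010000045100000003000000a200000021000000140000000b0000000c0000001a00000023000000110000b4d10000000200000653000000010000265100000003000005110000000c00004659000000040000b4d1000000030000002c000000010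0000063000000040000010a0000000100000111000000020000002b000000010000001c000000210000001900000011000008cb0000000c00000051000000130000031100000003000008e3000000010000001300000019000000ca00000003000132ca00000001000000d1000000020000010b000000010000005a00000003000006990000000a000008a2000000010000086100000003000006590000001a00000851000000140000069a00000019000008590000001c000002ca000000130000002100000003000000190000000200000861000000020000068a0000000b000034510000000300000061000000230000001a00000019000000ca0000000100000061000000220000009a000000190000065100000013000004d10000000b0000000c000000020000002200000021000000590000001a00000023000000210000065900000002000004d3000000010000000b0000000200000022000000010000001c000000010000001300000001)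

noncomputable def wp2 : List (List ℕ × List ℕ) :=
  Fx82.wl (nat_lit 8) (nat_lit 0x489451000000010009128a0000001100091452000000090000128a000000020000048a0000001100000451000000020000001100000001000000090000008a)

noncomputable def g11_0_1 : List (ℕ × ℕ × ℕ) :=
  [(nat_lit 5, t52, t53)]

noncomputable def g11_1_2 : List (ℕ × ℕ × ℕ) :=
  [(nat_lit 11, t54, t55)]

noncomputable def wp3 : List (List ℕ × List ℕ) :=
  Fx82.wl (nat_lit 8) (nat_lit 0x1244a000000490000128a0000000100002451000000120000025100000002000000090000000a0000004a00000002000000120000000a0000001100000002)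

noncomputable def g2_3_9 : List (ℕ × ℕ × ℕ) :=
  [(nat_lit 2, t30, t31), (nat_lit 2, t32, t33), (nat_lit 2, t34, t35), (nat_lit 2, t36, t37), (nat_lit 2, t38, t39), (nat_lit 2, t40, t41)]

noncomputable def g2_3_6 : List (ℕ × ℕ × ℕ) :=
  [(nat_lit 2, t30, t31), (nat_lit 2, t32, t33), (nat_lit 2, t34, t35)]

noncomputable def g2_6_9 : List (ℕ × ℕ × ℕ) :=
  [(nat_lit 2, t36, t37), (nat_lit 2, t38, t39), (nat_lit 2, t40, t41)]

noncomputable def g2_0_3 : List (ℕ × ℕ × ℕ) :=
  [(nat_lit 2, t24, t25), (nat_lit 2, t26, t27), (nat_lit 2, t28, t29)]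

noncomputable def wp4 : List (List ℕ × List ℕ) :=
  Fx82.wl (nat_lit 10) (nat_lit 0x449000000910000048a0000004a0000948a0000000a0048a48a000000020000025200000002000012510000000200000009000000110000004a0000001200000091000000020000009100000001)

noncomputable def wp5 : List (List ℕ × List ℕ) :=
  Fx82.wl (nat_lit 7) (nat_lit 0x1145100000002000122890000001200000291000000020000025100000001000000910000000100000012000000110000004a00000001)

noncomputable def wp6 : List (List ℕ × List ℕ) :=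
  Fx82.wl (nat_lit 16) (nat_lit 0x12920000000100012291000000010000248a0000000100000491000000020000024a0000000100011251000000090000000a000000020000001200000091000000090000000a0000004a000000020000001200000011000000910000000100000091000000020000004a000000010000008a000000010000000200000051)

noncomputable def wp7 : List (List ℕ × List ℕ) :=
  Fx82.wl (nat_lit 15) (nat_lit 0x12491000000090000924a0000000200012291000000020000028a00000012000002510000001200000252000000020000048a000000090000025100000002000000090000001100000012000000110000000100000011000000090000004a000000120000009100000489000000010000009100000002)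

noncomputable def r2 : List ℕ :=
  [t56, t57]

noncomputable def fz2 : List (ℕ × ℕ × ℕ × ℕ) :=
  [(nat_lit 6, nat_lit 0, nat_lit 1, nat_lit 0x1090f06120a1315), (nat_lit 14, nat_lit 1, nat_lit 1, nat_lit 0x10050c060f0b1111121515), (nat_lit 64, nat_lit 1, nat_lit 1, nat_lit 0x105011309060c0a0a1111121515), (nat_lit 81, nat_lit 0, nat_lit 1, nat_lit 0x1050807110a0a12121515), (nat_lit 24, nat_lit 1, nat_lit 1, nat_lit 0x904011306060c0a0a111115), (nat_lit 158, nat_lit 0, nat_lit 1, nat_lit 0x30c070d0b141315), (nat_lit 92, nat_lit 1, nat_lit 1, nat_lit 0x2040f070b0a0a151215), (nat_lit 408, nat_lit 1, nat_lit 1, nat_lit 0x5030914060b0a1211), (nat_lit 32, nat_lit 1, nat_lit 1, nat_lit 0x8020d06110c0a1312)]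

noncomputable def cl2 : List ℕ :=
  [nat_lit 6, nat_lit 14, nat_lit 64, nat_lit 81, nat_lit 24, nat_lit 158, nat_lit 92, nat_lit 408, nat_lit 32]

noncomputable def g2_0_0 : List (ℕ × ℕ × ℕ) :=
  []

noncomputable def r3 : List ℕ :=
  [t58]

noncomputable def fz3 : List (ℕ × ℕ × ℕ × ℕ) :=
  [(nat_lit 1, nat_lit 0, nat_lit 1, nat_lit 0xf0308060c0d1113121515), (nat_lit 2, nat_lit 0, nat_lit 1, nat_lit 0x30601070607120c0b1412), (nat_lit 3, nat_lit 0, nat_lit 1, nat_lit 0xb030807100d111512), (nat_lit 4, nat_lit 0, nat_lit 1, nat_lit 0x30401090c061512), (nat_lit 5, nat_lit 0, nat_lit 1, nat_lit 0xd05010608070c101415), (nat_lit 6, nat_lit 0, nat_lit 1, nat_lit 0x5010f07140d1112111515), (nat_lit 7, nat_lit 0, nat_lit 1, nat_lit 0x30601080806110a0a13121515), (nat_lit 8, nat_lit 0, nat_lit 1, nat_lit 0x2041007060b131115)]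

noncomputable def cl3 : List ℕ :=
  [nat_lit 1, nat_lit 2, nat_lit 3, nat_lit 4, nat_lit 5, nat_lit 6, nat_lit 7, nat_lit 8]

noncomputable def g3_1_1 : List (ℕ × ℕ × ℕ) :=
  []

noncomputable def r5 : List ℕ :=
  [t59, t60, t61]

noncomputable def fz5 : List (ℕ × ℕ × ℕ × ℕ) :=
  [(nat_lit 1, nat_lit 0, nat_lit 1, nat_lit 0x60109090f0b0a1112), (nat_lit 2, nat_lit 0, nat_lit 1, nat_lit 0xb051309060c0d131211), (nat_lit 3, nat_lit 0, nat_lit 1, nat_lit 0x2011009070d0a1111121515), (nat_lit 4, nat_lit 0, nat_lit 1, nat_lit 0xd02010c07100d121111), (nat_lit 5, nat_lit 0, nat_lit 1, nat_lit 0x301080b06110a15141515), (nat_lit 6, nat_lit 0, nat_lit 1, nat_lit 0x8020f060d0c0a1413), (nat_lit 7, nat_lit 0, nat_lit 1, nat_lit 0x90c060f0b0a13141515), (nat_lit 8, nat_lit 1, nat_lit 1, nat_lit 0x3050a0912101311), (nat_lit 9, nat_lit 1, nat_lit 1, nat_lit 0x50f07140f0a14121515), (nat_lit 10, nat_lit 0, nat_lit 1, nat_lit 0xc021009060c0c0a1113121515), (nat_lit 11,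 nat_lit 1, nat_lit 1, nat_lit 0x14030d0f060c0b1215), (nat_lit 12, nat_lit 0, nat_lit 1, nat_lit 0x5031007060c0c0a111211), (nat_lit 13, nat_lit 1, nat_lit 1, nat_lit 0x407010909140f0a131515), (nat_lit 14, nat_lit 0, nat_lit 1, nat_lit 0x7020c070a1514), (nat_lit 15, nat_lit 0, nat_lit 1, nat_lit 0x304011107110c0a13121115), (nat_lit 16, nat_lit 0, nat_lit 1, nat_lit 0x30601090f06140d1114), (nat_lit 17, nat_lit 1, nat_lit 1, nat_lit 0x90309091210121211), (nat_lit 18, nat_lit 0, nat_lit 1, nat_lit 0x50308060b0c1311111515), (nat_lit 19, nat_lit 1, nat_lit 1, nat_lit 0x2030113070f101313), (nat_lit 20, nat_lit 0, nat_lit 1, nat_lit 0x30401150b06100c141111), (nat_lit 21, nat_lit 1, nat_lit 1, nat_lit 0xc020906150a131111), (nat_lit 22, nat_lit 1, nat_lit 1, nat_lit 0xd0201090907150b0a11111215), (nat_lit 23, nat_lit 0, nat_lit 1, nat_lit 0x7030707150b0a13121115), (nat_lit 24, nat_lit 0, nat_lit 1, nat_lit 0x9060108060a0b111215), (nat_lit 35, nat_lit 2, nat_lit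 1, nat_lit 0x5010b08140b11111515), (nat_lit 70, nat_lit 2, nat_lit 1, nat_lit 0xb050f07120a12121115), (nat_lit 80, nat_lit 2, nat_lit 1, nat_lit 0xb05090f060b0a111512), (nat_lit 115, nat_lit 2, nat_lit 1, nat_lit 0x5010c0807140f0a1215)]

noncomputable def cl5 : List ℕ :=
  [nat_lit 1, nat_lit 2, nat_lit 3, nat_lit 4, nat_lit 5, nat_lit 6, nat_lit 7, nat_lit 8, nat_lit 9, nat_lit 10, nat_lit 11, nat_lit 12, nat_lit 13, nat_lit 14, nat_lit 15, nat_lit 16, nat_lit 17, nat_lit 18, nat_lit 19, nat_lit 20, nat_lit 21, nat_lit 22, nat_lit 23, nat_lit 24, nat_lit 35, nat_lit 70, nat_lit 80, nat_lit 115]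

noncomputable def g5_3_3 : List (ℕ × ℕ × ℕ) :=
  []

noncomputable def r7 : List ℕ :=
  [t62]

noncomputable def r11 : List ℕ :=
  [t63]

end Cfsg.Agent.SB.SporF.HS
end

-- part: SB/SporF/HS/Chk0
section
/-! S5765, row of HS: kernel checks (generated by notes/SB/spor_tools, helper63) -/

set_option autoImplicit false

namespace Cfsg.Agent.SB.SporF.HS

open Cfsg.Agent.SB Cfsg.Agent.SB.Spor

set_option Elab.async false

noncomputable def d15 : ℕ → ℕ :=
  (rd (nat_lit 7) (nat_lit 127) [nat_lit 0x4e323017a04097180408802040bd4e6460110300aa04517020460c0262501090e0810294801141268c380494102386010228081021301b185ae0c0200f4b814204005463e219322c2b51e182841ad6184428478652189851a4dab460d03040a1428d1a1429e0c1028426142921e102000a3d18d0a9561a72b00190c18585603418e1c2532ba5262c8000c1831c0cd03004c2300a3c286247a20616146be0b451044619104328d0a20af1a8d0a347b3323818e4c0c189060c1a51c941832c0c183066818e7098483060c1d5800d29c060c71a060c1894c0cd0940393008688000, nat_lit 0x4081002e4410e4c08109060c18e060008110040810230088111880102040910444482041c102045088a1408502040811805288910e08102040110122088b204083810409b1114081010408102300888a6c1c1020409d1d040088222281020e081028e45b0a04281020408c0222c888704081023ae014e00040a41804081202009720441112208107040811a22244827208102046012d7328382040812c2a24acb5ebe0af5ebd7af5efcac582be0af5ebd7bf5efdfbf5ebd7af5efdfc5380168254601020424882301c0084e01201367c081531a327360469002040882e04b81,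 nat_lit 0x8aae4ab8aae94556ae0ab56fd59c56ad5ab570400e400cb034c981871c00f9b00151050a2c2c47c8c58f0a102290864305443c5b0868c98b060d28950265030639003060c48a1c0c18e060e80906381806014c861a183051a2c2b44218206088420b004d4002ea018300a56ac80e5600887c7b42e302049f5c21b5128a0a772e915a65400a5c80a983058b3a5a28e003e18b8f08192120884dcf0c91f0f0c1059224783042e25c03120c4a65c81d83120cb03120c709060d303063950e060c18306a930e6c0d40362541964c0091b1e300080220401024008102441111408107, nat_lit 0xa2053812e4ea01204040cac5d49b2e0408110840bd026c801007c32e3a01e2e386a700843da2e38556d03a81d80183149048f06bc0cb8e15152e949a60270a7668c182a1d53a5a28e00366c58f485c2120818da10c4161c2ac8e9d405561830ec3aa74c991c3ab4a0a40a8c0a6258e2d62543805c50a0a647503ba0c8c3b0ea990a72719313a5902a3058e963850eb80f0000f5c0c703120d003340c1830e0c18312e048e060d02a062418306998830e6932000111924430806120c189062503b70981890ea81890698483065902a1c0c703060c1830f155ab8aae2c17e54e2b, nat_lit 0x204a16647592e029409d022940a2c040813a04a1638ddb814a5009d640401f9e347b03c182802004090024138704083820ec403d0e09b07041c4947001a10020c1020e08383060c7030e08001200441002053b4022008802040810290382041c1071474aba761c139041c1110e0810a760888222081020409500101c1020e083b76c040bb0e085020e088870409b810444136040810204a8e9100044014e880a4100000c364c7a3aa60728120c0120d3c31e203461b265d08c0c9065724cea040c8ac173618ba20840f0f183e2060802b461e0408110226011020684189cf9b,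 nat_lit 0x3e182063e18703800c4831c0cd03060c183060c48312541834c24189060c1a65c0cb1a5c38043602c0193c18223261090546d4f8408145c324142b20270b1502580816e5171614740966204e800a8c9d8321491e4615a843e78284262c9060004097024123c183008102046c29958408105c081465d3bd08040a4360c10e041d50e9460115120818174d8891220c11a0740d092c0812a060040810426279a30d801744f04586a396002cc9f0aa5119503871691495cb000c483060c703001058b08494012a2808114b8d1502ddd1602b45010018f05441033c84a42864649805, nat_lit 0xe09902300810204081020e0839104a8887041c102051ce8254600080091e8c024008110066bd9a106bd7aa44014432a01845c40148200cc1804601104004f3ce0e802648f840c30f9224102136611f21846c6b3888acc70251401022409802c568a2ca00ad2ae8a141528514020020f368d9843e18b84b201097463090f1a6c60c1ef09031c544b1400c1831c0cd030150210428cba2085d9b388a423e0d60f0436f904063418a02c70c36407588a64583c02a60a1628d8a377658e9c3a5451c800020d52005b30c3458b26187990c2c20d60105853ec110d443598416a4330, nat_lit 0x848d0930b68f0d0a4cf8634512898f3a7254a95025142970a645189428a12b76ce56b928700000220401025d1813604ba44e06a131a6c0c62e4c60110308240c20081008433e167cc840a858350a10685162c31f3c1821208782351a187b50a100300c1820b0a2c29f2614c8d084c219442d81e6a1459e86142420c1428b44009a13c6458b0aa0a142a752a500d5a060a4c2291a4829924198063218ca308142990c126be0020088024008802300810204081024009010052082004801020488228083822208c02040810204083820e4412a221c1070428100840520c2208a02,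 nat_lit 0x2604081488408102046009e6c3133eb561c72b00100c487a31e106bc783c3120c18217081898002041020040102341c0244e040880409b078ea9b820444001020480410040880205a24029008068cc2b03e142120c840ba282971d2c740810068d3a14b92ad285173f932e9c82b21f952a00001023933706241830604180081498d24d514208782351684680423c305167c90f0a2c2a326109841a3c5a20c343040c105840c0099b4641a12b2f8b8c0cf0204681098668183042f1110d1e34312002c9050ab0d1a4a01a990a142a10a481811c263a6060c18e06681803ea45b0, nat_lit 0x5ab00b958002857c2c3050810913081501c2a292951450d283894b0a62b4525000059e0c65085521999f3c146840a661a20a1400102040a40208102042418018040c620900a4268c0994e0402124886855ab00b9580059e1e64f0b084c59932d0c9e1e4804c026eb171ea4dc620319a702313880290d8126200291e18c85170dba028e40816e003190c1420340704a5500c1831c0cd0300782040a5501c149540a7069d1c4a585472c29c006e800b23aa0e810204e1d2c2809614064cb2b0641582724c990729c1974e0c800002993c2c0278c31d033001388249c0cd373408d, nat_lit 0x48f0552d09840a028863610fbc201998033082846a646850a2c0132ecc20c783cd86506188a300448102014182858c154074a950000008109e39a22dc001200408110040011020802226838004b0d075800081022008c0201a2367106130832b952b005185024a55005caba3828c282c60a503001dd51c99303120c1831c0c00400000813e5c0931831e97024120100f40a3526688c4e6c58f27306cd020029e661028532183057c3c6841634200245cf045804d1600b560172540040c30fa2346970a34e0b1430da70063007164c0c483060c703001090f086c00f0c14585,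 nat_lit 0x18000a1404c026c0212e30d801e84b8d4200ca7109c80100a43061a145c3])

theorem c21 : chkS' lk mk (nsC lk B wp1) g11_0_2 t57 3 0 d15 = true := by
  rewrite [show nsC lk = Fx82.nsF (nat_lit 7) (nat_lit 127) from Fx82.nsF_eq _ _,
    show mk = Fx82.hor (nat_lit 7) (nat_lit 127) (nat_lit 100) from Fx82.pmk_eq _ _ _ _ (by decide) (by decide)]
  decide +kernel

noncomputable def d13 : ℕ → ℕ :=
  (rd (nat_lit 5) (nat_lit 31) [nat_lit 0x882d129c9383074b9412043003821dec50a84f4018a1314b3095a62004110569b04a7991c0689221096189c9379007285900c8c13bc8479006284275c8216708e31ce008446085a909184b588458181498ef59831b3599c1dd700c311855d4e91410c4240c4a00c34694430a47518c6aaa323080b1608234062858d03b8903185002d02139a05098dad727996085090013050a4bc4a1dc7212d484282108c00, nat_lit 0x280470244600c2508023104200a4210840108455da005084610c180])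

theorem c18 : chkS' lk mk (nsC lk B wp0) g5_4_6 t56 1 0 d13 = true := by
  rewrite [show nsC lk = Fx82.nsF (nat_lit 7) (nat_lit 127) from Fx82.nsF_eq _ _,
    show mk = Fx82.hor (nat_lit 7) (nat_lit 127) (nat_lit 100) from Fx82.pmk_eq _ _ _ _ (by decide) (by decide)]
  decide +kernel

noncomputable def d27 : ℕ → ℕ :=
  (rd (nat_lit 4) (nat_lit 15) [nat_lit 0x25485b973221a685d5135b463311219138264aaf747336527614271a386b749447519d8beb72149943961435c961d1c48b3832a252215e6388c12dc57a260])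

theorem c39 : chkP' lk mk (nsC lk B wp7) g5_3_4 g5_4_6 t63 0 d27 = true := by
  rewrite [show nsC lk = Fx82.nsF (nat_lit 7) (nat_lit 127) from Fx82.nsF_eq _ _,
    show mk = Fx82.hor (nat_lit 7) (nat_lit 127) (nat_lit 100) from Fx82.pmk_eq _ _ _ _ (by decide) (by decide)]
  decide +kernel

noncomputable def d25 : ℕ → ℕ :=
  (rd (nat_lit 5) (nat_lit 31) [nat_lit 0xf3982f1bcac48483541456192448c6771c4309461520e71042811d61194ad1b4255044d2110a089892104430c873a42170909585066a064318a248821188a258c22104a5130cb298c47084a19100])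

theorem c36 : chkP' lk mk (nsC lk B wp6) g5_3_4 g5_4_6 t62 0 d25 = true := by
  rewrite [show nsC lk = Fx82.nsF (nat_lit 7) (nat_lit 127) from Fx82.nsF_eq _ _,
    show mk = Fx82.hor (nat_lit 7) (nat_lit 127) (nat_lit 100) from Fx82.pmk_eq _ _ _ _ (by decide) (by decide)]
  decide +kernel

noncomputable def d30 : ℕ → ℕ :=
  (rd (nat_lit 17) (nat_lit 0x1ffff) [nat_lit 0x40814091900c101a00170a0181034c82fa80800090505c101004123c01800342824280332068105c0010140dd40b9902148240003020385044f004080c000b1900808180816140380044c82c140702088a008001864110a016a030082c0007320605059480fa81100010101b502014013205800545002040b0a0a9901800202815040301040c802000b04081e0042816041500036a02d482a1406320800004080a640f14000502800287800020502050280a000fd40a19014081e140000050203cc800280a020a0001548146414d4028503c0000040408070006410120013000d810241026100400070404c1008040e000c00024101c001a08048104c00080c09060983010181c0000])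

theorem c45 : covChk lk B 5 g5_3_3 g5_3_6 g5_3_6 cl5 d30 0 = true := by
  decide +kernel

noncomputable def d3 : List (ℕ × ℕ × ℕ) :=
  [(nat_lit 0, t24, nat_lit 0x7030d08120a1312), (nat_lit 1, t25, nat_lit 0), (nat_lit 0, t26, nat_lit 0xb06030e091412161717), (nat_lit 1, t27, nat_lit 0), (nat_lit 0, t28, nat_lit 0x7080b1410151916), (nat_lit 1, t29, nat_lit 0), (nat_lit 0, t30, nat_lit 0xb08120c0c121818171b1b), (nat_lit 1, t31, nat_lit 0), (nat_lit 0, t32, nat_lit 0x180a150f0e1d12191a19), (nat_lit 1, t33, nat_lit 0), (nat_lit 0, t34, nat_lit 0x150c0b1b121b151d1f1f), (nat_lit 1, t35, nat_lit 0), (nat_lit 0, t36, nat_lit 0x15100d161218171f1f2121), (nat_lit 1, t37, nat_lit 0), (nat_lit 0, t38, nat_lit 0x101219151f1818232023), (nat_lit 1, t39, nat_lit 0), (nat_lit 0, t40, nat_lit 0x2515111d18161b1c232121), (nat_lit 1, t41, nat_lit 0), (nat_lit 0, t42, nat_lit 0x27141e191f1f232527), (nat_lit 1, t43, nat_lit 0), (nat_lit 0, t44, nat_lit 0x28201a201f2928),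 (nat_lit 1, t45, nat_lit 0), (nat_lit 0, t46, nat_lit 0x2718281f1c2129292b2b), (nat_lit 1, t47, nat_lit 0), (nat_lit 0, t48, nat_lit 0x211b19211f27232b29292d), (nat_lit 1, t49, nat_lit 0), (nat_lit 0, t50, nat_lit 0x1b1d2022212727242c2d), (nat_lit 1, t51, nat_lit 0), (nat_lit 0, t52, nat_lit 0x1f212524222e263031), (nat_lit 1, t53, nat_lit 0), (nat_lit 0, t54, nat_lit 0x321f332424302e302f2f), (nat_lit 1, t55, nat_lit 0), (nat_lit 0, t56, nat_lit 0x22282a262c2c2a3534), (nat_lit 0, t57, nat_lit 0x23223127272c2d34343636), (nat_lit 0, t58, nat_lit 0x2426282a29332c2c37363737), (nat_lit 0, t59, nat_lit 0x3324302a29323338353838), (nat_lit 0, t60, nat_lit 0x3529342d2b3831363739), (nat_lit 0, t61, nat_lit 0x372c26372c3a2f363a373a3a), (nat_lit 0, t62, nat_lit 0x2f292f38323938373b), (nat_lit 0, t63, nat_lit 0x342c3b332d38313a3a3c)]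

theorem c3 : slp lk ver d3 E = true := by
  decide +kernel

noncomputable def d17 : ℕ → ℕ :=
  (rd (nat_lit 4) (nat_lit 15) [nat_lit 0x1124645332412331548161735143752214183153233221272664450])

theorem c24 : chkP' lk mk (nsC lk B wp2) g11_0_1 g11_1_2 t58 0 d17 = true := by
  rewrite [show nsC lk = Fx82.nsF (nat_lit 7) (nat_lit 127) from Fx82.nsF_eq _ _,
    show mk = Fx82.hor (nat_lit 7) (nat_lit 127) (nat_lit 100) from Fx82.pmk_eq _ _ _ _ (by decide) (by decide)]
  decide +kernel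

noncomputable def d19 : ℕ → ℕ :=
  (rd (nat_lit 4) (nat_lit 15) [nat_lit 0x5321185211311352124543618113567422244714424113525236413124211330])

theorem c27 : chkP' lk mk (nsC lk B wp3) g2_3_6 g2_6_9 t59 0 d19 = true := by
  rewrite [show nsC lk = Fx82.nsF (nat_lit 7) (nat_lit 127) from Fx82.nsF_eq _ _,
    show mk = Fx82.hor (nat_lit 7) (nat_lit 127) (nat_lit 100) from Fx82.pmk_eq _ _ _ _ (by decide) (by decide)]
  decide +kernel

noncomputable def d21 : ℕ → ℕ :=
  (rd (nat_lit 4) (nat_lit 15) [nat_lit 0x53432312412146241a1315314391562454312114212311263278870])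

theorem c30 : chkP' lk mk (nsC lk B wp4) g11_0_1 g11_1_2 t60 0 d21 = true := by
  rewrite [show nsC lk = Fx82.nsF (nat_lit 7) (nat_lit 127) from Fx82.nsF_eq _ _,
    show mk = Fx82.hor (nat_lit 7) (nat_lit 127) (nat_lit 100) from Fx82.pmk_eq _ _ _ _ (by decide) (by decide)]
  decide +kernel

noncomputable def d23 : ℕ → ℕ :=
  (rd (nat_lit 3) (nat_lit 7) [nat_lit 0x16245dd09c528d9cfd29a5695d12a1cda2598ca250])

theorem c33 : chkP' lk mk (nsC lk B wp5) g11_0_1 g11_1_2 t61 0 d23 = true := by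
  rewrite [show nsC lk = Fx82.nsF (nat_lit 7) (nat_lit 127) from Fx82.nsF_eq _ _,
    show mk = Fx82.hor (nat_lit 7) (nat_lit 127) (nat_lit 100) from Fx82.pmk_eq _ _ _ _ (by decide) (by decide)]
  decide +kernel

noncomputable def d28 : ℕ → ℕ :=
  (rd (nat_lit 19) (nat_lit 0x7ffff) [nat_lit 0x18068000f540183c03318060200e0001a7403c28061000fba0190003008060400c100180003400005901420000000504002000042000860010800a080030a02800000100204007ba02ea8000100b1a00080000040501001aa01754008d0010080c63008000303c020780922008c60246802ee8080a0080202008020100c0100a0003034020100e9d0043200900040000e050042200800044e805670081200614004a804b300802006340006800110013a00204005400408008040202401c680200021000100002e9008010070a0080000])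

theorem c41 : covChk lk B 2 g2_0_0 g2_0_9 g2_0_9 cl2 d28 0 = true := by
  decide +kernel

noncomputable def d1 : List (ℕ × ℕ × ℕ) :=
  [(nat_lit 0, t3, nat_lit 0x10101010103010301), (nat_lit 0, t4, nat_lit 0x40303010203030202), (nat_lit 0, t5, nat_lit 0x2050103), (nat_lit 0, t6, nat_lit 0x6010104), (nat_lit 0, t7, nat_lit 0x2040304), (nat_lit 0x50304, t8, nat_lit 0x40204), (nat_lit 1541, t9, nat_lit 0x10306), (nat_lit 1031, t10, nat_lit 0x20403), (nat_lit 1797, t11, nat_lit 0x30604), (nat_lit 770, t12, nat_lit 0x10403), (nat_lit 0x30505, t13, nat_lit 0x50502), (nat_lit 1029, t14, nat_lit 0x10304), (nat_lit 0x50707, t15, nat_lit 0x30307), (nat_lit 2056, t16, nat_lit 0x80803), (nat_lit 0, t17, nat_lit 0x50303), (nat_lit 10, t18, nat_lit 0x80802), (nat_lit 262, t19, nat_lit 0x10705), (nat_lit 0x10507, t20, nat_lit 0x40204), (nat_lit 259, t21, nat_lit 0x70105), (nat_lit 1290, t22, nat_lit 0x50502), (nat_lit 1028, t23, nat_lit 0x20204)]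

theorem c1 : slp lk ver d1 E0 = true := by
  decide +kernel

noncomputable def d22 : List (ℕ × List ℕ) :=
  [(nat_lit 0, [nat_lit 0x80401080d121111, nat_lit 0x7020b06060a0a131415]), (nat_lit 7, [nat_lit 0x90309100a1212, nat_lit 0xb050914060d131111])]

theorem c32 : Nat.ble 2000 (chain lk E 100 (okN lk B t61 5) d22 []) = true := by
  decide +kernel

noncomputable def d20 : List (ℕ × List ℕ) :=
  [(nat_lit 0, [nat_lit 0x1505010c080d1415, nat_lit 0x70312070c0c0a1515]), (nat_lit 1, [nat_lit 0x10020a070b0a1313, nat_lit 0x10050f080c0d0a14])]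

theorem c29 : Nat.ble 1200 (chain lk E 100 (okN lk B t60 5) d20 []) = true := by
  decide +kernel

noncomputable def d26 : List (ℕ × List ℕ) :=
  [(nat_lit 0, [nat_lit 0xd0101110b06111315]), (nat_lit 1, [nat_lit 0xd020707100c1113])]

theorem c38 : Nat.ble 55 (chain lk E 100 (okN lk B t63 11) d26 []) = true := by
  decide +kernel

theorem c44 : fuse lk B E g5_3_6 r5 fz5 = true := by
  decide +kernel

noncomputable def d24 : List (ℕ × List ℕ) :=
  [(nat_lit 0, [nat_lit 0xb04150b060c0b0a, nat_lit 0xb0102060610141315]), (nat_lit 1, [nat_lit 0x7060d0d151215])]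

theorem c35 : Nat.ble 42 (chain lk E 100 (okN lk B t62 7) d24 []) = true := by
  decide +kernel

noncomputable def d16 : List (ℕ × List ℕ) :=
  [(nat_lit 5, [nat_lit 0x306120a1413, nat_lit 0x30201150b060d0d0a11]), (nat_lit 0, [nat_lit 0x204060807110a0a, nat_lit 0x1030d0a060c0c0a15]), (nat_lit 3, [nat_lit 0x20414060a111312])]

theorem c23 : Nat.ble 720 (chain lk E 100 (okN lk B t58 3) d16 []) = true := by
  decide +kernel

noncomputable def d18 : List (ℕ × List ℕ) :=
  [(nat_lit 0, [nat_lit 0x6020d060d1212, nat_lit 0x9070c0d15141515]), (nat_lit 1, [nat_lit 0x10041006060d0d1515])]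

theorem c26 : Nat.ble 100 (chain lk E 100 (okN lk B t59 5) d18 []) = true := by
  decide +kernel

noncomputable def d14 : List (ℕ × List ℕ) :=
  [(nat_lit 5, [nat_lit 0x701010c080d, nat_lit 0xc030a070c0b121315]), (nat_lit 0, [nat_lit 0x7020f060a0a1515, nat_lit 0x702140c060c0a1314]), (nat_lit 3, [nat_lit 0xa080f1015, nat_lit 0x6080f101115])]

theorem c20 : Nat.ble 7680 (chain lk E 100 (okN lk B t57 2) d14 []) = true := by
  decide +kernel

noncomputable def d12 : List (ℕ × List ℕ) :=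
  [(nat_lit 0, [nat_lit 0x10020109070d11, nat_lit 0xb05061210141215]), (nat_lit 3, [nat_lit 0x131111, nat_lit 0x406150a111312]), (nat_lit 1, [nat_lit 0x150307140d15121115])]

theorem c17 : Nat.ble 2880 (chain lk E 100 (okN lk B t56 2) d12 []) = true := by
  decide +kernel

noncomputable def d4 : ℕ → ℕ :=
  (rd (nat_lit 8) (nat_lit 255) [nat_lit 0x100010200040201000905020101120a0602010223170804060504282e6508620274752117d210ee04164e0400])

theorem c5 : Nat.blt (nat_lit 0) (pcChk lk B d4 g2_0_9 (nat_lit 1)) = true := by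
  decide +kernel

theorem c40 : fuse lk B E g2_0_9 r2 fz2 = true := by
  decide +kernel

noncomputable def d5 : List (ℕ × List ℕ) :=
  [(nat_lit 86, [nat_lit 1, nat_lit 2]), (nat_lit 12, [nat_lit 7, nat_lit 8])]

theorem c6 : Nat.ble 512 (chain lk g2E 100 (fun _ => true) d5 []) = true := by
  decide +kernel

theorem c42 : fuse lk B E g3_1_3 r3 fz3 = true := by
  decide +kernel

noncomputable def d2 : List (ℕ × List ℕ) :=
  [(nat_lit 53, [nat_lit 1, nat_lit 2]), (nat_lit 27, [nat_lit 6, nat_lit 7]), (nat_lit 61, [nat_lit 10, nat_lit 11]), (nat_lit 79, [nat_lit 17, nat_lit 18]), (nat_lit 21, [nat_lit 21])]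

theorem c2 : baseChk lk E 100 44352000 d2 = true := by
  decide +kernel

noncomputable def d29 : ℕ → ℕ :=
  (rd (nat_lit 3) (nat_lit 7) [nat_lit 0x7873150])

theorem c43 : covChk lk B 3 g3_1_1 g3_1_3 g3_1_3 cl3 d29 0 = true := by
  decide +kernel

noncomputable def d9 : List (ℕ × List ℕ) :=
  [(nat_lit 10, [nat_lit 1, nat_lit 2]), (nat_lit 53, [nat_lit 3])]

theorem c12 : Nat.ble 125 (chain lk g5E 100 (fun _ => true) d9 []) = true := by
  decide +kernel

noncomputable def d8 : ℕ → ℕ :=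
  (rd (nat_lit 5) (nat_lit 31) [nat_lit 0x209e000])

theorem c11 : Nat.blt (nat_lit 0) (pcChk lk B d8 g5_3_6 (nat_lit 1)) = true := by
  decide +kernel

noncomputable def d6 : ℕ → ℕ :=
  (rd (nat_lit 1) (nat_lit 1) [nat_lit 4])

theorem c8 : Nat.blt (nat_lit 0) (pcChk lk B d6 g3_1_3 (nat_lit 1)) = true := by
  decide +kernel

noncomputable def d10 : ℕ → ℕ :=
  (rd (nat_lit 3) (nat_lit 7) [nat_lit 320])

theorem c14 : Nat.blt (nat_lit 0) (pcChk lk B d10 g11_0_2 (nat_lit 1)) = true := by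
  decide +kernel

noncomputable def d11 : List (ℕ × List ℕ) :=
  [(nat_lit 15, [nat_lit 1, nat_lit 2])]

theorem c15 : Nat.ble 55 (chain lk g11E 100 (fun _ => true) d11 []) = true := by
  decide +kernel

theorem c4 : invChk lk B (g2_0_9.map Prod.snd) = true := by
  decide +kernel

theorem c7 : invChk lk B (g3_1_3.map Prod.snd) = true := by
  decide +kernel

theorem c10 : invChk lk B (g5_3_6.map Prod.snd) = true := by
  decide +kernel

theorem c13 : invChk lk B (g11_0_2.map Prod.snd) = true := by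
  decide +kernel

theorem c16 : ordChk lk B t56 2 = true := by
  decide +kernel

theorem c19 : ordChk lk B t57 2 = true := by
  decide +kernel

theorem c22 : ordChk lk B t58 3 = true := by
  decide +kernel

theorem c25 : ordChk lk B t59 5 = true := by
  decide +kernel

theorem c28 : ordChk lk B t60 5 = true := by
  decide +kernel

theorem c31 : ordChk lk B t61 5 = true := by
  decide +kernel

theorem c34 : ordChk lk B t62 7 = true := by
  decide +kernel

theorem c37 : ordChk lk B t63 11 = true := by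
  decide +kernel

noncomputable def d7 : List (ℕ × List ℕ) :=
  [(nat_lit 27, [nat_lit 1, nat_lit 2])]

theorem c9 : Nat.ble 9 (chain lk g3E 100 (fun _ => true) d7 []) = true := by
  decide +kernel

end Cfsg.Agent.SB.SporF.HS
end

-- part: SB/SporF/HS/Main
section
/-! S5765, row of HS: assembly (generated by notes/SB/spor_tools, helper63) -/

set_option autoImplicit false

namespace Cfsg.Agent.SB.SporF.HS

open Cfsg.Agent.SB Cfsg.Agent.SB.Spor

open Cfsg

set_option maxRecDepth 100000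
set_option linter.unusedSectionVars false

variable {G : Type*} [Group G]

theorem tab (M : PM G 100) : M.Tab lk mk ver := perm_tab M rfl (by norm_num) (by norm_num)

/-- the tables `E0` describe elements of `G`, and the order of `G` is bounded -/
structure Hyp (M : PM G 100) : Prop where
  h0 : AllIn M lk E0
  hN : Nat.card G ≤ 44352000

variable [Finite G] {M : PM G 100} (H : Hyp M)
include H

theorem s0 : AllIn M lk sl0 :=
  slp_spec (tab M) d1 E0 H.h0 c1

theorem i3 : M.In lk t3 :=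
  s0 H _ (.head _)

theorem i4 : M.In lk t4 :=
  s0 H _ (.tail _ (.head _))

theorem i5 : M.In lk t5 :=
  s0 H _ (.tail _ (.tail _ (.head _)))

theorem i6 : M.In lk t6 :=
  s0 H _ (.tail _ (.tail _ (.tail _ (.head _))))

theorem i7 : M.In lk t7 :=
  s0 H _ (.tail _ (.tail _ (.tail _ (.tail _ (.head _)))))

theorem i8 : M.In lk t8 :=
  s0 H _ (.tail _ (.tail _ (.tail _ (.tail _ (.tail _ (.head _))))))

theorem i9 : M.In lk t9 :=
  s0 H _ (.tail _ (.tail _ (.tail _ (.tail _ (.tail _ (.tail _ (.head _)))))))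

theorem i10 : M.In lk t10 :=
  s0 H _ (.tail _ (.tail _ (.tail _ (.tail _ (.tail _ (.tail _ (.tail _ (.head _))))))))

theorem i11 : M.In lk t11 :=
  s0 H _ (.tail _ (.tail _ (.tail _ (.tail _ (.tail _ (.tail _ (.tail _ (.tail _ (.head _)))))))))

theorem i12 : M.In lk t12 :=
  s0 H _ (.tail _ (.tail _ (.tail _ (.tail _ (.tail _ (.tail _ (.tail _ (.tail _ (.tail _ (.head _))))))))))

theorem i13 : M.In lk t13 :=
  s0 H _ (.tail _ (.tail _ (.tail _ (.tail _ (.tail _ (.tail _ (.tail _ (.tail _ (.tail _ (.tail _ (.head _)))))))))))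

theorem i14 : M.In lk t14 :=
  s0 H _ (.tail _ (.tail _ (.tail _ (.tail _ (.tail _ (.tail _ (.tail _ (.tail _ (.tail _ (.tail _ (.tail _ (.head _))))))))))))

theorem i15 : M.In lk t15 :=
  s0 H _ (.tail _ (.tail _ (.tail _ (.tail _ (.tail _ (.tail _ (.tail _ (.tail _ (.tail _ (.tail _ (.tail _ (.tail _ (.head _)))))))))))))

theorem i16 : M.In lk t16 :=
  s0 H _ (.tail _ (.tail _ (.tail _ (.tail _ (.tail _ (.tail _ (.tail _ (.tail _ (.tail _ (.tail _ (.tail _ (.tail _ (.tail _ (.head _))))))))))))))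

theorem i17 : M.In lk t17 :=
  s0 H _ (.tail _ (.tail _ (.tail _ (.tail _ (.tail _ (.tail _ (.tail _ (.tail _ (.tail _ (.tail _ (.tail _ (.tail _ (.tail _ (.tail _ (.head _)))))))))))))))

theorem i18 : M.In lk t18 :=
  s0 H _ (.tail _ (.tail _ (.tail _ (.tail _ (.tail _ (.tail _ (.tail _ (.tail _ (.tail _ (.tail _ (.tail _ (.tail _ (.tail _ (.tail _ (.tail _ (.head _))))))))))))))))

theorem i19 : M.In lk t19 :=
  s0 H _ (.tail _ (.tail _ (.tail _ (.tail _ (.tail _ (.tail _ (.tail _ (.tail _ (.tail _ (.tail _ (.tail _ (.tail _ (.tail _ (.tail _ (.tail _ (.tail _ (.head _)))))))))))))))))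

theorem i20 : M.In lk t20 :=
  s0 H _ (.tail _ (.tail _ (.tail _ (.tail _ (.tail _ (.tail _ (.tail _ (.tail _ (.tail _ (.tail _ (.tail _ (.tail _ (.tail _ (.tail _ (.tail _ (.tail _ (.tail _ (.head _))))))))))))))))))

theorem i21 : M.In lk t21 :=
  s0 H _ (.tail _ (.tail _ (.tail _ (.tail _ (.tail _ (.tail _ (.tail _ (.tail _ (.tail _ (.tail _ (.tail _ (.tail _ (.tail _ (.tail _ (.tail _ (.tail _ (.tail _ (.tail _ (.head _)))))))))))))))))))

theorem i22 : M.In lk t22 :=
  s0 H _ (.tail _ (.tail _ (.tail _ (.tail _ (.tail _ (.tail _ (.tail _ (.tail _ (.tail _ (.tail _ (.tail _ (.tail _ (.tail _ (.tail _ (.tail _ (.tail _ (.tail _ (.tail _ (.tail _ (.head _))))))))))))))))))))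

theorem i23 : M.In lk t23 :=
  s0 H _ (.tail _ (.tail _ (.tail _ (.tail _ (.tail _ (.tail _ (.tail _ (.tail _ (.tail _ (.tail _ (.tail _ (.tail _ (.tail _ (.tail _ (.tail _ (.tail _ (.tail _ (.tail _ (.tail _ (.tail _ (.head _)))))))))))))))))))))

theorem hE : AllIn M lk E :=
  (AllIn.cons (i3 H) (AllIn.cons (i4 H) (AllIn.cons (i5 H) (AllIn.cons (i6 H) (AllIn.cons (i7 H) (AllIn.cons (i8 H) (AllIn.cons (i9 H) (AllIn.cons (i10 H) (AllIn.cons (i11 H) (AllIn.cons (i12 H) (AllIn.cons (i13 H) (AllIn.cons (i14 H) (AllIn.cons (i15 H) (AllIn.cons (i16 H) (AllIn.cons (i17 H) (AllIn.cons (i18 H) (AllIn.cons (i19 H) (AllIn.cons (i20 H) (AllIn.cons (i21 H) (AllIn.cons (i22 H) (AllIn.cons (i23 H) AllIn.nil)))))))))))))))))))))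

theorem hB0 : M.Base B ∧ Nat.card G = 44352000 :=
  base_of_chk (hE H) H.hN (B := B) rfl c2

theorem hB : M.Base B :=
  (hB0 H).1

theorem u0 : AllIn M lk ul0 :=
  slp_spec (tab M) d3 E (hE H) c3

theorem i24 : M.In lk t24 :=
  u0 H _ (.head _)

theorem i25 : M.In lk t25 :=
  u0 H _ (.tail _ (.head _))

theorem i26 : M.In lk t26 :=
  u0 H _ (.tail _ (.tail _ (.head _)))

theorem i27 : M.In lk t27 :=
  u0 H _ (.tail _ (.tail _ (.tail _ (.head _))))

theorem i28 : M.In lk t28 :=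
  u0 H _ (.tail _ (.tail _ (.tail _ (.tail _ (.head _)))))

theorem i29 : M.In lk t29 :=
  u0 H _ (.tail _ (.tail _ (.tail _ (.tail _ (.tail _ (.head _))))))

theorem i30 : M.In lk t30 :=
  u0 H _ (.tail _ (.tail _ (.tail _ (.tail _ (.tail _ (.tail _ (.head _)))))))

theorem i31 : M.In lk t31 :=
  u0 H _ (.tail _ (.tail _ (.tail _ (.tail _ (.tail _ (.tail _ (.tail _ (.head _))))))))

theorem i32 : M.In lk t32 :=
  u0 H _ (.tail _ (.tail _ (.tail _ (.tail _ (.tail _ (.tail _ (.tail _ (.tail _ (.head _)))))))))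

theorem i33 : M.In lk t33 :=
  u0 H _ (.tail _ (.tail _ (.tail _ (.tail _ (.tail _ (.tail _ (.tail _ (.tail _ (.tail _ (.head _))))))))))

theorem i34 : M.In lk t34 :=
  u0 H _ (.tail _ (.tail _ (.tail _ (.tail _ (.tail _ (.tail _ (.tail _ (.tail _ (.tail _ (.tail _ (.head _)))))))))))

theorem i35 : M.In lk t35 :=
  u0 H _ (.tail _ (.tail _ (.tail _ (.tail _ (.tail _ (.tail _ (.tail _ (.tail _ (.tail _ (.tail _ (.tail _ (.head _))))))))))))

theorem i36 : M.In lk t36 :=
  u0 H _ (.tail _ (.tail _ (.tail _ (.tail _ (.tail _ (.tail _ (.tail _ (.tail _ (.tail _ (.tail _ (.tail _ (.tail _ (.head _)))))))))))))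

theorem i37 : M.In lk t37 :=
  u0 H _ (.tail _ (.tail _ (.tail _ (.tail _ (.tail _ (.tail _ (.tail _ (.tail _ (.tail _ (.tail _ (.tail _ (.tail _ (.tail _ (.head _))))))))))))))

theorem i38 : M.In lk t38 :=
  u0 H _ (.tail _ (.tail _ (.tail _ (.tail _ (.tail _ (.tail _ (.tail _ (.tail _ (.tail _ (.tail _ (.tail _ (.tail _ (.tail _ (.tail _ (.head _)))))))))))))))

theorem i39 : M.In lk t39 :=
  u0 H _ (.tail _ (.tail _ (.tail _ (.tail _ (.tail _ (.tail _ (.tail _ (.tail _ (.tail _ (.tail _ (.tail _ (.tail _ (.tail _ (.tail _ (.tail _ (.head _))))))))))))))))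

theorem i40 : M.In lk t40 :=
  u0 H _ (.tail _ (.tail _ (.tail _ (.tail _ (.tail _ (.tail _ (.tail _ (.tail _ (.tail _ (.tail _ (.tail _ (.tail _ (.tail _ (.tail _ (.tail _ (.tail _ (.head _)))))))))))))))))

theorem i41 : M.In lk t41 :=
  u0 H _ (.tail _ (.tail _ (.tail _ (.tail _ (.tail _ (.tail _ (.tail _ (.tail _ (.tail _ (.tail _ (.tail _ (.tail _ (.tail _ (.tail _ (.tail _ (.tail _ (.tail _ (.head _))))))))))))))))))

theorem i42 : M.In lk t42 :=
  u0 H _ (.tail _ (.tail _ (.tail _ (.tail _ (.tail _ (.tail _ (.tail _ (.tail _ (.tail _ (.tail _ (.tail _ (.tail _ (.tail _ (.tail _ (.tail _ (.tail _ (.tail _ (.tail _ (.head _)))))))))))))))))))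

theorem i43 : M.In lk t43 :=
  u0 H _ (.tail _ (.tail _ (.tail _ (.tail _ (.tail _ (.tail _ (.tail _ (.tail _ (.tail _ (.tail _ (.tail _ (.tail _ (.tail _ (.tail _ (.tail _ (.tail _ (.tail _ (.tail _ (.tail _ (.head _))))))))))))))))))))

theorem i44 : M.In lk t44 :=
  u0 H _ (.tail _ (.tail _ (.tail _ (.tail _ (.tail _ (.tail _ (.tail _ (.tail _ (.tail _ (.tail _ (.tail _ (.tail _ (.tail _ (.tail _ (.tail _ (.tail _ (.tail _ (.tail _ (.tail _ (.tail _ (.head _)))))))))))))))))))))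

theorem i45 : M.In lk t45 :=
  u0 H _ (.tail _ (.tail _ (.tail _ (.tail _ (.tail _ (.tail _ (.tail _ (.tail _ (.tail _ (.tail _ (.tail _ (.tail _ (.tail _ (.tail _ (.tail _ (.tail _ (.tail _ (.tail _ (.tail _ (.tail _ (.tail _ (.head _))))))))))))))))))))))

theorem i46 : M.In lk t46 :=
  u0 H _ (.tail _ (.tail _ (.tail _ (.tail _ (.tail _ (.tail _ (.tail _ (.tail _ (.tail _ (.tail _ (.tail _ (.tail _ (.tail _ (.tail _ (.tail _ (.tail _ (.tail _ (.tail _ (.tail _ (.tail _ (.tail _ (.tail _ (.head _)))))))))))))))))))))))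

theorem i47 : M.In lk t47 :=
  u0 H _ (.tail _ (.tail _ (.tail _ (.tail _ (.tail _ (.tail _ (.tail _ (.tail _ (.tail _ (.tail _ (.tail _ (.tail _ (.tail _ (.tail _ (.tail _ (.tail _ (.tail _ (.tail _ (.tail _ (.tail _ (.tail _ (.tail _ (.tail _ (.head _))))))))))))))))))))))))

theorem i48 : M.In lk t48 :=
  u0 H _ (.tail _ (.tail _ (.tail _ (.tail _ (.tail _ (.tail _ (.tail _ (.tail _ (.tail _ (.tail _ (.tail _ (.tail _ (.tail _ (.tail _ (.tail _ (.tail _ (.tail _ (.tail _ (.tail _ (.tail _ (.tail _ (.tail _ (.tail _ (.tail _ (.head _)))))))))))))))))))))))))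

theorem i49 : M.In lk t49 :=
  u0 H _ (.tail _ (.tail _ (.tail _ (.tail _ (.tail _ (.tail _ (.tail _ (.tail _ (.tail _ (.tail _ (.tail _ (.tail _ (.tail _ (.tail _ (.tail _ (.tail _ (.tail _ (.tail _ (.tail _ (.tail _ (.tail _ (.tail _ (.tail _ (.tail _ (.tail _ (.head _))))))))))))))))))))))))))

theorem i50 : M.In lk t50 :=
  u0 H _ (.tail _ (.tail _ (.tail _ (.tail _ (.tail _ (.tail _ (.tail _ (.tail _ (.tail _ (.tail _ (.tail _ (.tail _ (.tail _ (.tail _ (.tail _ (.tail _ (.tail _ (.tail _ (.tail _ (.tail _ (.tail _ (.tail _ (.tail _ (.tail _ (.tail _ (.tail _ (.head _)))))))))))))))))))))))))))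

theorem i51 : M.In lk t51 :=
  u0 H _ (.tail _ (.tail _ (.tail _ (.tail _ (.tail _ (.tail _ (.tail _ (.tail _ (.tail _ (.tail _ (.tail _ (.tail _ (.tail _ (.tail _ (.tail _ (.tail _ (.tail _ (.tail _ (.tail _ (.tail _ (.tail _ (.tail _ (.tail _ (.tail _ (.tail _ (.tail _ (.tail _ (.head _))))))))))))))))))))))))))))

theorem i52 : M.In lk t52 :=
  u0 H _ (.tail _ (.tail _ (.tail _ (.tail _ (.tail _ (.tail _ (.tail _ (.tail _ (.tail _ (.tail _ (.tail _ (.tail _ (.tail _ (.tail _ (.tail _ (.tail _ (.tail _ (.tail _ (.tail _ (.tail _ (.tail _ (.tail _ (.tail _ (.tail _ (.tail _ (.tail _ (.tail _ (.tail _ (.head _)))))))))))))))))))))))))))))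

theorem i53 : M.In lk t53 :=
  u0 H _ (.tail _ (.tail _ (.tail _ (.tail _ (.tail _ (.tail _ (.tail _ (.tail _ (.tail _ (.tail _ (.tail _ (.tail _ (.tail _ (.tail _ (.tail _ (.tail _ (.tail _ (.tail _ (.tail _ (.tail _ (.tail _ (.tail _ (.tail _ (.tail _ (.tail _ (.tail _ (.tail _ (.tail _ (.tail _ (.head _))))))))))))))))))))))))))))))

theorem i54 : M.In lk t54 :=
  u0 H _ (.tail _ (.tail _ (.tail _ (.tail _ (.tail _ (.tail _ (.tail _ (.tail _ (.tail _ (.tail _ (.tail _ (.tail _ (.tail _ (.tail _ (.tail _ (.tail _ (.tail _ (.tail _ (.tail _ (.tail _ (.tail _ (.tail _ (.tail _ (.tail _ (.tail _ (.tail _ (.tail _ (.tail _ (.tail _ (.tail _ (.head _)))))))))))))))))))))))))))))))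

theorem i55 : M.In lk t55 :=
  u0 H _ (.tail _ (.tail _ (.tail _ (.tail _ (.tail _ (.tail _ (.tail _ (.tail _ (.tail _ (.tail _ (.tail _ (.tail _ (.tail _ (.tail _ (.tail _ (.tail _ (.tail _ (.tail _ (.tail _ (.tail _ (.tail _ (.tail _ (.tail _ (.tail _ (.tail _ (.tail _ (.tail _ (.tail _ (.tail _ (.tail _ (.tail _ (.head _))))))))))))))))))))))))))))))))

theorem i56 : M.In lk t56 :=
  u0 H _ (.tail _ (.tail _ (.tail _ (.tail _ (.tail _ (.tail _ (.tail _ (.tail _ (.tail _ (.tail _ (.tail _ (.tail _ (.tail _ (.tail _ (.tail _ (.tail _ (.tail _ (.tail _ (.tail _ (.tail _ (.tail _ (.tail _ (.tail _ (.tail _ (.tail _ (.tail _ (.tail _ (.tail _ (.tail _ (.tail _ (.tail _ (.tail _ (.head _)))))))))))))))))))))))))))))))))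

theorem i57 : M.In lk t57 :=
  u0 H _ (.tail _ (.tail _ (.tail _ (.tail _ (.tail _ (.tail _ (.tail _ (.tail _ (.tail _ (.tail _ (.tail _ (.tail _ (.tail _ (.tail _ (.tail _ (.tail _ (.tail _ (.tail _ (.tail _ (.tail _ (.tail _ (.tail _ (.tail _ (.tail _ (.tail _ (.tail _ (.tail _ (.tail _ (.tail _ (.tail _ (.tail _ (.tail _ (.tail _ (.head _))))))))))))))))))))))))))))))))))

theorem i58 : M.In lk t58 :=
  u0 H _ (.tail _ (.tail _ (.tail _ (.tail _ (.tail _ (.tail _ (.tail _ (.tail _ (.tail _ (.tail _ (.tail _ (.tail _ (.tail _ (.tail _ (.tail _ (.tail _ (.tail _ (.tail _ (.tail _ (.tail _ (.tail _ (.tail _ (.tail _ (.tail _ (.tail _ (.tail _ (.tail _ (.tail _ (.tail _ (.tail _ (.tail _ (.tail _ (.tail _ (.tail _ (.head _)))))))))))))))))))))))))))))))))))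

theorem i59 : M.In lk t59 :=
  u0 H _ (.tail _ (.tail _ (.tail _ (.tail _ (.tail _ (.tail _ (.tail _ (.tail _ (.tail _ (.tail _ (.tail _ (.tail _ (.tail _ (.tail _ (.tail _ (.tail _ (.tail _ (.tail _ (.tail _ (.tail _ (.tail _ (.tail _ (.tail _ (.tail _ (.tail _ (.tail _ (.tail _ (.tail _ (.tail _ (.tail _ (.tail _ (.tail _ (.tail _ (.tail _ (.tail _ (.head _))))))))))))))))))))))))))))))))))))

theorem i60 : M.In lk t60 :=
  u0 H _ (.tail _ (.tail _ (.tail _ (.tail _ (.tail _ (.tail _ (.tail _ (.tail _ (.tail _ (.tail _ (.tail _ (.tail _ (.tail _ (.tail _ (.tail _ (.tail _ (.tail _ (.tail _ (.tail _ (.tail _ (.tail _ (.tail _ (.tail _ (.tail _ (.tail _ (.tail _ (.tail _ (.tail _ (.tail _ (.tail _ (.tail _ (.tail _ (.tail _ (.tail _ (.tail _ (.tail _ (.head _)))))))))))))))))))))))))))))))))))))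

theorem i61 : M.In lk t61 :=
  u0 H _ (.tail _ (.tail _ (.tail _ (.tail _ (.tail _ (.tail _ (.tail _ (.tail _ (.tail _ (.tail _ (.tail _ (.tail _ (.tail _ (.tail _ (.tail _ (.tail _ (.tail _ (.tail _ (.tail _ (.tail _ (.tail _ (.tail _ (.tail _ (.tail _ (.tail _ (.tail _ (.tail _ (.tail _ (.tail _ (.tail _ (.tail _ (.tail _ (.tail _ (.tail _ (.tail _ (.tail _ (.tail _ (.head _))))))))))))))))))))))))))))))))))))))

theorem i62 : M.In lk t62 :=
  u0 H _ (.tail _ (.tail _ (.tail _ (.tail _ (.tail _ (.tail _ (.tail _ (.tail _ (.tail _ (.tail _ (.tail _ (.tail _ (.tail _ (.tail _ (.tail _ (.tail _ (.tail _ (.tail _ (.tail _ (.tail _ (.tail _ (.tail _ (.tail _ (.tail _ (.tail _ (.tail _ (.tail _ (.tail _ (.tail _ (.tail _ (.tail _ (.tail _ (.tail _ (.tail _ (.tail _ (.tail _ (.tail _ (.tail _ (.head _)))))))))))))))))))))))))))))))))))))))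

theorem i63 : M.In lk t63 :=
  u0 H _ (.tail _ (.tail _ (.tail _ (.tail _ (.tail _ (.tail _ (.tail _ (.tail _ (.tail _ (.tail _ (.tail _ (.tail _ (.tail _ (.tail _ (.tail _ (.tail _ (.tail _ (.tail _ (.tail _ (.tail _ (.tail _ (.tail _ (.tail _ (.tail _ (.tail _ (.tail _ (.tail _ (.tail _ (.tail _ (.tail _ (.tail _ (.tail _ (.tail _ (.tail _ (.tail _ (.tail _ (.tail _ (.tail _ (.tail _ (.head _))))))))))))))))))))))))))))))))))))))))

theorem g2p0 : PcG M lk g2_0_9 512 :=
  pcg_of (hB H) (fa_cons (⟨i24 H, i25 H⟩) (fa_cons (⟨i26 H, i27 H⟩) (fa_cons (⟨i28 H, i29 H⟩) (fa_cons (⟨i30 H, i31 H⟩) (fa_cons (⟨i32 H, i33 H⟩) (fa_cons (⟨i34 H, i35 H⟩) (fa_cons (⟨i36 H, i37 H⟩) (fa_cons (⟨i38 H, i39 H⟩) (fa_cons (⟨i40 H, i41 H⟩) fa_nil))))))))) c4 c5 (E := g2E) rfl c6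

theorem g3p1 : PcG M lk g3_1_3 9 :=
  pcg_of (hB H) (fa_cons (⟨i42 H, i43 H⟩) (fa_cons (⟨i44 H, i45 H⟩) fa_nil)) c7 c8 (E := g3E) rfl c9

theorem g5p3 : PcG M lk g5_3_6 125 :=
  pcg_of (hB H) (fa_cons (⟨i46 H, i47 H⟩) (fa_cons (⟨i48 H, i49 H⟩) (fa_cons (⟨i50 H, i51 H⟩) fa_nil))) c10 c11 (E := g5E) rfl c12

theorem g11p0 : PcG M lk g11_0_2 55 :=
  pcg_of (hB H) (fa_cons (⟨i52 H, i53 H⟩) (fa_cons (⟨i54 H, i55 H⟩) fa_nil)) c13 c14 (E := g11E) rfl c15

theorem g5p4 : PcG M lk g5_4_6 25 :=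
  (g5p3 H).right (A := g5_3_4) rfl (by decide +kernel)

theorem dn0 : Dn (M.el lk t56) 2 25 :=
  (g5p4 H).dnS (tab M) (nsC_ok (hB H) _) (i56 H) (Upto.zero) c18

theorem ok0 : Rc.Ok ⟨2, 2, 25, 2880⟩ (M.el lk t56) :=
  rc_ok (hB H) (i56 H) (by norm_num) c16 (dn0 H) (by norm_num) (norm_ge (hB H) (hE H) (i56 H) c17)

theorem dn1 : Dn (M.el lk t57) 4 55 :=
  (g11p0 H).dnS (tab M) (nsC_ok (hB H) _) (i57 H) (Upto.zero) c21

theorem ok1 : Rc.Ok ⟨2, 4, 55, 7680⟩ (M.el lk t57) :=
  rc_ok (hB H) (i57 H) (by norm_num) c19 (dn1 H) (by norm_num) (norm_ge (hB H) (hE H) (i57 H) c20)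

theorem dn2 : Dn (M.el lk t58) 1 55 :=
  (g11p0 H).dnP (A := g11_0_1) (R := g11_1_2) rfl (tab M) (nsC_ok (hB H) _) (i58 H) (Upto.zero) c24

theorem ok2 : Rc.Ok ⟨3, 1, 55, 720⟩ (M.el lk t58) :=
  rc_ok (hB H) (i58 H) (by norm_num) c22 (dn2 H) (by norm_num) (norm_ge (hB H) (hE H) (i58 H) c23)

theorem g2p3 : PcG M lk g2_3_9 64 :=
  (g2p0 H).right (A := g2_0_3) rfl (by decide +kernel)

theorem dn3 : Dn (M.el lk t59) 1 64 :=
  (g2p3 H).dnP (A := g2_3_6) (R := g2_6_9) rfl (tab M) (nsC_ok (hB H) _) (i59 H) (Upto.zero) c27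

theorem ok3 : Rc.Ok ⟨5, 1, 64, 100⟩ (M.el lk t59) :=
  rc_ok (hB H) (i59 H) (by norm_num) c25 (dn3 H) (by norm_num) (norm_ge (hB H) (hE H) (i59 H) c26)

theorem dn4 : Dn (M.el lk t60) 1 55 :=
  (g11p0 H).dnP (A := g11_0_1) (R := g11_1_2) rfl (tab M) (nsC_ok (hB H) _) (i60 H) (Upto.zero) c30

theorem ok4 : Rc.Ok ⟨5, 1, 55, 1200⟩ (M.el lk t60) :=
  rc_ok (hB H) (i60 H) (by norm_num) c28 (dn4 H) (by norm_num) (norm_ge (hB H) (hE H) (i60 H) c29)

theorem dn5 : Dn (M.el lk t61) 1 55 :=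
  (g11p0 H).dnP (A := g11_0_1) (R := g11_1_2) rfl (tab M) (nsC_ok (hB H) _) (i61 H) (Upto.zero) c33

theorem ok5 : Rc.Ok ⟨5, 1, 55, 2000⟩ (M.el lk t61) :=
  rc_ok (hB H) (i61 H) (by norm_num) c31 (dn5 H) (by norm_num) (norm_ge (hB H) (hE H) (i61 H) c32)

theorem dn6 : Dn (M.el lk t62) 1 125 :=
  (g5p3 H).dnP (A := g5_3_4) (R := g5_4_6) rfl (tab M) (nsC_ok (hB H) _) (i62 H) (Upto.zero) c36

theorem ok6 : Rc.Ok ⟨7, 1, 125, 42⟩ (M.el lk t62) :=
  rc_ok (hB H) (i62 H) (by norm_num) c34 (dn6 H) (by norm_num) (norm_ge (hB H) (hE H) (i62 H) c35)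

theorem dn7 : Dn (M.el lk t63) 1 125 :=
  (g5p3 H).dnP (A := g5_3_4) (R := g5_4_6) rfl (tab M) (nsC_ok (hB H) _) (i63 H) (Upto.zero) c39

theorem ok7 : Rc.Ok ⟨11, 1, 125, 55⟩ (M.el lk t63) :=
  rc_ok (hB H) (i63 H) (by norm_num) c37 (dn7 H) (by norm_num) (norm_ge (hB H) (hE H) (i63 H) c38)

theorem cov2 : Cov M lk 2 r2 :=
  (g2p0 H).cov (hB H) (A := g2_0_0) (R := g2_0_9) (d := 86625) (a := 1) rfl (by norm_num) (hB0 H).2 (by decide +kernel) (hE H)
    (AllIn.cons (i56 H) (AllIn.cons (i57 H) AllIn.nil)) c40 (cls := cl2) rfl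
    (show ∀ c ∈ [0], _ from (fa_cons (⟨_, c41⟩) fa_nil))

theorem cov3 : Cov M lk 3 r3 :=
  (g3p1 H).cov (hB H) (A := g3_1_1) (R := g3_1_3) (d := 4928000) (a := 1) rfl (by norm_num) (hB0 H).2 (by decide +kernel) (hE H)
    (AllIn.cons (i58 H) AllIn.nil) c42 (cls := cl3) rfl
    (show ∀ c ∈ [0], _ from (fa_cons (⟨_, c43⟩) fa_nil))

theorem cov5 : Cov M lk 5 r5 :=
  (g5p3 H).cov (hB H) (A := g5_3_3) (R := g5_3_6) (d := 354816) (a := 1) rfl (by norm_num) (hB0 H).2 (by decide +kernel) (hE H)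
    (AllIn.cons (i59 H) (AllIn.cons (i60 H) (AllIn.cons (i61 H) AllIn.nil))) c44 (cls := cl5) rfl
    (show ∀ c ∈ [0], _ from (fa_cons (⟨_, c45⟩) fa_nil))

theorem cov7 : Cov M lk 7 r7 :=
  cov_of_prime (d := 6336000) (by norm_num) (ok6 H).ord ((hB0 H).2.trans (by norm_num)) (by norm_num)

theorem cov11 : Cov M lk 11 r11 :=
  cov_of_prime (d := 4032000) (by norm_num) (ok7 H).ord ((hB0 H).2.trans (by norm_num)) (by norm_num)

theorem sheet : Sheet G 44352000 [⟨2, 2, 25, 2880⟩, ⟨2, 4, 55, 7680⟩, ⟨3, 1, 55, 720⟩, ⟨5, 1, 64, 100⟩, ⟨5, 1, 55, 1200⟩, ⟨5, 1, 55, 2000⟩, ⟨7, 1, 125, 42⟩, ⟨11, 1, 125, 55⟩] :=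
  sheet_of (hB0 H).2 (F := [(2, 9), (3, 2), (5, 3), (7, 1), (11, 1)]) (by norm_num) (reps := [t56, t57, t58, t59, t60, t61, t62, t63])
    (.cons (ok0 H) (.cons (ok1 H) (.cons (ok2 H) (.cons (ok3 H) (.cons (ok4 H) (.cons (ok5 H) (.cons (ok6 H) (.cons (ok7 H) .nil))))))))
    (fa_cons (pcov (by norm_num) (cov2 H) (fa_cons ((.head _)) (fa_cons ((.tail _ (.head _))) fa_nil))) (fa_cons (pcov (by norm_num) (cov3 H) (fa_cons ((.tail _ (.tail _ (.head _)))) fa_nil)) (fa_cons (pcov (by norm_num) (cov5 H) (fa_cons ((.tail _ (.tail _ (.tail _ (.head _))))) (fa_cons ((.tail _ (.tail _ (.tail _ (.tail _ (.head _)))))) (fa_cons ((.tail _ (.tail _ (.tail _ (.tail _ (.tail _ (.head _))))))) fa_nil)))) (fa_cons (pcov (by norm_num) (cov7 H) (fa_cons ((.tail _ (.tail _ (.tail _ (.tail _ (.tail _ (.tail _ (.head _)))))))) fa_nil)) (fa_cons (pcov (by norm_num) (cov11 H) (fa_cons ((.tail _ (.tail _ (.tail _ (.tail _ (.tail _ (.tail _ (.tail _ (.head _))))))))) fa_nil))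 fa_nil)))))

theorem big : ∀ c : G, (orderOf c).Prime → orderOf c ∣ 125 → Dn c 1 49 :=
  big_of (F := [(5, 3)]) (by norm_num)
    (fa_cons (pcov (by norm_num) (cov5 H) (fa_cons ((ok3 H).big (by norm_num) (by norm_num)) (fa_cons ((ok4 H).big (by norm_num) (by norm_num)) (fa_cons ((ok5 H).big (by norm_num) (by norm_num)) fa_nil)))) fa_nil)

theorem row [IsSimpleGroup G] (hK : ¬ IsMulCommutative G) (ho : Nat.card (Out G) ≤ 2) : Row G :=
  (sheet H).row_two hK ho (by norm_num) (hB0 H).2 (a := 354816) (by norm_num) (by norm_num) (big H)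
    (by simp only [List.map, List.sum_cons, List.sum_nil, Rc.term]; norm_num)

end Cfsg.Agent.SB.SporF.HS
end

-- part: SB/SporF/RowHS
section
/-!
# S5765, the row of `HS` (helper61)

The action on 100 points; `row_HS`.
-/

set_option autoImplicit false
set_option maxRecDepth 100000

namespace Cfsg.Agent.SB.SporF

open Cfsg Cfsg.Agent.SB.Spor

namespace HS

open Cfsg.Agent.HN.HS100

theorem ck : allN 3 (fun k => allN 100 fun i => Nat.beq
    (SporadicA.PermTab.lk ([tX, tY, tW].getD k 0) i) (lk (E0.getD k 0) i)) = true := by decide +kernel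

theorem hyp : Hyp (permPM Q.subtype) := by
  refine ⟨fun t ht => ?_, HN.AutBound.card_Q.le⟩
  obtain ⟨k, hk, rfl⟩ := List.mem_iff_getElem.1 ht
  have hk3 : k < 3 := hk
  have h : SporadicA.PermTab.InG Q ([tX, tY, tW].getD k 0) := by
    interval_cases k
    exacts [inX, inY, inW]
  obtain ⟨g, hg, e⟩ := h
  refine ⟨⟨g, hg⟩, fun i hi => ?_⟩
  show (if h : i < 100 then _ else _) = _
  rw [dif_pos hi, ← List.getD_eq_getElem _ 0 hk]
  exact (e ⟨i, hi⟩).trans (Nat.eq_of_beq_eq_true (of_allN (of_allN ck k hk3) i hi))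

end HS

/-- **The row of `HS`.** -/
theorem row_HS (K : Type*) [Group K] (h : Spor.IsoHS K) : Row K := by
  obtain ⟨e⟩ := h
  obtain ⟨⟨f⟩, _⟩ := HN.AutHS.nonempty_Q
  refine Row.of_equiv (e.trans f.symm) (HS.row HS.hyp (not_comm_of_card ?_) ?_)
  · rw [HN.AutBound.card_Q]
    norm_num
  · exact ((card_out_congr f).trans S2072.result).le

end Cfsg.Agent.SB.SporF
end
end

-- part: SB/SporF/RowJ2
section
prune_inst 0x30007544744002000800008203003864ec000192006bc80179400a40090f334280000f0056b01a1080eeb28040494020010001c0420000002a008c004002002084ab42003234ad0435000f40f886100000000000000000000000000000051004000000000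
set_option linter.all false
open scoped Cfsg.Agent.FastGrp

-- part: SB/SporF/J2/Data
section
/-! S5765, row of J2: data (generated by notes/SB/spor_tools, helper63) -/

set_option autoImplicit false

namespace Cfsg.Agent.SB.SporF.J2

open Cfsg.Agent.SB Cfsg.Agent.SB.Spor

noncomputable def lk (t i : ℕ) : ℕ := Nat.land (Nat.shiftRight t (Nat.mul (nat_lit 7) i)) (nat_lit 127)

noncomputable def mk : (ℕ → ℕ) → ℕ := pmk (nat_lit 7) (nat_lit 127) (nat_lit 100) (nat_lit 7)

noncomputable def ver : (ℕ → ℕ) → ℕ → (ℕ → ℕ) → Bool := pver (nat_lit 7) (nat_lit 127) (nat_lit 100)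

noncomputable def t0 : ℕ :=
  nat_lit 0xc78715340aae5db76aca4a956b57c14a8a8953a6c7913e24b9916349850dbc07ef5f3c76d9c3982e9a3530c98a15cbd6ac4d78bd036aca58448d85f3c7ce1d4e64d335254b25104888f202860d12385930c1c284040c001

noncomputable def t1 : ℕ :=
  nat_lit 0xaf020e0bf79abc8a9ec59c662aa55ece851392a64d973942156aadc47b0b0e27cfe1dc74edb386ee6eb4a4b9831a6c8f158f194c9b49aa23488a41f40b4ecf346ccd62c5d614183470a1e449130a403080e245800604104

noncomputable def t2 : ℕ :=
  nat_lit 0xc7871576056e5db76ac94c11a2d3a94a899933a6cb99127c7915aaca8709f3f8105bbb78d5cb87ad1d3652c98df46896ac3e5999a3a792255eb9021569939b38a281730aaf581c449101e4c60d122058a02002050608386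

noncomputable def t3 : ℕ :=
  nat_lit 0x234145fc02125824ede5c1d0e10a40fe0628f3674a53320979e306b7ad564d1a4ccc59b49cd19886d1a27cb56153e79931384e5e1747485d6ad0b535eb932b6ce5c3d908580f556f1a5295e2c601500de06082050e1848b

noncomputable def t4 : ℕ :=
  nat_lit 0xb772ed532530e2c6b56158b4f046acc98b08f3674a89324499f52bcb72e1abc76e9b407efa1c268f60b75d4a8d030ced5938951213c755162ea541a369d32b3e82faf4692c5e0c1420206005891a04607104c9111e4050e

noncomputable def t5 : ℕ :=
  nat_lit 0x165d60579018c800ce80770082360c9ec5549325349c8959cba6cccd3f7d69e2a594ae60857e0412d9536eeae425111f628706d184cfe48972edeb59e769568e8ece134041d1243470c10288114a3f193556e2d7bd18a54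

noncomputable def t6 : ℕ :=
  nat_lit 0x281a21e1aa8812c6630cda8991c640263bb2f7521a7cb59bc075ef59103a9019eca43d515ad62988af950f2d88c690d4ac0b16550aae92d84e10513847186056dc1397e857dba63c8ceb87da9d325a0ae92e0db6a22c040

noncomputable def t7 : ℕ :=
  nat_lit 0xc70d6266f52682550a415aef4fc60ed0830760cb35a48c9ba6314a5c309c68a45260444271708be444b396da8ab481a3d93c96d3f5382f4ea6fac55035859b253c62d98020db33842620ae4d281f419385f74e979481e0e

noncomputable def t8 : ℕ :=
  nat_lit 0x11631a182e71280ee861a28d319a536c631005633c4d4f4472d8da17d22ccb7a1ad0fba9d5540eadd225e452153e4d43109047148755c1860d2153ac14b0dc16d2a03a0e649bf3d490b8b9e325a29f9c6e0af572f284c7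

noncomputable def t9 : ℕ :=
  nat_lit 0x781669d5522a571c868ca3ec903d2e10b58876454150ba5a70f7d8dc4b19f03c278e446c4dd4952b56080d38adb3461fb01709bb82491a8f4c02f63aae7011a75849ba0bee8d20522cc473ed3b803293456663a2c4080b3

noncomputable def t10 : ℕ :=
  nat_lit 0x5c99ecea5694a5478ade00142a07c6b6eb35631893aedc1198f7db043160edcb2f21e19a1631cac0cf3e412a4a2a6a008674b07148ac1a9a96297b21121dc2364203499127a112a8a9272588b84f7aa8b2e906d13f047bf

noncomputable def t11 : ℕ :=
  nat_lit 0x88e2ec82755ea392ad31ea136756365d4ba196889dbc09bb08eccc2e28026320aa90e3817ee393858cc582fedc20c918842aa01b6208291f1f885d4351ac07c2f1daf1a9e5d1124acbe44200a5a75c5435ab1ab41d827ca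

noncomputable def t12 : ℕ :=
  nat_lit 0x480151546e9f4da550e914c4f1073edc832bf20cd004b6bb18eadb0430d6dd514f05834b1829c1f84f290225da2a69d02cb4187148ac2c1a7365a3336324cf117662f811215194f6712965b00d505ee43bcb9c21c706b3f

noncomputable def t13 : ℕ :=
  nat_lit 0x63e2257f254878156ce013040ad1d39a5c6b7f13757367c28ecdf045d22d0c74f120b8c549bbac42db6332af5224a2c083c59ea758465afae5f0820d505398a611c3458c6d34c7e851406d8312875c1a3975921541404c

noncomputable def t14 : ℕ :=
  nat_lit 0x21652588d7f0c0ac5c10c44ddfda36e555597249ca3ac984d8f89eafa7216a6987ca2ec0e8e2baeb1c16a095adb10d90060ea225d0628aa91aec70f164405230f19e3a944f12029ccc382127ce43718b40b1613e348c4de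

noncomputable def t15 : ℕ :=
  nat_lit 0xc339b3a3d541bf56544b86e7204d5c34a2690c0cdf456a3318e093bd0d2edd4994da3e0e4d1d7018c62466d45523422b4492610901742c16724546286167ad544af5102b300494bcbdd3af10328a3ec8e767ee1b5306125

noncomputable def t16 : ℕ :=
  nat_lit 0x5d6c3484adcfc18d624cfbd35c30178894bc0c4e05320959e8e470a18aedd0f2e584630e9804e12a8abd2605cd978bd698a0681b6a22ad1464754dc517ea8d4f4ea3eae11a90666e10e4110623bb0252ca50e63448feb22

noncomputable def t17 : ℕ :=
  nat_lit 0x8b393cfaf0042546dd85ab831d996835e179548393a02813f8ee71a924895d41f7551b9b62d9d74d9a8e6671c090d456d39259218c32ef908c45f593f200325c6af034c5263d0b0c0c43cb31561781021aabcaa80906131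

noncomputable def t18 : ℕ :=
  nat_lit 0x8600d9e1371f4fac095e04c0715958c97b72f1adb3a882bde8e75e14a2e0cc982d8592192214e814caa9268dcbfc29d69f96f47048ac2c21761da505496acdc7765101f102989818e03b45888d517dd2462b9a9a102a922

noncomputable def t19 : ℕ :=
  nat_lit 0xc35a8c190ac402717c520c1348ba68757c9b4ee335b89584f8e717033631bbfb041492005e9553d74ab62606719869d6a41e58a180d2a00e0f6c257a69910dc6a280bb27e62c0b158a112fa123557a59a64f19c47b53139

noncomputable def t20 : ℕ :=
  nat_lit 0xc230d997579ed4702afd0aee714808757c01f19db59f2935c8ec9e53a358f587e4149201661236e5098b2b380c1869d6a4b4faeac0c964a8b61da6006c06a2c6390362e6829899158aa965a95542ac49f38b99c410088cd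

noncomputable def t21 : ℕ :=
  nat_lit 0x28c418cbd3485b05047803a2a005a77d60d856295c333e4918f8a2c37825d5738bd50b761e3134cd8aa944c1cb3a29273e46f4327c2d4bae4ac9a012c7aabf1012a18578db9fa03ab1bc049c59892255db48659a513102d

noncomputable def t22 : ℕ :=
  nat_lit 0x2d1938fa57c44cb81c64e8044e99a73579394b6f020a2648a8ee628b893ed5538b1543770588d2ad9321608b1327c900512ef5a0350dd1ae56cc301287abbf20125984a7dae3703a45db24a860795a11b74a6a1ac36d058

noncomputable def t23 : ℕ :=
  nat_lit 0x62cd48cbd7cea784b47ba1aac9bc7735c3e690e94a8931b25487c74b9d6cc9b3941554a7619512d24a4fc4e7195107ad10acf70a1b88a447149941a8cbaebf808209222dd835aa60bacb316be0008c32f0a24381040c20b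

noncomputable def t24 : ℕ :=
  nat_lit 0x62cd48cbd7cea784b47ba1aac9bc7735c3e690e94a8931b25487c74b9d6cc9b3941554a7619512d24a4fc4e7195107ad10acf70a1b88a447149941a8cbaebf808209222dd835aa60bacb316be0008c32f0a24381040c20b

noncomputable def t25 : ℕ :=
  nat_lit 0xb60d8e09b7ac1460facd0169619b774a24bc442fa2ba55b2b25092405e9abba54f0e1da7453d413267b2b80a5210f15c41acfcfc66ea241814a71a0983ad3d5a689ae22d30860079185191e70f585dc99aacc6846a58088

noncomputable def t26 : ℕ :=
  nat_lit 0x433cae09b7a5b3c676cdd82ac3b87749d586a36f9fa0c5b251ca1751ab196445568e3ea7004ad4f241960cd30db8660d8b90fd126730ab4523318205249e3da868424140a55c331cbce187828fae8db805e50804c4c8093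

noncomputable def t27 : ℕ :=
  nat_lit 0x60d6560bf7a80642f2ccb59217ada74a05d06166a9b1864d63c98c3a0ea05d17e75eda7711b9b72db1022858ae3aa92a574aaa64213195ae2e7eda0451df1c706804546c98b3103850d1e4880c824539387727049ed0099

noncomputable def t28 : ℕ :=
  nat_lit 0x60d6560bf7a80642f2ccb59217ada74a05d06166a9b1864d63c98c3a0ea05d17e75eda7711b9b72db1022858ae3aa92a574aaa64213195ae2e7eda0451df1c706804546c98b3103850d1e4880c824539387727049ed0099

noncomputable def t29 : ℕ :=
  nat_lit 0xc70f09e4838a9379323d43358058924a8a628bd75a96a29c8b2e0621c509bbe7b01fdb76a43c682d8590129cd9f9d356854aa9d4a65415df468a21a6180e9c6282b8f2e0eecfb9488b431783456a2998272356042c200d5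

noncomputable def t30 : ℕ :=
  nat_lit 0xc70f09e4838a9379323d43358058924a8a628bd75a96a29c8b2e0621c509bbe7b01fdb76a43c682d8590129cd9f9d356854aa9d4a65415df468a21a6180e9c6282b8f2e0eecfb9488b431783456a2998272356042c200d5

noncomputable def t31 : ℕ :=
  nat_lit 0x44de1599b49c3453130545f59658a778e9b4e66fa15aa24c83c54c5a83861be7f01eba76f1addc4d9cdc2c5131fae925d556aadca9ec52ae478e620611e89ca06a7452ece3322038893184840f0e2818d16080041218085

noncomputable def t32 : ℕ :=
  nat_lit 0x44de1599b49c3453130545f59658a778e9b4e66fa15aa24c83c54c5a83861be7f01eba76f1addc4d9cdc2c5131fae925d556aadca9ec52ae478e620611e89ca06a7452ece3322038893184840f0e2818d16080041218085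

noncomputable def t33 : ℕ :=
  nat_lit 0x801ac0e8b1eeb9b76896113213c2a678f9b58ccc2150b64d6bc56fc411506e37e89eba6cf2e3804eda359c1589d063254f56714cbaa9928f46fa61aa34982aa080b4d2e66300176488749820ae262abc321899045edc094

noncomputable def t34 : ℕ :=
  nat_lit 0x801ac0e8b1eeb9b76896113213c2a678f9b58ccc2150b64d6bc56fc411506e37e89eba6cf2e3804eda359c1589d063254f56714cbaa9928f46fa61aa34982aa080b4d2e66300176488749820ae262abc321899045edc094

noncomputable def t35 : ℕ :=
  nat_lit 0xc70c2be4c38aaf1532d45a106a87925e8a4ae4ee4796e0fadb2a103fc4b009ec1110aa44a6c25ad48c324e259d32c0e4618d6dd0d206434f46ee03960f489c6830a0f253445f5cd8eb117795d46af0d82352a1049d75b80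

noncomputable def t36 : ℕ :=
  nat_lit 0xc70d63f283814d55663b99edea8c60da8d7480cb5a961a9ad98aec3ec416b218980f0a44a504a024859b62d081fb84e4421af1d46677dc5046edec5930089c121d335a4bee999c5cea7317941a1f6d915a8970845c22080

noncomputable def t37 : ℕ :=
  nat_lit 0xc78a1443378416791e6204806a9a3e4a8cfa0b97d99695848b435ce08785bbd7cfe05b76ea286825c789206d3c99b3968550294ab62525574688f58a684e9c6552f8b6d7012607488b36a3a30730a9a5d18e16042656b00

noncomputable def t38 : ℕ :=
  nat_lit 0xc78a1443378416791e6204806a9a3e4a8cfa0b97d99695848b435ce08785bbd7cfe05b76ea286825c789206d3c99b3968550294ab62525574688f58a684e9c6552f8b6d7012607488b36a3a30730a9a5d18e16042656b00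

noncomputable def t39 : ℕ :=
  nat_lit 0x6e5eba98fa94f0b657609a68be16056da8772469f584cc2271194a788c9e2ac4cea23b961fb597563c2bcd10065f695b72c7881d878ce24824408ebf02814141c5ce6cb6ea5082244532c6b9b1e31082ad4e8ca4c48480

noncomputable def t40 : ℕ :=
  nat_lit 0x4cfea583eccabba2bad3a1a1db3d0d7429db862bdf6e127116b188434ed119e737b0c19f83147585dc327d087535f64b4b5b022d0880ca2479204b198a942519587c9aaae91c9409129168268a326c09234c2d93c621080

noncomputable def t41 : ℕ :=
  nat_lit 0x8e41a601ee4b9d14101b1221411e38d90ad576510636e0ca417371581cf00dbbcceb0c9f0dfb0122172c534624aae94b6176ddf5c4f31a8da919920b48d418352c9d32542adf93757c528ea442c7015528299e9f9c54380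

noncomputable def t42 : ℕ :=
  nat_lit 0x171566028fc928807e7445ef4aa33021916760e32634c098dc688831743038a72a42c2563af4a55492e17c86c3822d68349e2599d4e197483d368a00952e53966e49cbab410f325ebe2bf0d23c8f6dbb60332b5ab356080

noncomputable def t43 : ℕ :=
  nat_lit 0xb4ceda0071494f0e61c588c30acb8e20f285b29213643d2d70921f441c25a012179e2aa10f114ad4930a73518df4532e402cf5fbbc06431134351a7386d58ba285ae3ba741595c5e6a99ce97b73f042b6c3261536155600

noncomputable def t44 : ℕ :=
  nat_lit 0x30e43a760f8badc38ca5890dc13208d8dbbb83c8aea938346a75ef44741452c531553d50399d91820cc1c52d8831a4e7813af085040d64cd42bcd601744b1f3c8d35a24aeab8997523f950d15638d2152b6944c7be56000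

noncomputable def t45 : ℕ :=
  nat_lit 0xa6f0d4a6c456063241fa848bd139c6612a976598a37b80a9316c1a322ee0480b27e5e29e12a425d7d5c555126c6acdc3dd6ace858100e8d799547057c74f1b3986dd2873a48c9036f5a02849148e0a0a75b7103a4c287c0

noncomputable def t46 : ℕ :=
  nat_lit 0xa6f0d4a6c456063241fa848bd139c6612a976598a37b80a9316c1a322ee0480b27e5e29e12a425d7d5c555126c6acdc3dd6ace858100e8d799547057c74f1b3986dd2873a48c9036f5a02849148e0a0a75b7103a4c287c0

noncomputable def t47 : ℕ :=
  nat_lit 0x805dddd32964016ca2b10863a6466e7c8b834f91b1ab0b0d00b1292078a41821a619db741e3e0195e7359ac15397f8c24a8b2c9c1b426e5f44f578b2c3ef21245713448ad6ae5964f080c6ce0aa802c26934594f4e50ed3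

noncomputable def t48 : ℕ :=
  nat_lit 0x5c664b84877025789c9096d6658b011434808d59d554b03dd73515c6af294635f39143c2ed850a76da187a166324250a932cc615a0622f179a8ce44a44408d1d3efbec47cd02526e8d83d59fb74031310743e3ad8302e0a

noncomputable def t49 : ℕ :=
  nat_lit 0x88498551cba640a17a2c9c148c4fa28ac2a4e709b47c919311469195bb7ee208686148731c64b22e06bf534dab7af1a0979b38ca53aeb1d65929b2d7a20a5b2d68dafb2cd454c4ac8614c7de1e083c3bb0a24003022c106

noncomputable def t50 : ℕ :=
  nat_lit 0x4a4c857856a1c13868bd15e93014655a9dba8a95dd708ac3c74bace37ef56dc692cf8d1099db660858cc2d26461317902325419959e3d44a8b49f401c313ce33194d5586e21d9b89b91157dab9051c31e120038b0804185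

noncomputable def t51 : ℕ :=
  nat_lit 0x273e98e8e583ba3356eaf5b49b4a68b92c69af7102787e5b32e915c4913890c52fa1494ea1d832b6a0e18626f5b215904c3a2d15c72507d06efc0d7a8ca285558d840bec518434d7058a24469836e0f21b27032614b0400

noncomputable def t52 : ℕ :=
  nat_lit 0x3535a112ec6ca860d839040bad1fc3587a4c50a7ac9351e43bf40ec466f5a9844fa74b737138a47549539078b19b14ab828a6dfba76128c62aa442d9425586164ed8c8f79ba6c70472f4b806c0540d901ba14e147131080

noncomputable def t53 : ℕ :=
  nat_lit 0x4d14cb93f0caa0b325933b81e3bd476dac89a49593a8da7279760eba525e51a8d3e8c15ea1884a50aa8bc0d1f9ebd86205c5587574485e3b604162d1ea9f38ba20d814b404980d7cb11b4906836f3171ca650602c700500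

noncomputable def t54 : ℕ :=
  nat_lit 0x6ad73324bcdd7a43edc650a9acb0edde967d2678a8f06d50aaff12dbcd9e026276a25491301c172a8b2b165ca376250219a7a1ba918cb8ea69d35cbec228833030948446e8699388223ea46856804a9aac4d6381810c00

noncomputable def t55 : ℕ :=
  nat_lit 0xb2c68a6845ee5d123318734edc9fa0cb0d390b45c454614cf2ae1e4c437cf1c4e655c5ac42ac6501420f2d4b112145270d7b2e4b77f80023484e191a904140075df4abcce3ae44c103a681965a9abed81b039b353674425

noncomputable def t56 : ℕ :=
  nat_lit 0x7e052c390a2eb8b7688d8ae8550812ad3309e5d4c52d296df327262cc03a0c0c60c6b568d9cdc5ee9e3b66118d06eba4c4a5566de2b47087180ab1b3e78d4640763989d2d390264ac940109ea3142e9d448182b27c8b10f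

noncomputable def t57 : ℕ :=
  nat_lit 0x2c0abb1b53ab0f381c732327499b10618037678a59150e4a84f6e80b7910fd5b98d04a134495302010a69a88d3aa4d60b66ea5291205d53d47617245b7aec60b830af68f8ab380324477f325b984367b8be1aa628a115ac

noncomputable def t58 : ℕ :=
  nat_lit 0x6cc0619bd120d40a62cd872b54a4a680b17b78880a4500aa835305df8f089b174ed5a500117086ecb08f3f8e54e5f5d3c83734a2cad2d1dc789a48d256b0457b0ce9e02090d5bacc8aa063a9353918487701a7bf694683e

noncomputable def t59 : ℕ :=
  nat_lit 0xa735c56155c7adc672d159290b22b05e92e5351c8d7b4593cbe66533828260e3f85a3e4375ac82220f3f46621dc3b6481b2538d1454d9455589d34097892d0891a7de8b82daf60ea39356318c202dc3bb000820b0a24186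

noncomputable def t60 : ℕ :=
  nat_lit 0x2d057c5667adb59298d4a226ce99b4fc1407b7d9309e18e10a36045c84a18d5165424e755c0e0411c3c84ed0614988e3592f0d10378de95e7291dd35ca4018158c6dda8b2b6171890cd6d2d5920afa21312b528e543cfd0

noncomputable def t61 : ℕ :=
  nat_lit 0xb329add32b93c17858abe0092a9a85342b98b52bdb40511dfc67cbcc693f00e14b16da760d407a7864ba888585c24460528d2f10b6295c1c104e1818e8af2a6475eb604cd5894c1270f1b2280620bc6183ca5fd136deb58

noncomputable def B : List ℕ :=
  [nat_lit 71, nat_lit 45, nat_lit 55, nat_lit 40]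

noncomputable def E0 : List ℕ :=
  [t0, t1, t2, t3, t4]

noncomputable def E : List ℕ :=
  [t5, t6, t7, t8, t9, t10, t11, t12, t13, t14, t15, t16, t17, t18, t19, t20]

noncomputable def sl0 : List ℕ :=
  [t5, t6, t7, t8, t9, t10, t11, t12, t13, t14, t15, t16, t17, t18, t19, t20]

noncomputable def ul0 : List ℕ :=
  [t21, t22, t23, t24, t25, t26, t27, t28, t29, t30, t31, t32, t33, t34, t35, t36, t37, t38, t39, t40, t41, t42, t43, t44, t45, t46, t47, t48, t49, t50, t51, t52, t53, t54, t55, t56, t57, t58, t59, t60, t61]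

noncomputable def g2_1_8 : List (ℕ × ℕ × ℕ) :=
  [(nat_lit 2, t21, t22), (nat_lit 2, t23, t24), (nat_lit 2, t25, t26), (nat_lit 2, t27, t28), (nat_lit 2, t29, t30), (nat_lit 2, t31, t32), (nat_lit 2, t33, t34)]

noncomputable def g2E : List ℕ :=
  [t21, t23, t25, t27, t29, t31, t33]

noncomputable def g3_1_6 : List (ℕ × ℕ × ℕ) :=
  [(nat_lit 2, t35, t36), (nat_lit 2, t37, t38), (nat_lit 3, t39, t40), (nat_lit 3, t41, t42), (nat_lit 3, t43, t44)]

noncomputable def g3E : List ℕ :=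
  [t35, t37, t39, t41, t43]

noncomputable def g5_0_3 : List (ℕ × ℕ × ℕ) :=
  [(nat_lit 2, t45, t46), (nat_lit 5, t47, t48), (nat_lit 5, t49, t50)]

noncomputable def g5E : List ℕ :=
  [t45, t47, t49]

noncomputable def g7_1_3 : List (ℕ × ℕ × ℕ) :=
  [(nat_lit 3, t51, t52), (nat_lit 7, t53, t54)]

noncomputable def g7E : List ℕ :=
  [t51, t53]

noncomputable def wp0 : List (List ℕ × List ℕ) :=
  Fx82.wl (nat_lit 31) (nat_lit 0x1965a00000001000194510000001a0001345100000019000114510000001300019699000000020000265a000000190000b45100000002000134d10000000300000451000000030000228a00000019000132ca000000030000065a00000011000000d3000000110001945900000002000114d1000000030001a28b000000020000b45a0000001a000194ca000000010001a28b00000001000002cb0000001a00000019000000110000068a0000000b0000168a000000190000000a000000030000345a00000001000022ca000000190000065900000002000000590000001a000016990000001a00000019000000020000001300000001)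

noncomputable def wp1 : List (List ℕ × List ℕ) :=
  Fx82.wl (nat_lit 10) (nat_lit 0x13000000110000010b000000010000001a000000010000002200000021000000230000002100000013000000190000000b0000000a000000ca0000000100000019000000020000001a00000019)

noncomputable def g2_4_8 : List (ℕ × ℕ × ℕ) :=
  [(nat_lit 2, t27, t28), (nat_lit 2, t29, t30), (nat_lit 2, t31, t32), (nat_lit 2, t33, t34)]

noncomputable def g2_1_4 : List (ℕ × ℕ × ℕ) :=
  [(nat_lit 2, t21, t22), (nat_lit 2, t23, t24), (nat_lit 2, t25, t26)]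

noncomputable def wp2 : List (List ℕ × List ℕ) :=
  Fx82.wl (nat_lit 5) (nat_lit 0x245128a000000090028a28a000000020025148a000000020045145100000001000002510000000a)

noncomputable def g7_1_2 : List (ℕ × ℕ × ℕ) :=
  [(nat_lit 3, t51, t52)]

noncomputable def g7_2_3 : List (ℕ × ℕ × ℕ) :=
  [(nat_lit 7, t53, t54)]

noncomputable def wp3 : List (List ℕ × List ℕ) :=
  Fx82.wl (nat_lit 6) (nat_lit 0xa200000009000000e30000000900000012000000510000008a00000009000000d200000001000000cb00000009)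

noncomputable def wp4 : List (List ℕ × List ℕ) :=
  Fx82.wl (nat_lit 13) (nat_lit 0x25244a0000000a00001251000024490001225100000009000002d9000000190000000b000000030000948a0000001200049452000000020000b6590000000b00009452000000010000025100000092000000120000001100000489000000110000009100000001)

noncomputable def wp5 : List (List ℕ × List ℕ) :=
  Fx82.wl (nat_lit 15) (nat_lit 0x944a0000000900489449000000120244944a00000002004894910000000a000914490000000200000252000000010009149100000002014514510000000200000009000000110008a28a0000000100000012000000110005145100000002000000910000001200002291000000020000049100000002)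

noncomputable def g2_2_8 : List (ℕ × ℕ × ℕ) :=
  [(nat_lit 2, t23, t24), (nat_lit 2, t25, t26), (nat_lit 2, t27, t28), (nat_lit 2, t29, t30), (nat_lit 2, t31, t32), (nat_lit 2, t33, t34)]

noncomputable def g2_2_5 : List (ℕ × ℕ × ℕ) :=
  [(nat_lit 2, t23, t24), (nat_lit 2, t25, t26), (nat_lit 2, t27, t28)]

noncomputable def g2_5_8 : List (ℕ × ℕ × ℕ) :=
  [(nat_lit 2, t29, t30), (nat_lit 2, t31, t32), (nat_lit 2, t33, t34)]

noncomputable def g2_1_2 : List (ℕ × ℕ × ℕ) :=
  [(nat_lit 2, t21, t22)]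

noncomputable def wp6 : List (List ℕ × List ℕ) :=
  Fx82.wl (nat_lit 8) (nat_lit 0x28a0000009200011251000000090000028a00000001000914910000000200000489000000090000128900000002000000120000000a0000029100000012)

noncomputable def g5_0_2 : List (ℕ × ℕ × ℕ) :=
  [(nat_lit 2, t45, t46), (nat_lit 5, t47, t48)]

noncomputable def g5_2_3 : List (ℕ × ℕ × ℕ) :=
  [(nat_lit 5, t49, t50)]

noncomputable def r2 : List ℕ :=
  [t55, t56]

noncomputable def fz2 : List (ℕ × ℕ × ℕ × ℕ) :=
  [(nat_lit 2, nat_lit 0, nat_lit 1, nat_lit 0x4010f070d1010), (nat_lit 5, nat_lit 0, nat_lit 1, nat_lit 0x50509070c0f10), (nat_lit 16, nat_lit 1, nat_lit 1, nat_lit 0x5050607060d1010), (nat_lit 81, nat_lit 0, nat_lit 1, nat_lit 0xb050308070d0d0d10), (nat_lit 8, nat_lit 1, nat_lit 1, nat_lit 0xd030a070e0f0e), (nat_lit 32, nat_lit 1, nat_lit 1, nat_lit 0x502010d090f1010)]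

noncomputable def cl2 : List ℕ :=
  [nat_lit 2, nat_lit 5, nat_lit 16, nat_lit 81, nat_lit 8, nat_lit 32]

noncomputable def g2_1_1 : List (ℕ × ℕ × ℕ) :=
  []

noncomputable def r3 : List ℕ :=
  [t57, t58]

noncomputable def g3_3_6 : List (ℕ × ℕ × ℕ) :=
  [(nat_lit 3, t39, t40), (nat_lit 3, t41, t42), (nat_lit 3, t43, t44)]

noncomputable def fz3 : List (ℕ × ℕ × ℕ × ℕ) :=
  [(nat_lit 1, nat_lit 0, nat_lit 1, nat_lit 0xc010a070e100d10), (nat_lit 2, nat_lit 0, nat_lit 1, nat_lit 0x206030806060d0c1010), (nat_lit 3, nat_lit 0, nat_lit 1, nat_lit 0xe0302070606100f1010), (nat_lit 4, nat_lit 0, nat_lit 1, nat_lit 0x6040610060e0f0e1010), (nat_lit 5, nat_lit 0, nat_lit 1, nat_lit 0x804060a060c0f), (nat_lit 6, nat_lit 0, nat_lit 1, nat_lit 0xb07010607070e0d), (nat_lit 7, nat_lit 0, nat_lit 1, nat_lit 0xb05030a060e1010), (nat_lit 8, nat_lit 0, nat_lit 1, nat_lit 0x102020a0b0c0d1010), (nat_lit 12, nat_lit 1, nat_lit 1, nat_lit 0xd020f070e100d1010), (nat_lit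 24, nat_lit 1, nat_lit 1, nat_lit 0x803010e080c0f1010)]

noncomputable def cl3 : List ℕ :=
  [nat_lit 1, nat_lit 2, nat_lit 3, nat_lit 4, nat_lit 5, nat_lit 6, nat_lit 7, nat_lit 8, nat_lit 12, nat_lit 24]

noncomputable def g3_3_3 : List (ℕ × ℕ × ℕ) :=
  []

noncomputable def g3_1_3 : List (ℕ × ℕ × ℕ) :=
  [(nat_lit 2, t35, t36), (nat_lit 2, t37, t38)]

noncomputable def r5 : List ℕ :=
  [t59, t60]

noncomputable def g5_1_3 : List (ℕ × ℕ × ℕ) :=
  [(nat_lit 5, t47, t48), (nat_lit 5, t49, t50)]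

noncomputable def fz5 : List (ℕ × ℕ × ℕ × ℕ) :=
  [(nat_lit 1, nat_lit 0, nat_lit 1, nat_lit 0x20b0807100d0c10), (nat_lit 2, nat_lit 0, nat_lit 3, nat_lit 0x6040806060c0c0c1010), (nat_lit 3, nat_lit 0, nat_lit 3, nat_lit 0x6040d07060c0f1010), (nat_lit 4, nat_lit 0, nat_lit 1, nat_lit 0x3040d080d0c), (nat_lit 5, nat_lit 0, nat_lit 1, nat_lit 0x9020e07060c0c0c), (nat_lit 6, nat_lit 1, nat_lit 1, nat_lit 0xc0108100f10), (nat_lit 7, nat_lit 1, nat_lit 3, nat_lit 0x602010a070c0d10), (nat_lit 8, nat_lit 1, nat_lit 1, nat_lit 0x1003090c), (nat_lit 9, nat_lit 0, nat_lit 1, nat_lit 0x4030106080e0e0d1010), (nat_lit 10, nat_lit 0, nat_lit 3, nat_lit 0x50402080c070f0d0c10), (nat_lit 11, nat_lit 1, nat_lit 3, nat_lit 0xc0c01080f0c10), (nat_lit 12, nat_lit 1, nat_lit 3, nat_lit 0xa02010c080e0f), (nat_lit 13, nat_lit 0, nat_lit 3, nat_lit 0x1040b09060e0f), (nat_lit 14, nat_lit 1, nat_lit 1, nat_lit 0x204020609060d0c0c10), (nat_lit 15, nat_lit 0, nat_lit 3, nat_lit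 0x60801060f06), (nat_lit 16, nat_lit 1, nat_lit 1, nat_lit 0x405020b0e060e0e0d10), (nat_lit 17, nat_lit 0, nat_lit 3, nat_lit 0x602010609060c0f0c10), (nat_lit 18, nat_lit 1, nat_lit 3, nat_lit 0xa030708100d0c10), (nat_lit 19, nat_lit 1, nat_lit 3, nat_lit 0xf02010609060e0e1010), (nat_lit 20, nat_lit 0, nat_lit 1, nat_lit 0x80209060e10), (nat_lit 21, nat_lit 0, nat_lit 1, nat_lit 0xe03020a10060f10), (nat_lit 22, nat_lit 1, nat_lit 1, nat_lit 0xf030206070d0c1010), (nat_lit 23, nat_lit 1, nat_lit 3, nat_lit 0xd010e0a060f0c10), (nat_lit 24, nat_lit 1, nat_lit 1, nat_lit 0x8010d090e)]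

noncomputable def cl5 : List ℕ :=
  [nat_lit 1, nat_lit 2, nat_lit 3, nat_lit 4, nat_lit 5, nat_lit 6, nat_lit 7, nat_lit 8, nat_lit 9, nat_lit 10, nat_lit 11, nat_lit 12, nat_lit 13, nat_lit 14, nat_lit 15, nat_lit 16, nat_lit 17, nat_lit 18, nat_lit 19, nat_lit 20, nat_lit 21, nat_lit 22, nat_lit 23, nat_lit 24]

noncomputable def g5_1_1 : List (ℕ × ℕ × ℕ) :=
  []

noncomputable def g5_0_1 : List (ℕ × ℕ × ℕ) :=
  [(nat_lit 2, t45, t46)]

noncomputable def r7 : List ℕ :=
  [t61]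

end Cfsg.Agent.SB.SporF.J2
end

-- part: SB/SporF/J2/Chk0
section
/-! S5765, row of J2: kernel checks (generated by notes/SB/spor_tools, helper63) -/

set_option autoImplicit false

namespace Cfsg.Agent.SB.SporF.J2

open Cfsg.Agent.SB Cfsg.Agent.SB.Spor

set_option Elab.async false

noncomputable def d21 : ℕ → ℕ :=
  (rd (nat_lit 4) (nat_lit 15) [nat_lit 0x4553343124327841522524315466699699ab9a6a6b6aa6a69b6b012257174372281183221122887151435325c443814112713327d51133455d372c1751823343524410])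

theorem c30 : chkS' lk mk (nsC lk B wp4) g3_1_6 t59 1 0 d21 = true := by
  rewrite [show nsC lk = Fx82.nsF (nat_lit 7) (nat_lit 127) from Fx82.nsF_eq _ _,
    show mk = Fx82.hor (nat_lit 7) (nat_lit 127) (nat_lit 100) from Fx82.pmk_eq _ _ _ _ (by decide) (by decide)]
  decide +kernel

noncomputable def d13 : ℕ → ℕ :=
  (rd (nat_lit 5) (nat_lit 31) [nat_lit 0x3002100409c1340920ccca9f802163f230282e212a20615a11d824818320d1e87d40be4940bc460ac11085c808423578052acc542cb73c0c0085817b3a10f6432803b90c2489076334220148c31381935e2705220602620e07b1c430f0ce302f332cb5109a8124a212c4068d7b984241c6c30a9e34840529692455c78a748a094d81c00])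

theorem c18 : chkS' lk mk (nsC lk B wp0) g7_1_3 t55 1 0 d13 = true := by
  rewrite [show nsC lk = Fx82.nsF (nat_lit 7) (nat_lit 127) from Fx82.nsF_eq _ _,
    show mk = Fx82.hor (nat_lit 7) (nat_lit 127) (nat_lit 100) from Fx82.pmk_eq _ _ _ _ (by decide) (by decide)]
  decide +kernel

noncomputable def d19 : ℕ → ℕ :=
  (rd (nat_lit 3) (nat_lit 7) [nat_lit 0x2424128484a64825225025a25210948969904a44b6ca109689b6ed4365220948949948b1094894914cb44425a25a45229144129929edaeba829148b2c0])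

theorem c27 : chkS' lk mk (nsC lk B wp3) g7_1_3 t58 2 0 d19 = true := by
  rewrite [show nsC lk = Fx82.nsF (nat_lit 7) (nat_lit 127) from Fx82.nsF_eq _ _,
    show mk = Fx82.hor (nat_lit 7) (nat_lit 127) (nat_lit 100) from Fx82.pmk_eq _ _ _ _ (by decide) (by decide)]
  decide +kernel

noncomputable def d15 : ℕ → ℕ :=
  (rd (nat_lit 4) (nat_lit 15) [nat_lit 0x808205840115104252101115410524a15101151323104255848210111132667697054102111766601353130211142313243021153131776796970134402111324142344300])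

theorem c21 : chkS' lk mk (nsC lk B wp1) g2_4_8 t56 2 0 d15 = true := by
  rewrite [show nsC lk = Fx82.nsF (nat_lit 7) (nat_lit 127) from Fx82.nsF_eq _ _,
    show mk = Fx82.hor (nat_lit 7) (nat_lit 127) (nat_lit 100) from Fx82.pmk_eq _ _ _ _ (by decide) (by decide)]
  decide +kernel

noncomputable def d3 : List (ℕ × ℕ × ℕ) :=
  [(nat_lit 0, t21, nat_lit 0xf070d0d1010), (nat_lit 1, t22, nat_lit 0), (nat_lit 0, t23, nat_lit 0xe040d0b08111212), (nat_lit 1, t24, nat_lit 0), (nat_lit 0, t25, nat_lit 0xa06050c0b121314), (nat_lit 1, t26, nat_lit 0), (nat_lit 0, t27, nat_lit 0xb0e07140d0c15131216), (nat_lit 1, t28, nat_lit 0), (nat_lit 0, t29, nat_lit 0xd0c091110181714), (nat_lit 1, t30, nat_lit 0), (nat_lit 0, t31, nat_lit 0xf120b111319181a1a), (nat_lit 1, t32, nat_lit 0), (nat_lit 0, t33, nat_lit 0xd0e151b1a), (nat_lit 1, t34, nat_lit 0), (nat_lit 0, t35, nat_lit 0x13120f1e161c1d1c), (nat_lit 1, t36, nat_lit 0), (nat_lit 0, t37, nat_lit 0x121419181e20),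 (nat_lit 1, t38, nat_lit 0), (nat_lit 0, t39, nat_lit 0x1f151822181e211e), (nat_lit 1, t40, nat_lit 0), (nat_lit 0, t41, nat_lit 0x1c1b151a241a22222124), (nat_lit 1, t42, nat_lit 0), (nat_lit 0, t43, nat_lit 0x2318211c1d22222226), (nat_lit 1, t44, nat_lit 0), (nat_lit 0, t45, nat_lit 0x201f1922232827), (nat_lit 1, t46, nat_lit 0), (nat_lit 0, t47, nat_lit 0x221e2521202828272a), (nat_lit 1, t48, nat_lit 0), (nat_lit 0, t49, nat_lit 0x271f28242b28), (nat_lit 1, t50, nat_lit 0), (nat_lit 0, t51, nat_lit 0x22202b272a2e), (nat_lit 1, t52, nat_lit 0), (nat_lit 0, t53, nat_lit 0x27252329282c2d2c), (nat_lit 1, t54, nat_lit 0), (nat_lit 0, t55, nat_lit 0x27252c28302f), (nat_lit 0, t56, nat_lit 0x2b2624332b32313333), (nat_lit 0, t57, nat_lit 0x312e252e342a3334), (nat_lit 0, t58, nat_lit 0x2f27312d3131313535), (nat_lit 0, t59, nat_lit 0x2f2a272f2e3333), (nat_lit 0, t60, nat_lit 0x2929362f3433), (nat_lit 0, t61, nat_lit 0x302a2f2e3837343838)]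

theorem c3 : slp lk ver d3 E = true := by
  decide +kernel

noncomputable def d23 : ℕ → ℕ :=
  (rd (nat_lit 4) (nat_lit 15) [nat_lit 0x8c58a2111b85f389279712636ec81a7a6262b6564755a35344399474431d1120])

theorem c33 : chkP' lk mk (nsC lk B wp5) g2_2_5 g2_5_8 t60 0 d23 = true := by
  rewrite [show nsC lk = Fx82.nsF (nat_lit 7) (nat_lit 127) from Fx82.nsF_eq _ _,
    show mk = Fx82.hor (nat_lit 7) (nat_lit 127) (nat_lit 100) from Fx82.pmk_eq _ _ _ _ (by decide) (by decide)]
  decide +kernel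

noncomputable def d25 : ℕ → ℕ :=
  (rd (nat_lit 4) (nat_lit 15) [nat_lit 0x17162123211514463145132327114436731144851186235120])

theorem c36 : chkP' lk mk (nsC lk B wp6) g5_0_2 g5_2_3 t61 0 d25 = true := by
  rewrite [show nsC lk = Fx82.nsF (nat_lit 7) (nat_lit 127) from Fx82.nsF_eq _ _,
    show mk = Fx82.hor (nat_lit 7) (nat_lit 127) (nat_lit 100) from Fx82.pmk_eq _ _ _ _ (by decide) (by decide)]
  decide +kernel

noncomputable def d17 : ℕ → ℕ :=
  (rd (nat_lit 3) (nat_lit 7) [nat_lit 0x150924a6a56614e8])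

theorem c24 : chkP' lk mk (nsC lk B wp2) g7_1_2 g7_2_3 t57 0 d17 = true := by
  rewrite [show nsC lk = Fx82.nsF (nat_lit 7) (nat_lit 127) from Fx82.nsF_eq _ _,
    show mk = Fx82.hor (nat_lit 7) (nat_lit 127) (nat_lit 100) from Fx82.pmk_eq _ _ _ _ (by decide) (by decide)]
  decide +kernel

noncomputable def d1 : List (ℕ × ℕ × ℕ) :=
  [(nat_lit 0, t5, nat_lit 0x20504010301050101), (nat_lit 0, t6, nat_lit 0x10602010405050405), (nat_lit 0, t7, nat_lit 0x3070101), (nat_lit 0, t8, nat_lit 0x3080208), (nat_lit 0, t9, nat_lit 0x9080403), (nat_lit 0x30402, t10, nat_lit 0x10202), (nat_lit 0x30304, t11, nat_lit 0x20403), (nat_lit 0x10304, t12, nat_lit 0x30204), (nat_lit 1030, t13, nat_lit 0x20404), (nat_lit 0, t14, nat_lit 0x40202), (nat_lit 0x40709, t15, nat_lit 0x70107), (nat_lit 4, t16, nat_lit 0x30606), (nat_lit 1794, t17, nat_lit 0x70507), (nat_lit 263, t18, nat_lit 0x70304), (nat_lit 0x30508, t19, nat_lit 0x70606), (nat_lit 259, t20, nat_lit 0x10204)]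

theorem c1 : slp lk ver d1 E0 = true := by
  decide +kernel

noncomputable def d26 : ℕ → ℕ :=
  (rd (nat_lit 17) (nat_lit 0x1ffff) [nat_lit 0x6801c000c8007100320009700778030001460082004080200014a018100c200600034a01230080804240288003400020009400200040000080000002002000104004000208010001410040000])

theorem c38 : covChk lk B 2 g2_1_1 g2_1_8 g2_1_8 cl2 d26 0 = true := by
  decide +kernel

theorem c41 : fuse lk B E g5_1_3 r5 fz5 = true := by
  decide +kernel

noncomputable def d24 : List (ℕ × List ℕ) :=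
  [(nat_lit 14, [nat_lit 0xa03080810, nat_lit 0xb0902090e]), (nat_lit 0, [nat_lit 0x703020609060f10])]

theorem c35 : Nat.ble 42 (chain lk E 100 (okN lk B t61 7) d24 []) = true := by
  decide +kernel

noncomputable def d28 : ℕ → ℕ :=
  (rd (nat_lit 5) (nat_lit 31) [nat_lit 0x1793503b45871560b3068f5141372480])

theorem c42 : covChk lk B 5 g5_1_1 g5_1_3 g5_1_3 cl5 d28 0 = true := by
  decide +kernel

noncomputable def d22 : List (ℕ × List ℕ) :=
  [(nat_lit 0, [nat_lit 0x10a070c0e10, nat_lit 0x2040c0d0c1010]), (nat_lit 1, [nat_lit 0x6030607060d0e])]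

theorem c32 : Nat.ble 100 (chain lk E 100 (okN lk B t60 5) d22 []) = true := by
  decide +kernel

noncomputable def d27 : ℕ → ℕ :=
  (rd (nat_lit 14) (nat_lit 0x3fff) [nat_lit 0xc019010007301e4010010404101c0019000c03001a4063000003100c40600000092008005201400800084021014000])

theorem c40 : covChk lk B 3 g3_3_3 g3_3_6 g3_3_6 cl3 d27 0 = true := by
  decide +kernel

noncomputable def d18 : List (ℕ × List ℕ) :=
  [(nat_lit 6, [nat_lit 0xd0a010d090d0c10]), (nat_lit 12, [nat_lit 0x1060e0d10, nat_lit 0x407080d10]), (nat_lit 0, [nat_lit 3341, nat_lit 0x308070d])]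

theorem c26 : Nat.ble 2160 (chain lk E 100 (okN lk B t58 3) d18 []) = true := by
  decide +kernel

noncomputable def d14 : List (ℕ × List ℕ) :=
  [(nat_lit 5, [nat_lit 0x4050b0e0e10, nat_lit 0xb030907070c0e]), (nat_lit 2, [nat_lit 0xb0607, nat_lit 0xa0406080d0c]), (nat_lit 0, [nat_lit 0x601090d0e10])]

theorem c20 : Nat.ble 1920 (chain lk E 100 (okN lk B t56 2) d14 []) = true := by
  decide +kernel

noncomputable def d12 : List (ℕ × List ℕ) :=
  [(nat_lit 10, [nat_lit 0xf05060d0c, nat_lit 0x50d070e0d0c]), (nat_lit 3, [nat_lit 0x703060a060c0f10, nat_lit 0xe0a0110060c1010])]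

theorem c17 : Nat.ble 240 (chain lk E 100 (okN lk B t55 2) d12 []) = true := by
  decide +kernel

noncomputable def d20 : List (ℕ × List ℕ) :=
  [(nat_lit 0, [nat_lit 0xb040f06, nat_lit 0x7030b0f10]), (nat_lit 8, [nat_lit 0xb07010d070f])]

theorem c29 : Nat.ble 600 (chain lk E 100 (okN lk B t59 5) d20 []) = true := by
  decide +kernel

noncomputable def d4 : ℕ → ℕ :=
  (rd (nat_lit 6) (nat_lit 63) [nat_lit 0x400c100608300210c0411084022c09d06c4491500])

theorem c5 : Nat.blt (nat_lit 0) (pcChk lk B d4 g2_1_8 (nat_lit 1)) = true := by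
  decide +kernel

noncomputable def d16 : List (ℕ × List ℕ) :=
  [(nat_lit 0, [nat_lit 0x2010f070c, nat_lit 0x8040d0d0d10]), (nat_lit 1, [nat_lit 0x20807060e0d])]

theorem c23 : Nat.ble 72 (chain lk E 100 (okN lk B t57 3) d16 []) = true := by
  decide +kernel

theorem c39 : fuse lk B E g3_3_6 r3 fz3 = true := by
  decide +kernel

noncomputable def d2 : List (ℕ × List ℕ) :=
  [(nat_lit 71, [nat_lit 1, nat_lit 2]), (nat_lit 45, [nat_lit 6, nat_lit 7]), (nat_lit 55, [nat_lit 12, nat_lit 13]), (nat_lit 40, [nat_lit 16])]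

theorem c2 : baseChk lk E 100 604800 d2 = true := by
  decide +kernel

noncomputable def d6 : ℕ → ℕ :=
  (rd (nat_lit 6) (nat_lit 63) [nat_lit 0x10071800c938038ab81040])

theorem c8 : Nat.blt (nat_lit 0) (pcChk lk B d6 g3_1_6 (nat_lit 1)) = true := by
  decide +kernel

theorem c37 : fuse lk B E g2_1_8 r2 fz2 = true := by
  decide +kernel

noncomputable def d5 : List (ℕ × List ℕ) :=
  [(nat_lit 49, [nat_lit 1, nat_lit 2, nat_lit 5]), (nat_lit 81, [nat_lit 7])]

theorem c6 : Nat.ble 128 (chain lk g2E 100 (fun _ => true) d5 []) = true := by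
  decide +kernel

noncomputable def d8 : ℕ → ℕ :=
  (rd (nat_lit 5) (nat_lit 31) [nat_lit 0x20a1000])

theorem c11 : Nat.blt (nat_lit 0) (pcChk lk B d8 g5_0_3 (nat_lit 1)) = true := by
  decide +kernel

noncomputable def d7 : List (ℕ × List ℕ) :=
  [(nat_lit 4, [nat_lit 1, nat_lit 3]), (nat_lit 79, [nat_lit 1])]

theorem c9 : Nat.ble 108 (chain lk g3E 100 (fun _ => true) d7 []) = true := by
  decide +kernel

noncomputable def d10 : ℕ → ℕ :=
  (rd (nat_lit 3) (nat_lit 7) [nat_lit 256])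

theorem c14 : Nat.blt (nat_lit 0) (pcChk lk B d10 g7_1_3 (nat_lit 1)) = true := by
  decide +kernel

noncomputable def d9 : List (ℕ × List ℕ) :=
  [(nat_lit 49, [nat_lit 1, nat_lit 2, nat_lit 3])]

theorem c12 : Nat.ble 50 (chain lk g5E 100 (fun _ => true) d9 []) = true := by
  decide +kernel

noncomputable def d11 : List (ℕ × List ℕ) :=
  [(nat_lit 67, [nat_lit 1, nat_lit 2])]

theorem c15 : Nat.ble 21 (chain lk g7E 100 (fun _ => true) d11 []) = true := by
  decide +kernel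

theorem c4 : invChk lk B (g2_1_8.map Prod.snd) = true := by
  decide +kernel

theorem c7 : invChk lk B (g3_1_6.map Prod.snd) = true := by
  decide +kernel

theorem c10 : invChk lk B (g5_0_3.map Prod.snd) = true := by
  decide +kernel

theorem c13 : invChk lk B (g7_1_3.map Prod.snd) = true := by
  decide +kernel

theorem c16 : ordChk lk B t55 2 = true := by
  decide +kernel

theorem c19 : ordChk lk B t56 2 = true := by
  decide +kernel

theorem c22 : ordChk lk B t57 3 = true := by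
  decide +kernel

theorem c25 : ordChk lk B t58 3 = true := by
  decide +kernel

theorem c28 : ordChk lk B t59 5 = true := by
  decide +kernel

theorem c31 : ordChk lk B t60 5 = true := by
  decide +kernel

theorem c34 : ordChk lk B t61 7 = true := by
  decide +kernel

end Cfsg.Agent.SB.SporF.J2
end

-- part: SB/SporF/J2/Main
section
/-! S5765, row of J2: assembly (generated by notes/SB/spor_tools, helper63) -/

set_option autoImplicit false

namespace Cfsg.Agent.SB.SporF.J2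

open Cfsg.Agent.SB Cfsg.Agent.SB.Spor

open Cfsg

set_option maxRecDepth 100000
set_option linter.unusedSectionVars false

variable {G : Type*} [Group G]

theorem tab (M : PM G 100) : M.Tab lk mk ver := perm_tab M rfl (by norm_num) (by norm_num)

/-- the tables `E0` describe elements of `G`, and the order of `G` is bounded -/
structure Hyp (M : PM G 100) : Prop where
  h0 : AllIn M lk E0
  hN : Nat.card G ≤ 604800

variable [Finite G] {M : PM G 100} (H : Hyp M)
include H

theorem s0 : AllIn M lk sl0 :=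
  slp_spec (tab M) d1 E0 H.h0 c1

theorem i5 : M.In lk t5 :=
  s0 H _ (.head _)

theorem i6 : M.In lk t6 :=
  s0 H _ (.tail _ (.head _))

theorem i7 : M.In lk t7 :=
  s0 H _ (.tail _ (.tail _ (.head _)))

theorem i8 : M.In lk t8 :=
  s0 H _ (.tail _ (.tail _ (.tail _ (.head _))))

theorem i9 : M.In lk t9 :=
  s0 H _ (.tail _ (.tail _ (.tail _ (.tail _ (.head _)))))

theorem i10 : M.In lk t10 :=
  s0 H _ (.tail _ (.tail _ (.tail _ (.tail _ (.tail _ (.head _))))))

theorem i11 : M.In lk t11 :=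
  s0 H _ (.tail _ (.tail _ (.tail _ (.tail _ (.tail _ (.tail _ (.head _)))))))

theorem i12 : M.In lk t12 :=
  s0 H _ (.tail _ (.tail _ (.tail _ (.tail _ (.tail _ (.tail _ (.tail _ (.head _))))))))

theorem i13 : M.In lk t13 :=
  s0 H _ (.tail _ (.tail _ (.tail _ (.tail _ (.tail _ (.tail _ (.tail _ (.tail _ (.head _)))))))))

theorem i14 : M.In lk t14 :=
  s0 H _ (.tail _ (.tail _ (.tail _ (.tail _ (.tail _ (.tail _ (.tail _ (.tail _ (.tail _ (.head _))))))))))

theorem i15 : M.In lk t15 :=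
  s0 H _ (.tail _ (.tail _ (.tail _ (.tail _ (.tail _ (.tail _ (.tail _ (.tail _ (.tail _ (.tail _ (.head _)))))))))))

theorem i16 : M.In lk t16 :=
  s0 H _ (.tail _ (.tail _ (.tail _ (.tail _ (.tail _ (.tail _ (.tail _ (.tail _ (.tail _ (.tail _ (.tail _ (.head _))))))))))))

theorem i17 : M.In lk t17 :=
  s0 H _ (.tail _ (.tail _ (.tail _ (.tail _ (.tail _ (.tail _ (.tail _ (.tail _ (.tail _ (.tail _ (.tail _ (.tail _ (.head _)))))))))))))

theorem i18 : M.In lk t18 :=
  s0 H _ (.tail _ (.tail _ (.tail _ (.tail _ (.tail _ (.tail _ (.tail _ (.tail _ (.tail _ (.tail _ (.tail _ (.tail _ (.tail _ (.head _))))))))))))))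

theorem i19 : M.In lk t19 :=
  s0 H _ (.tail _ (.tail _ (.tail _ (.tail _ (.tail _ (.tail _ (.tail _ (.tail _ (.tail _ (.tail _ (.tail _ (.tail _ (.tail _ (.tail _ (.head _)))))))))))))))

theorem i20 : M.In lk t20 :=
  s0 H _ (.tail _ (.tail _ (.tail _ (.tail _ (.tail _ (.tail _ (.tail _ (.tail _ (.tail _ (.tail _ (.tail _ (.tail _ (.tail _ (.tail _ (.tail _ (.head _))))))))))))))))

theorem hE : AllIn M lk E :=
  (AllIn.cons (i5 H) (AllIn.cons (i6 H) (AllIn.cons (i7 H) (AllIn.cons (i8 H) (AllIn.cons (i9 H) (AllIn.cons (i10 H) (AllIn.cons (i11 H) (AllIn.cons (i12 H) (AllIn.cons (i13 H) (AllIn.cons (i14 H) (AllIn.cons (i15 H) (AllIn.cons (i16 H) (AllIn.cons (i17 H) (AllIn.cons (i18 H) (AllIn.cons (i19 H) (AllIn.cons (i20 H) AllIn.nil))))))))))))))))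

theorem hB0 : M.Base B ∧ Nat.card G = 604800 :=
  base_of_chk (hE H) H.hN (B := B) rfl c2

theorem hB : M.Base B :=
  (hB0 H).1

theorem u0 : AllIn M lk ul0 :=
  slp_spec (tab M) d3 E (hE H) c3

theorem i21 : M.In lk t21 :=
  u0 H _ (.head _)

theorem i22 : M.In lk t22 :=
  u0 H _ (.tail _ (.head _))

theorem i23 : M.In lk t23 :=
  u0 H _ (.tail _ (.tail _ (.head _)))

theorem i24 : M.In lk t24 :=
  u0 H _ (.tail _ (.tail _ (.tail _ (.head _))))

theorem i25 : M.In lk t25 :=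
  u0 H _ (.tail _ (.tail _ (.tail _ (.tail _ (.head _)))))

theorem i26 : M.In lk t26 :=
  u0 H _ (.tail _ (.tail _ (.tail _ (.tail _ (.tail _ (.head _))))))

theorem i27 : M.In lk t27 :=
  u0 H _ (.tail _ (.tail _ (.tail _ (.tail _ (.tail _ (.tail _ (.head _)))))))

theorem i28 : M.In lk t28 :=
  u0 H _ (.tail _ (.tail _ (.tail _ (.tail _ (.tail _ (.tail _ (.tail _ (.head _))))))))

theorem i29 : M.In lk t29 :=
  u0 H _ (.tail _ (.tail _ (.tail _ (.tail _ (.tail _ (.tail _ (.tail _ (.tail _ (.head _)))))))))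

theorem i30 : M.In lk t30 :=
  u0 H _ (.tail _ (.tail _ (.tail _ (.tail _ (.tail _ (.tail _ (.tail _ (.tail _ (.tail _ (.head _))))))))))

theorem i31 : M.In lk t31 :=
  u0 H _ (.tail _ (.tail _ (.tail _ (.tail _ (.tail _ (.tail _ (.tail _ (.tail _ (.tail _ (.tail _ (.head _)))))))))))

theorem i32 : M.In lk t32 :=
  u0 H _ (.tail _ (.tail _ (.tail _ (.tail _ (.tail _ (.tail _ (.tail _ (.tail _ (.tail _ (.tail _ (.tail _ (.head _))))))))))))

theorem i33 : M.In lk t33 :=
  u0 H _ (.tail _ (.tail _ (.tail _ (.tail _ (.tail _ (.tail _ (.tail _ (.tail _ (.tail _ (.tail _ (.tail _ (.tail _ (.head _)))))))))))))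

theorem i34 : M.In lk t34 :=
  u0 H _ (.tail _ (.tail _ (.tail _ (.tail _ (.tail _ (.tail _ (.tail _ (.tail _ (.tail _ (.tail _ (.tail _ (.tail _ (.tail _ (.head _))))))))))))))

theorem i35 : M.In lk t35 :=
  u0 H _ (.tail _ (.tail _ (.tail _ (.tail _ (.tail _ (.tail _ (.tail _ (.tail _ (.tail _ (.tail _ (.tail _ (.tail _ (.tail _ (.tail _ (.head _)))))))))))))))

theorem i36 : M.In lk t36 :=
  u0 H _ (.tail _ (.tail _ (.tail _ (.tail _ (.tail _ (.tail _ (.tail _ (.tail _ (.tail _ (.tail _ (.tail _ (.tail _ (.tail _ (.tail _ (.tail _ (.head _))))))))))))))))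

theorem i37 : M.In lk t37 :=
  u0 H _ (.tail _ (.tail _ (.tail _ (.tail _ (.tail _ (.tail _ (.tail _ (.tail _ (.tail _ (.tail _ (.tail _ (.tail _ (.tail _ (.tail _ (.tail _ (.tail _ (.head _)))))))))))))))))

theorem i38 : M.In lk t38 :=
  u0 H _ (.tail _ (.tail _ (.tail _ (.tail _ (.tail _ (.tail _ (.tail _ (.tail _ (.tail _ (.tail _ (.tail _ (.tail _ (.tail _ (.tail _ (.tail _ (.tail _ (.tail _ (.head _))))))))))))))))))

theorem i39 : M.In lk t39 :=
  u0 H _ (.tail _ (.tail _ (.tail _ (.tail _ (.tail _ (.tail _ (.tail _ (.tail _ (.tail _ (.tail _ (.tail _ (.tail _ (.tail _ (.tail _ (.tail _ (.tail _ (.tail _ (.tail _ (.head _)))))))))))))))))))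

theorem i40 : M.In lk t40 :=
  u0 H _ (.tail _ (.tail _ (.tail _ (.tail _ (.tail _ (.tail _ (.tail _ (.tail _ (.tail _ (.tail _ (.tail _ (.tail _ (.tail _ (.tail _ (.tail _ (.tail _ (.tail _ (.tail _ (.tail _ (.head _))))))))))))))))))))

theorem i41 : M.In lk t41 :=
  u0 H _ (.tail _ (.tail _ (.tail _ (.tail _ (.tail _ (.tail _ (.tail _ (.tail _ (.tail _ (.tail _ (.tail _ (.tail _ (.tail _ (.tail _ (.tail _ (.tail _ (.tail _ (.tail _ (.tail _ (.tail _ (.head _)))))))))))))))))))))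

theorem i42 : M.In lk t42 :=
  u0 H _ (.tail _ (.tail _ (.tail _ (.tail _ (.tail _ (.tail _ (.tail _ (.tail _ (.tail _ (.tail _ (.tail _ (.tail _ (.tail _ (.tail _ (.tail _ (.tail _ (.tail _ (.tail _ (.tail _ (.tail _ (.tail _ (.head _))))))))))))))))))))))

theorem i43 : M.In lk t43 :=
  u0 H _ (.tail _ (.tail _ (.tail _ (.tail _ (.tail _ (.tail _ (.tail _ (.tail _ (.tail _ (.tail _ (.tail _ (.tail _ (.tail _ (.tail _ (.tail _ (.tail _ (.tail _ (.tail _ (.tail _ (.tail _ (.tail _ (.tail _ (.head _)))))))))))))))))))))))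

theorem i44 : M.In lk t44 :=
  u0 H _ (.tail _ (.tail _ (.tail _ (.tail _ (.tail _ (.tail _ (.tail _ (.tail _ (.tail _ (.tail _ (.tail _ (.tail _ (.tail _ (.tail _ (.tail _ (.tail _ (.tail _ (.tail _ (.tail _ (.tail _ (.tail _ (.tail _ (.tail _ (.head _))))))))))))))))))))))))

theorem i45 : M.In lk t45 :=
  u0 H _ (.tail _ (.tail _ (.tail _ (.tail _ (.tail _ (.tail _ (.tail _ (.tail _ (.tail _ (.tail _ (.tail _ (.tail _ (.tail _ (.tail _ (.tail _ (.tail _ (.tail _ (.tail _ (.tail _ (.tail _ (.tail _ (.tail _ (.tail _ (.tail _ (.head _)))))))))))))))))))))))))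

theorem i46 : M.In lk t46 :=
  u0 H _ (.tail _ (.tail _ (.tail _ (.tail _ (.tail _ (.tail _ (.tail _ (.tail _ (.tail _ (.tail _ (.tail _ (.tail _ (.tail _ (.tail _ (.tail _ (.tail _ (.tail _ (.tail _ (.tail _ (.tail _ (.tail _ (.tail _ (.tail _ (.tail _ (.tail _ (.head _))))))))))))))))))))))))))

theorem i47 : M.In lk t47 :=
  u0 H _ (.tail _ (.tail _ (.tail _ (.tail _ (.tail _ (.tail _ (.tail _ (.tail _ (.tail _ (.tail _ (.tail _ (.tail _ (.tail _ (.tail _ (.tail _ (.tail _ (.tail _ (.tail _ (.tail _ (.tail _ (.tail _ (.tail _ (.tail _ (.tail _ (.tail _ (.tail _ (.head _)))))))))))))))))))))))))))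

theorem i48 : M.In lk t48 :=
  u0 H _ (.tail _ (.tail _ (.tail _ (.tail _ (.tail _ (.tail _ (.tail _ (.tail _ (.tail _ (.tail _ (.tail _ (.tail _ (.tail _ (.tail _ (.tail _ (.tail _ (.tail _ (.tail _ (.tail _ (.tail _ (.tail _ (.tail _ (.tail _ (.tail _ (.tail _ (.tail _ (.tail _ (.head _))))))))))))))))))))))))))))

theorem i49 : M.In lk t49 :=
  u0 H _ (.tail _ (.tail _ (.tail _ (.tail _ (.tail _ (.tail _ (.tail _ (.tail _ (.tail _ (.tail _ (.tail _ (.tail _ (.tail _ (.tail _ (.tail _ (.tail _ (.tail _ (.tail _ (.tail _ (.tail _ (.tail _ (.tail _ (.tail _ (.tail _ (.tail _ (.tail _ (.tail _ (.tail _ (.head _)))))))))))))))))))))))))))))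

theorem i50 : M.In lk t50 :=
  u0 H _ (.tail _ (.tail _ (.tail _ (.tail _ (.tail _ (.tail _ (.tail _ (.tail _ (.tail _ (.tail _ (.tail _ (.tail _ (.tail _ (.tail _ (.tail _ (.tail _ (.tail _ (.tail _ (.tail _ (.tail _ (.tail _ (.tail _ (.tail _ (.tail _ (.tail _ (.tail _ (.tail _ (.tail _ (.tail _ (.head _))))))))))))))))))))))))))))))

theorem i51 : M.In lk t51 :=
  u0 H _ (.tail _ (.tail _ (.tail _ (.tail _ (.tail _ (.tail _ (.tail _ (.tail _ (.tail _ (.tail _ (.tail _ (.tail _ (.tail _ (.tail _ (.tail _ (.tail _ (.tail _ (.tail _ (.tail _ (.tail _ (.tail _ (.tail _ (.tail _ (.tail _ (.tail _ (.tail _ (.tail _ (.tail _ (.tail _ (.tail _ (.head _)))))))))))))))))))))))))))))))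

theorem i52 : M.In lk t52 :=
  u0 H _ (.tail _ (.tail _ (.tail _ (.tail _ (.tail _ (.tail _ (.tail _ (.tail _ (.tail _ (.tail _ (.tail _ (.tail _ (.tail _ (.tail _ (.tail _ (.tail _ (.tail _ (.tail _ (.tail _ (.tail _ (.tail _ (.tail _ (.tail _ (.tail _ (.tail _ (.tail _ (.tail _ (.tail _ (.tail _ (.tail _ (.tail _ (.head _))))))))))))))))))))))))))))))))

theorem i53 : M.In lk t53 :=
  u0 H _ (.tail _ (.tail _ (.tail _ (.tail _ (.tail _ (.tail _ (.tail _ (.tail _ (.tail _ (.tail _ (.tail _ (.tail _ (.tail _ (.tail _ (.tail _ (.tail _ (.tail _ (.tail _ (.tail _ (.tail _ (.tail _ (.tail _ (.tail _ (.tail _ (.tail _ (.tail _ (.tail _ (.tail _ (.tail _ (.tail _ (.tail _ (.tail _ (.head _)))))))))))))))))))))))))))))))))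

theorem i54 : M.In lk t54 :=
  u0 H _ (.tail _ (.tail _ (.tail _ (.tail _ (.tail _ (.tail _ (.tail _ (.tail _ (.tail _ (.tail _ (.tail _ (.tail _ (.tail _ (.tail _ (.tail _ (.tail _ (.tail _ (.tail _ (.tail _ (.tail _ (.tail _ (.tail _ (.tail _ (.tail _ (.tail _ (.tail _ (.tail _ (.tail _ (.tail _ (.tail _ (.tail _ (.tail _ (.tail _ (.head _))))))))))))))))))))))))))))))))))

theorem i55 : M.In lk t55 :=
  u0 H _ (.tail _ (.tail _ (.tail _ (.tail _ (.tail _ (.tail _ (.tail _ (.tail _ (.tail _ (.tail _ (.tail _ (.tail _ (.tail _ (.tail _ (.tail _ (.tail _ (.tail _ (.tail _ (.tail _ (.tail _ (.tail _ (.tail _ (.tail _ (.tail _ (.tail _ (.tail _ (.tail _ (.tail _ (.tail _ (.tail _ (.tail _ (.tail _ (.tail _ (.tail _ (.head _)))))))))))))))))))))))))))))))))))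

theorem i56 : M.In lk t56 :=
  u0 H _ (.tail _ (.tail _ (.tail _ (.tail _ (.tail _ (.tail _ (.tail _ (.tail _ (.tail _ (.tail _ (.tail _ (.tail _ (.tail _ (.tail _ (.tail _ (.tail _ (.tail _ (.tail _ (.tail _ (.tail _ (.tail _ (.tail _ (.tail _ (.tail _ (.tail _ (.tail _ (.tail _ (.tail _ (.tail _ (.tail _ (.tail _ (.tail _ (.tail _ (.tail _ (.tail _ (.head _))))))))))))))))))))))))))))))))))))

theorem i57 : M.In lk t57 :=
  u0 H _ (.tail _ (.tail _ (.tail _ (.tail _ (.tail _ (.tail _ (.tail _ (.tail _ (.tail _ (.tail _ (.tail _ (.tail _ (.tail _ (.tail _ (.tail _ (.tail _ (.tail _ (.tail _ (.tail _ (.tail _ (.tail _ (.tail _ (.tail _ (.tail _ (.tail _ (.tail _ (.tail _ (.tail _ (.tail _ (.tail _ (.tail _ (.tail _ (.tail _ (.tail _ (.tail _ (.tail _ (.head _)))))))))))))))))))))))))))))))))))))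

theorem i58 : M.In lk t58 :=
  u0 H _ (.tail _ (.tail _ (.tail _ (.tail _ (.tail _ (.tail _ (.tail _ (.tail _ (.tail _ (.tail _ (.tail _ (.tail _ (.tail _ (.tail _ (.tail _ (.tail _ (.tail _ (.tail _ (.tail _ (.tail _ (.tail _ (.tail _ (.tail _ (.tail _ (.tail _ (.tail _ (.tail _ (.tail _ (.tail _ (.tail _ (.tail _ (.tail _ (.tail _ (.tail _ (.tail _ (.tail _ (.tail _ (.head _))))))))))))))))))))))))))))))))))))))

theorem i59 : M.In lk t59 :=
  u0 H _ (.tail _ (.tail _ (.tail _ (.tail _ (.tail _ (.tail _ (.tail _ (.tail _ (.tail _ (.tail _ (.tail _ (.tail _ (.tail _ (.tail _ (.tail _ (.tail _ (.tail _ (.tail _ (.tail _ (.tail _ (.tail _ (.tail _ (.tail _ (.tail _ (.tail _ (.tail _ (.tail _ (.tail _ (.tail _ (.tail _ (.tail _ (.tail _ (.tail _ (.tail _ (.tail _ (.tail _ (.tail _ (.tail _ (.head _)))))))))))))))))))))))))))))))))))))))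

theorem i60 : M.In lk t60 :=
  u0 H _ (.tail _ (.tail _ (.tail _ (.tail _ (.tail _ (.tail _ (.tail _ (.tail _ (.tail _ (.tail _ (.tail _ (.tail _ (.tail _ (.tail _ (.tail _ (.tail _ (.tail _ (.tail _ (.tail _ (.tail _ (.tail _ (.tail _ (.tail _ (.tail _ (.tail _ (.tail _ (.tail _ (.tail _ (.tail _ (.tail _ (.tail _ (.tail _ (.tail _ (.tail _ (.tail _ (.tail _ (.tail _ (.tail _ (.tail _ (.head _))))))))))))))))))))))))))))))))))))))))

theorem i61 : M.In lk t61 :=
  u0 H _ (.tail _ (.tail _ (.tail _ (.tail _ (.tail _ (.tail _ (.tail _ (.tail _ (.tail _ (.tail _ (.tail _ (.tail _ (.tail _ (.tail _ (.tail _ (.tail _ (.tail _ (.tail _ (.tail _ (.tail _ (.tail _ (.tail _ (.tail _ (.tail _ (.tail _ (.tail _ (.tail _ (.tail _ (.tail _ (.tail _ (.tail _ (.tail _ (.tail _ (.tail _ (.tail _ (.tail _ (.tail _ (.tail _ (.tail _ (.tail _ (.head _)))))))))))))))))))))))))))))))))))))))))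

theorem g2p1 : PcG M lk g2_1_8 128 :=
  pcg_of (hB H) (fa_cons (⟨i21 H, i22 H⟩) (fa_cons (⟨i23 H, i24 H⟩) (fa_cons (⟨i25 H, i26 H⟩) (fa_cons (⟨i27 H, i28 H⟩) (fa_cons (⟨i29 H, i30 H⟩) (fa_cons (⟨i31 H, i32 H⟩) (fa_cons (⟨i33 H, i34 H⟩) fa_nil))))))) c4 c5 (E := g2E) rfl c6

theorem g3p1 : PcG M lk g3_1_6 108 :=
  pcg_of (hB H) (fa_cons (⟨i35 H, i36 H⟩) (fa_cons (⟨i37 H, i38 H⟩) (fa_cons (⟨i39 H, i40 H⟩) (fa_cons (⟨i41 H, i42 H⟩) (fa_cons (⟨i43 H, i44 H⟩) fa_nil))))) c7 c8 (E := g3E) rfl c9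

theorem g5p0 : PcG M lk g5_0_3 50 :=
  pcg_of (hB H) (fa_cons (⟨i45 H, i46 H⟩) (fa_cons (⟨i47 H, i48 H⟩) (fa_cons (⟨i49 H, i50 H⟩) fa_nil))) c10 c11 (E := g5E) rfl c12

theorem g7p1 : PcG M lk g7_1_3 21 :=
  pcg_of (hB H) (fa_cons (⟨i51 H, i52 H⟩) (fa_cons (⟨i53 H, i54 H⟩) fa_nil)) c13 c14 (E := g7E) rfl c15

theorem dn0 : Dn (M.el lk t55) 2 21 :=
  (g7p1 H).dnS (tab M) (nsC_ok (hB H) _) (i55 H) (Upto.zero) c18

theorem ok0 : Rc.Ok ⟨2, 2, 21, 240⟩ (M.el lk t55) :=
  rc_ok (hB H) (i55 H) (by norm_num) c16 (dn0 H) (by norm_num) (norm_ge (hB H) (hE H) (i55 H) c17)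

theorem g2p4 : PcG M lk g2_4_8 16 :=
  (g2p1 H).right (A := g2_1_4) rfl (by decide +kernel)

theorem dn1 : Dn (M.el lk t56) 3 16 :=
  (g2p4 H).dnS (tab M) (nsC_ok (hB H) _) (i56 H) (Upto.zero) c21

theorem ok1 : Rc.Ok ⟨2, 3, 16, 1920⟩ (M.el lk t56) :=
  rc_ok (hB H) (i56 H) (by norm_num) c19 (dn1 H) (by norm_num) (norm_ge (hB H) (hE H) (i56 H) c20)

theorem dn2 : Dn (M.el lk t57) 1 21 :=
  (g7p1 H).dnP (A := g7_1_2) (R := g7_2_3) rfl (tab M) (nsC_ok (hB H) _) (i57 H) (Upto.zero) c24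

theorem ok2 : Rc.Ok ⟨3, 1, 21, 72⟩ (M.el lk t57) :=
  rc_ok (hB H) (i57 H) (by norm_num) c22 (dn2 H) (by norm_num) (norm_ge (hB H) (hE H) (i57 H) c23)

theorem dn3 : Dn (M.el lk t58) 3 21 :=
  (g7p1 H).dnS (tab M) (nsC_ok (hB H) _) (i58 H) (Upto.zero) c27

theorem ok3 : Rc.Ok ⟨3, 3, 21, 2160⟩ (M.el lk t58) :=
  rc_ok (hB H) (i58 H) (by norm_num) c25 (dn3 H) (by norm_num) (norm_ge (hB H) (hE H) (i58 H) c26)

theorem dn4 : Dn (M.el lk t59) 2 108 :=
  (g3p1 H).dnS (tab M) (nsC_ok (hB H) _) (i59 H) (Upto.zero) c30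

theorem ok4 : Rc.Ok ⟨5, 2, 108, 600⟩ (M.el lk t59) :=
  rc_ok (hB H) (i59 H) (by norm_num) c28 (dn4 H) (by norm_num) (norm_ge (hB H) (hE H) (i59 H) c29)

theorem g2p2 : PcG M lk g2_2_8 64 :=
  (g2p1 H).right (A := g2_1_2) rfl (by decide +kernel)

theorem dn5 : Dn (M.el lk t60) 1 64 :=
  (g2p2 H).dnP (A := g2_2_5) (R := g2_5_8) rfl (tab M) (nsC_ok (hB H) _) (i60 H) (Upto.zero) c33

theorem ok5 : Rc.Ok ⟨5, 1, 64, 100⟩ (M.el lk t60) :=
  rc_ok (hB H) (i60 H) (by norm_num) c31 (dn5 H) (by norm_num) (norm_ge (hB H) (hE H) (i60 H) c32)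

theorem dn6 : Dn (M.el lk t61) 1 50 :=
  (g5p0 H).dnP (A := g5_0_2) (R := g5_2_3) rfl (tab M) (nsC_ok (hB H) _) (i61 H) (Upto.zero) c36

theorem ok6 : Rc.Ok ⟨7, 1, 50, 42⟩ (M.el lk t61) :=
  rc_ok (hB H) (i61 H) (by norm_num) c34 (dn6 H) (by norm_num) (norm_ge (hB H) (hE H) (i61 H) c35)

theorem cov2 : Cov M lk 2 r2 :=
  (g2p1 H).cov (hB H) (A := g2_1_1) (R := g2_1_8) (d := 4725) (a := 1) rfl (by norm_num) (hB0 H).2 (by decide +kernel) (hE H)
    (AllIn.cons (i55 H) (AllIn.cons (i56 H) AllIn.nil)) c37 (cls := cl2) rfl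
    (show ∀ c ∈ [0], _ from (fa_cons (⟨_, c38⟩) fa_nil))

theorem g3p3 : PcG M lk g3_3_6 27 :=
  (g3p1 H).right (A := g3_1_3) rfl (by decide +kernel)

theorem cov3 : Cov M lk 3 r3 :=
  (g3p3 H).cov (hB H) (A := g3_3_3) (R := g3_3_6) (d := 22400) (a := 1) rfl (by norm_num) (hB0 H).2 (by decide +kernel) (hE H)
    (AllIn.cons (i57 H) (AllIn.cons (i58 H) AllIn.nil)) c39 (cls := cl3) rfl
    (show ∀ c ∈ [0], _ from (fa_cons (⟨_, c40⟩) fa_nil))

theorem g5p1 : PcG M lk g5_1_3 25 :=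
  (g5p0 H).right (A := g5_0_1) rfl (by decide +kernel)

theorem cov5 : Cov M lk 5 r5 :=
  (g5p1 H).cov (hB H) (A := g5_1_1) (R := g5_1_3) (d := 24192) (a := 1) rfl (by norm_num) (hB0 H).2 (by decide +kernel) (hE H)
    (AllIn.cons (i59 H) (AllIn.cons (i60 H) AllIn.nil)) c41 (cls := cl5) rfl
    (show ∀ c ∈ [0], _ from (fa_cons (⟨_, c42⟩) fa_nil))

theorem cov7 : Cov M lk 7 r7 :=
  cov_of_prime (d := 86400) (by norm_num) (ok6 H).ord ((hB0 H).2.trans (by norm_num)) (by norm_num)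

theorem sheet : Sheet G 604800 [⟨2, 2, 21, 240⟩, ⟨2, 3, 16, 1920⟩, ⟨3, 1, 21, 72⟩, ⟨3, 3, 21, 2160⟩, ⟨5, 2, 108, 600⟩, ⟨5, 1, 64, 100⟩, ⟨7, 1, 50, 42⟩] :=
  sheet_of (hB0 H).2 (F := [(2, 7), (3, 3), (5, 2), (7, 1)]) (by norm_num) (reps := [t55, t56, t57, t58, t59, t60, t61])
    (.cons (ok0 H) (.cons (ok1 H) (.cons (ok2 H) (.cons (ok3 H) (.cons (ok4 H) (.cons (ok5 H) (.cons (ok6 H) .nil)))))))
    (fa_cons (pcov (by norm_num) (cov2 H) (fa_cons ((.head _)) (fa_cons ((.tail _ (.head _))) fa_nil))) (fa_cons (pcov (by norm_num) (cov3 H) (fa_cons ((.tail _ (.tail _ (.head _)))) (fa_cons ((.tail _ (.tail _ (.tail _ (.head _))))) fa_nil))) (fa_cons (pcov (by norm_num) (cov5 H) (fa_cons ((.tail _ (.tail _ (.tail _ (.tail _ (.head _)))))) (fa_cons ((.tail _ (.tail _ (.tail _ (.tail _ (.tail _ (.head _))))))) fa_nil))) (fa_cons (pcov (by norm_num) (cov7 H) (fa_cons ((.tail _ (.tail _ (.tail _ (.tail _ (.tail _ (.tail _ (.head _)))))))) fa_nil)) fa_nil))))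

theorem big : ∀ c : G, (orderOf c).Prime → orderOf c ∣ 175 → Dn c 1 49 :=
  big_of (F := [(7, 1), (5, 2)]) (by norm_num)
    (fa_cons (pcov (by norm_num) (cov7 H) (fa_cons ((ok6 H).big (by norm_num) (by norm_num)) fa_nil)) (fa_cons (pcov (by norm_num) (cov5 H) (fa_cons ((ok4 H).big (by norm_num) (by norm_num)) (fa_cons ((ok5 H).big (by norm_num) (by norm_num)) fa_nil))) fa_nil))

theorem row [IsSimpleGroup G] (hK : ¬ IsMulCommutative G) (ho : Nat.card (Out G) ≤ 2) : Row G :=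
  (sheet H).row_two hK ho (by norm_num) (hB0 H).2 (a := 3456) (by norm_num) (by norm_num) (big H)
    (by simp only [List.map, List.sum_cons, List.sum_nil, Rc.term]; norm_num)

end Cfsg.Agent.SB.SporF.J2
end

-- part: SB/SporF/RowJ2
section
/-!
# S5765, the row of `J₂` (helper61)

The action on 100 points; `row_J2`.
-/

set_option autoImplicit false
set_option maxRecDepth 100000

namespace Cfsg.Agent.SB.SporF

open Cfsg Cfsg.Agent.SB.Spor

namespace J2

open Cfsg.Agent.SporadicA.J2Hundred Cfsg.Agent.J2.HundredGens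

theorem ck : allN 5 (fun k => allN 100 fun i => Nat.beq
    (SporadicA.PermTab.lk (J2.HundredGens.tab k) i) (lk (E0.getD k 0) i)) = true := by decide +kernel

theorem hyp : Hyp (permPM SporadicA.J2Hundred.G.subtype) := by
  refine ⟨fun t ht => ?_, card_G.le⟩
  obtain ⟨k, hk, rfl⟩ := List.mem_iff_getElem.1 ht
  have hk5 : k < 5 := hk
  refine ⟨⟨gen k, gen_mem k⟩, fun i hi => ?_⟩
  show (if h : i < 100 then _ else _) = _
  rw [dif_pos hi, ← List.getD_eq_getElem _ 0 hk]
  exact (gen_val k ⟨i, hi⟩).trans (Nat.eq_of_beq_eq_true (of_allN (of_allN ck k hk5) i hi))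

end J2

/-- **The row of `J₂`.** -/
theorem row_J2 (K : Type*) [Group K] (h : Spor.IsoJ2 K) : Row K := by
  obtain ⟨e⟩ := h
  obtain ⟨f⟩ := Cfsg.Agent.J2.HundredGens.J2_iso S1619.result.2.2.2
  have := SporadicA.J2Hundred.simple
  refine Row.of_equiv (e.trans f) (J2.row J2.hyp (not_comm_of_card ?_) ?_)
  · rw [SporadicA.J2Hundred.card_G]
    norm_num
  · exact ((card_out_congr f.symm).trans S2066.result).le

end Cfsg.Agent.SB.SporF
end
end
end
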