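import Cfsg.Agent.TAB.Sm2.M24_m3
import Cfsg.Agent.DS.Sp.F24ATools_m3
import Cfsg.Agent.DS.Sp.F24SB
import Cfsg.Agent.KFacts.FiTF.FrameF
import Cfsg.Agent.SB.D4.Tri_m3
import Cfsg.Agent.TAB.F22.FxB_m3
import Cfsg.Agent.FastGrp
import Cfsg.Agent.Prune
set_option linter.all false

section
prune_inst 0x7f00000000000000000000000000000000000000000000000000000000000000000000000000000000000000000000000000000000000000000000000000000000000000000000000000000000000000003fffffffffffffffffffffffffffbeffbdffffffff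

-- part: SB/Mon/F24/Geo
section
set_option linter.all false
open scoped Cfsg.Agent.FastGrp

/-!
# S5765, the row `Fi24'`: the abstract 3-local geometry (helper56)

`boxGeo : BoxGeo`; the proof is the one of `notes/SB/fi24n.md`.
-/

set_option autoImplicit false
set_option linter.unusedSectionVars false

namespace Cfsg.Agent.SB.F24

open Subgroup Cfsg

namespace Geo

variable {G : Type} [Group G]

theorem zp {p x : G} (hp : p ^ 3 = 1) (hx : x ∈ zpowers p) : x = 1 ∨ x = p ∨ x = p⁻¹ := by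
  obtain ⟨k, rfl⟩ := hx
  have h1 : p ^ k = p ^ (k % 3) := zpow_eq_zpow_emod' k hp
  have h2 : k % 3 = 0 ∨ k % 3 = 1 ∨ k % 3 = 2 := by omega
  show p ^ k = 1 ∨ p ^ k = p ∨ p ^ k = p⁻¹
  rw [h1]
  rcases h2 with h | h | h <;> rw [h]
  · exact Or.inl (zpow_zero p)
  · exact Or.inr (Or.inl (zpow_one p))
  · refine Or.inr (Or.inr (eq_inv_of_mul_eq_one_left ?_))
    rw [← hp, zpow_two, pow_three, mul_assoc]

/-- a subgroup which contains a non-trivial power of `p` contains `p` -/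
theorem mem_of_zp {p x : G} (hp : p ^ 3 = 1) (hx : x ∈ zpowers p) (h1 : x ≠ 1) {K : Subgroup G} (h : x ∈ K) : p ∈ K := by
  rcases zp hp hx with rfl | rfl | rfl
  · exact absurd rfl h1
  · exact h
  · exact inv_mem_iff.1 h

theorem comm_zp {p x z : G} (h : Commute x p) (hz : z ∈ zpowers p) : Commute x z := by
  obtain ⟨k, rfl⟩ := hz
  exact h.zpow_right k

theorem conj_comm {a b : G} (h : Commute a b) (g : G) : Commute (g * a * g⁻¹) (g * b * g⁻¹) := h.map (MulAut.conj g)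

theorem comm_of_eq_one {a b : G} (h : a * b * a⁻¹ * b⁻¹ = 1) : Commute a b :=
  mul_inv_eq_iff_eq_mul.1 (mul_inv_eq_one.1 h)

theorem conj_of_comm {a b : G} (h : Commute a b) : a * b * a⁻¹ = b := by rw [h.eq, mul_inv_cancel_right]

theorem mem_cen {a b : G} : a ∈ centralizer ({b} : Set G) ↔ Commute a b := mem_centralizer_singleton_iff

theorem closure_comm {X : Set G} (h : ∀ a ∈ X, ∀ b ∈ X, Commute a b) {x y : G} (hx : x ∈ closure X)
    (hy : y ∈ closure X) : Commute x y := by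
  have h1 : ∀ a ∈ X, Commute y a := fun a ha =>
    mem_cen.1 ((closure_le (centralizer {a})).2 (fun b hb => mem_cen.2 (h b hb a ha)) hy)
  exact mem_cen.1 ((closure_le (centralizer {y})).2 (fun a ha => mem_cen.2 (h1 a ha).symm) hx)

theorem closure_pg {X : Set G} (h : ∀ a ∈ X, ∀ b ∈ X, Commute a b) (h3 : ∀ a ∈ X, a ^ 3 = 1) :
    IsPGroup 3 (closure X) := by
  have key : ∀ x ∈ closure X, x ^ 3 = 1 := fun x hx => by
    induction hx using closure_induction with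
    | mem a ha => exact h3 a ha
    | one => exact one_pow 3
    | mul a b ha hb iha ihb => rw [(closure_comm h ha hb).mul_pow, iha, ihb, one_mul]
    | inv a _ iha => rw [inv_pow, iha, inv_one]
  exact fun x => ⟨1, Subtype.ext (by rw [pow_one]; exact key x x.2)⟩

theorem conj_closure {X : Set G} {K : Subgroup G} {g : G} (h : ∀ a ∈ X, g * a * g⁻¹ ∈ K) {y : G} (hy : y ∈ closure X) :
    g * y * g⁻¹ ∈ K :=
  (closure_le (K.comap (MulAut.conj g).toMonoidHom)).2 h hy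

theorem le_norm {A Y : Subgroup G} (h : ∀ g ∈ A, ∀ y ∈ Y, g * y * g⁻¹ ∈ Y) : A ≤ normalizer (Y : Set G) :=
  fun g hg => mem_normalizer_iff.2 fun y => ⟨h g hg y, fun hy => by
    have h1 := h g⁻¹ (inv_mem hg) _ hy
    rwa [show g⁻¹ * (g * y * g⁻¹) * g⁻¹⁻¹ = y by group] at h1⟩

theorem solv_mono {A B : Subgroup G} (h : A ≤ B) (hB : Group.IsSolvable B) : Group.IsSolvable A :=
  Group.isSolvable_of_isSolvable_injective (f := inclusion h) (inclusion_injective h)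

theorem card_le_mul [Finite G] (B Z : Subgroup G) (x : G) (h : ∀ b ∈ B, b * x * b⁻¹ * x⁻¹ ∈ Z) :
    Nat.card B ≤ Nat.card Z * Nat.card ↥(B ⊓ centralizer {x}) := by
  let f : B → Z := fun b => ⟨_, h b b.2⟩
  have hf : ∀ b : B, ((Function.invFun f (f b) : B) : G)⁻¹ * b ∈ B ⊓ centralizer {x} := fun b => by
    refine ⟨B.mul_mem (B.inv_mem (Function.invFun f (f b)).2) b.2, mem_centralizer_singleton_iff.2 ?_⟩
    have h1 : f (Function.invFun f (f b)) = f b := Function.invFun_eq ⟨b, rfl⟩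
    generalize Function.invFun f (f b) = c at h1
    have h2 : (c : G) * x * (c : G)⁻¹ = b * x * (b : G)⁻¹ := mul_right_cancel (congrArg Subtype.val h1)
    calc (c : G)⁻¹ * b * x = (c : G)⁻¹ * (b * x * (b : G)⁻¹) * b := by group
      _ = _ := by rw [← h2]; group
  rw [← Nat.card_prod]
  refine Nat.card_le_card_of_injective (fun b => (f b, ⟨_, hf b⟩)) fun b b' e => ?_
  have h1 : f b = f b' := congrArg Prod.fst e
  have h2 : ((Function.invFun f (f b) : B) : G)⁻¹ * b = ((Function.invFun f (f b') : B) : G)⁻¹ * b' :=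
    congrArg (fun y : Z × ↥(B ⊓ centralizer {x}) => (y.2 : G)) e
  rw [h1] at h2
  exact Subtype.ext (mul_left_cancel h2)

theorem conj_inv_shift {y a u : G} (h : y * a * y⁻¹ = a * u) (hu : Commute y u) : y⁻¹ * a * y⁻¹⁻¹ = a * u⁻¹ := by
  calc y⁻¹ * a * y⁻¹⁻¹ = y⁻¹ * (a * u) * (u⁻¹ * y) := by group
    _ = a * (y⁻¹ * (u⁻¹ * y)) := by rw [← h]; group
    _ = _ := by rw [← hu.inv_right.eq, inv_mul_cancel_left]

/-- the elementary transformations -/
def El (a b c x : G) : Prop := x * b * x⁻¹ = b * a ∧ Commute x a ∧ Commute x c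

theorem El.comm {a b c x y : G} (hac : Commute a c) (hx : El a c b x) (hy : El c b a y) :
    El a b c (x * y * x⁻¹ * y⁻¹) := by
  have h1 := conj_inv_shift hx.1 hx.2.1
  have h2 := conj_inv_shift hy.1 hy.2.1
  refine ⟨?_, (((hx.2.1.mul_left hy.2.2)).mul_left hx.2.1.inv_left).mul_left hy.2.2.inv_left, ?_⟩
  · calc x * y * x⁻¹ * y⁻¹ * b * (x * y * x⁻¹ * y⁻¹)⁻¹ = x * y * x⁻¹ * (y⁻¹ * b * y⁻¹⁻¹) * (x * y * x⁻¹)⁻¹ := by group
      _ = x * y * ((x⁻¹ * b * x⁻¹⁻¹) * (x⁻¹ * c * x⁻¹⁻¹)⁻¹) * (x * y)⁻¹ := by rw [h2]; group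
      _ = x * ((y * b * y⁻¹) * (y * a * y⁻¹) * (y * c * y⁻¹)⁻¹) * x⁻¹ := by
        rw [h1, conj_of_comm hx.2.2.inv_left]
        group
      _ = (x * b * x⁻¹) * (x * a * x⁻¹) := by
        rw [hy.1, conj_of_comm hy.2.2, conj_of_comm hy.2.1, mul_assoc b c a, ← hac.eq]
        group
      _ = b * a := by rw [conj_of_comm hx.2.2, conj_of_comm hx.2.1]
  · refine mul_inv_eq_iff_eq_mul.1 ?_
    calc x * y * x⁻¹ * y⁻¹ * c * (x * y * x⁻¹ * y⁻¹)⁻¹ = x * y * x⁻¹ * (y⁻¹ * c * y⁻¹⁻¹) * (x * y * x⁻¹)⁻¹ := by group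
      _ = x * y * (x⁻¹ * c * x⁻¹⁻¹) * (x * y)⁻¹ := by rw [conj_of_comm hy.2.1.inv_left]; group
      _ = x * ((y * c * y⁻¹) * (y * a * y⁻¹)⁻¹) * x⁻¹ := by rw [h1]; group
      _ = (x * c * x⁻¹) * (x * a * x⁻¹)⁻¹ := by rw [conj_of_comm hy.2.1, conj_of_comm hy.2.2]; group
      _ = c := by rw [hx.1, conj_of_comm hx.2.1, mul_inv_cancel_right]

variable {T : Subgroup G} {Pt : G → Prop} {Q : G → Subgroup G} (H : Geo T Pt Q) {p q w : G}

include H

theorem self (hp : Pt p) : p ∈ Q p := (H.es hp).le (mem_zpowers p)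

theorem comm (hp : Pt p) {x : G} (hx : x ∈ Q p) : Commute x p := ((H.es hp).cen p (mem_zpowers p) x hx).symm

theorem card_zp (hp : Pt p) : Nat.card (zpowers p) = 3 := by
  rw [Nat.card_zpowers, orderOf_eq_prime (H.cube hp) (H.ne hp)]

theorem norm (hp : Pt p) {g x : G} (hg : Commute g p) (hx : x ∈ Q p) : g * x * g⁻¹ ∈ Q p := by
  have h1 := H.Q_conj hp g x hx
  rwa [conj_of_comm hg] at h1

theorem shift' (hp : Pt p) {x a : G} (hx : x ∈ Q p) (ha : a ∈ Q p) (h : ¬ Commute x a) :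
    ∃ y, (y = x ∨ y = x⁻¹) ∧ y * a * y⁻¹ = a * p := by
  have h1 := (H.es hp).com x hx a ha
  have e : x * a * x⁻¹ = a * (x * a * x⁻¹ * a⁻¹) := by
    rw [(comm_zp (H.comm hp ha) h1).eq, inv_mul_cancel_right]
  rcases zp (H.cube hp) h1 with h2 | h2 | h2
  · exact absurd (comm_of_eq_one h2) h
  · exact ⟨x, Or.inl rfl, by rwa [h2] at e⟩
  · rw [h2] at e
    have h3 := conj_inv_shift e (H.comm hp hx).inv_right
    exact ⟨x⁻¹, Or.inr rfl, by rwa [inv_inv p] at h3⟩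

theorem shift (hp : Pt p) {a : G} (ha : a ∈ Q p) (h : a ∉ zpowers p) : ∃ y ∈ Q p, y * a * y⁻¹ = a * p := by
  obtain ⟨x, hx, h1⟩ : ∃ x ∈ Q p, ¬ Commute x a := by
    by_contra h2
    push Not at h2
    exact h ((H.es hp).nd a ha fun x hx => (h2 x hx).symm)
  obtain ⟨y, rfl | rfl, h2⟩ := H.shift' hp hx ha h1
  · exact ⟨_, hx, h2⟩
  · exact ⟨_, inv_mem hx, h2⟩

theorem pt_mul (hp : Pt p) (hq : Pt q) (h : q ∈ Q p) (hn : q ∉ zpowers p) {z : G} (hz : z ∈ zpowers p) : Pt (q * z) := by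
  obtain ⟨y, hy, e⟩ := H.shift hp h hn
  rcases zp (H.cube hp) hz with rfl | rfl | rfl
  · rwa [mul_one]
  · exact e ▸ H.conj hq y
  · exact conj_inv_shift e (H.comm hp hy) ▸ H.conj hq y⁻¹

theorem symm (hp : Pt p) (hq : Pt q) (h : q ∈ Q p) : p ∈ Q q := by
  by_cases hn : q ∈ zpowers p
  · exact mem_of_zp (H.cube hp) hn (H.ne hq) (H.self hq)
  · have hc := H.comm hp h
    refine H.pure hq hp hc ?_ ?_
    · rw [← hc.eq]
      exact H.pt_mul hp hq h hn (mem_zpowers p)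
    · have h1 := H.inv (H.pt_mul hp hq h hn (inv_mem (mem_zpowers p)))
      rwa [mul_inv_rev, inv_inv] at h1

theorem zp_le (hp : Pt p) (hq : Pt q) (h : q ∈ Q p) {z : G} (hz : z ∈ zpowers p) : z ∈ Q q :=
  zpowers_le.2 (H.symm hp hq h) hz

theorem inf_zp (_hp : Pt p) (hw : Pt w) (hn : w ∉ zpowers p) {z : G} (h1 : z ∈ zpowers p) (h2 : z ∈ zpowers w) : z = 1 := by
  by_contra h
  exact hn (mem_of_zp (H.cube hw) h2 h h1)

theorem comm_inf (hp : Pt p) (hw : Pt w) (hn : w ∉ zpowers p) {x y : G} (hx : x ∈ Q p) (hx' : x ∈ Q w) (hy : y ∈ Q p)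
    (hy' : y ∈ Q w) : Commute x y :=
  comm_of_eq_one (H.inf_zp hp hw hn ((H.es hp).com x hx y hy) ((H.es hw).com x hx' y hy'))

theorem meet' (hp : Pt p) (hw : Pt w) (hc : Commute p w) (hn : w ∉ Q p) (hq : Pt q) (h : q ∈ Q p) (hc' : Commute q w) :
    ∃ z ∈ zpowers p, q * z ∈ Q w := by
  by_cases h1 : q ∈ zpowers p
  · exact ⟨q⁻¹, inv_mem h1, by rw [mul_inv_cancel]; exact one_mem _⟩
  rcases H.meet hw hq hp (H.pt_mul hp hq h h1 (mem_zpowers p)) (H.pt_mul hp hq h h1 (inv_mem (mem_zpowers p)))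
    hc'.symm hc.symm (H.comm hp h) with h2 | h2 | h2 | h2
  · exact ⟨1, one_mem _, by rwa [mul_one]⟩
  · exact absurd (H.symm hw hp h2) hn
  · exact ⟨p, mem_zpowers p, h2⟩
  · exact ⟨p⁻¹, inv_mem (mem_zpowers p), h2⟩

theorem comm_pts (hp : Pt p) (hw : Pt w) (hc : Commute p w) (hn : w ∉ Q p) {a b : G} (ha : Pt a) (ha' : a ∈ Q p)
    (ha'' : Commute a w) (hb : Pt b) (hb' : b ∈ Q p) (hb'' : Commute b w) : Commute a b := by
  obtain ⟨z, hz, h1⟩ := H.meet' hp hw hc hn ha ha' ha''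
  obtain ⟨z', hz', h2⟩ := H.meet' hp hw hc hn hb hb' hb''
  have h3 := H.comm_inf hp hw (fun h => hn ((H.es hp).le h)) (mul_mem ha' ((H.es hp).le hz)) h1
    (mul_mem hb' ((H.es hp).le hz')) h2
  have h4 : Commute (a * z) b := by
    have h5 := h3.mul_right (comm_zp (H.comm hp (mul_mem ha' ((H.es hp).le hz))) hz').inv_right
    rwa [mul_inv_cancel_right] at h5
  have h5 := h4.mul_left (comm_zp (H.comm hp hb') hz).inv_right.symm
  rwa [mul_inv_cancel_right] at h5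

theorem dep (hp : Pt p) {a b : G} (ha : a ∈ Q p) (hb : b ∈ Q p) (h : ∀ x ∈ Q p, Commute x a → Commute x b) :
    ∃ z ∈ zpowers a, b * z ∈ zpowers p := by
  by_cases h1 : a ∈ zpowers p
  · exact ⟨1, one_mem _, by
      rw [mul_one]
      exact (H.es hp).nd b hb fun x hx => (h x hx (comm_zp (H.comm hp hx) h1)).symm⟩
  obtain ⟨y, hy, e⟩ := H.shift hp ha h1
  obtain ⟨z, hz, h2⟩ : ∃ z ∈ zpowers a, Commute y (b * z) := by
    by_cases h3 : Commute y b
    · exact ⟨1, one_mem _, by rwa [mul_one]⟩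
    obtain ⟨y', rfl | rfl, e'⟩ := H.shift' hp hy hb h3
    · refine ⟨a⁻¹, inv_mem (mem_zpowers a), mul_inv_eq_iff_eq_mul.1 ?_⟩
      calc y' * (b * a⁻¹) * y'⁻¹ = (y' * b * y'⁻¹) * (y' * a * y'⁻¹)⁻¹ := by group
        _ = _ := by rw [e, e']; group
    · refine ⟨a, mem_zpowers a, (Commute.inv_left_iff.1 (mul_inv_eq_iff_eq_mul.1 ?_))⟩
      calc y⁻¹ * (b * a) * y⁻¹⁻¹ = (y⁻¹ * b * y⁻¹⁻¹) * (y⁻¹ * a * y⁻¹⁻¹) := by group
        _ = b * (p * a) * p⁻¹ := by rw [e', conj_inv_shift e (H.comm hp hy)]; group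
        _ = _ := by rw [← (H.comm hp ha).eq]; group
  refine ⟨z, hz, (H.es hp).nd _ (mul_mem hb (zpowers_le.2 ha hz)) fun x hx => Commute.symm ?_⟩
  have key : ∀ x ∈ Q p, Commute x a → Commute x (b * z) := fun x hx h3 => (h x hx h3).mul_right (comm_zp h3 hz)
  have key' : ∀ x ∈ Q p, x * a * x⁻¹ = a * p → Commute x (b * z) := fun x hx h3 => by
    have h4 := key (y⁻¹ * x) (mul_mem (inv_mem hy) hx) (mul_inv_eq_iff_eq_mul.1 (by
      calc y⁻¹ * x * a * (y⁻¹ * x)⁻¹ = y⁻¹ * (x * a * x⁻¹) * y := by group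
        _ = a := by rw [h3, ← e]; group))
    have h5 := h2.mul_left h4
    rwa [mul_inv_cancel_left] at h5
  by_cases h3 : Commute x a
  · exact key x hx h3
  obtain ⟨x', rfl | rfl, e'⟩ := H.shift' hp hx ha h3
  · exact key' _ hx e'
  · exact Commute.inv_left_iff.1 (key' _ (inv_mem hx) e')

variable [Finite G]

theorem card_ab (hp : Pt p) {A : Subgroup G} (hA : A ≤ Q p) (h : ∀ x ∈ A, ∀ y ∈ A, Commute x y) :
    Nat.card A ≤ 3 ^ 6 := by
  have h1 := DS.Sp.F24.card_sq_le Nat.prime_three (H.card_zp hp) (H.es hp).com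
    (fun x hx a ha => ((H.es hp).cen a ha x hx).symm) hA h
  have h2 : Nat.card ↥(A ⊓ centralizer (Q p : Set G)) ≤ 3 := by
    rw [← H.card_zp hp]
    exact card_le_of_le fun x hx => (H.es hp).nd x (hA hx.1) fun y hy => (mem_centralizer_iff.1 hx.2 y hy).symm
  rw [H.card hp] at h1
  have h3 : Nat.card A * Nat.card A ≤ 3 ^ 6 * 3 ^ 6 := h1.trans (by omega)
  exact Nat.mul_self_le_mul_self_iff.1 h3

theorem not_solv (hp : Pt p) (hq : Pt q) (h : q ∈ Q p) (hn : q ∉ zpowers p) :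
    ¬ Group.IsSolvable ↥(T ⊓ centralizer {p} ⊓ centralizer {q}) := by
  have hpq := H.symm hp hq h
  have h1 := card_le_mul (Q q) (zpowers q) p fun b hb => (H.es hq).com b hb p hpq
  rw [H.card hq, H.card_zp hq] at h1
  obtain ⟨q1, a1, a2, a3, a4, a5⟩ := H.line hp (Q q ⊓ centralizer {p}) ((H.es hq).isPGroup.to_le inf_le_left)
    fun b hb => (mem_cen.1 hb.2).symm
  have hc : Commute q1 q := by
    by_contra hc
    have h2 : q1 * q * q1⁻¹ ∉ zpowers q := fun h2 =>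
      hc (comm_of_eq_one (H.inf_zp hp hq hn ((H.es hp).com q1 a2 q h) (mul_mem h2 (inv_mem (mem_zpowers q)))))
    have h3 : ∀ b ∈ Q q ⊓ centralizer {p}, b ∈ Q (q1 * q * q1⁻¹) := fun b hb => by
      have h4 := H.Q_conj hq q1 _ (mul_mem (H.zp_le hp hq h (a4 b hb)) hb.1)
      rw [← mul_assoc, (comm_zp (H.comm hp a2) (a4 b hb)).eq] at h4
      rwa [show b * q1 * b⁻¹ * q1⁻¹ * q1 * b * q1⁻¹ = b by group] at h4
    have h4 := H.card_ab hq (A := Q q ⊓ centralizer {p}) inf_le_left fun x hx y hy =>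
      H.comm_inf hq (H.conj hq q1) h2 hx.1 (h3 x hx) hy.1 (h3 y hy)
    omega
  have h2 := card_le_mul (Q q ⊓ centralizer {p}) (zpowers p) q1 a4
  rw [H.card_zp hp] at h2
  have h3 : q1 ∈ Q q := by
    by_contra h3
    have h4 := H.small hq a1 hc.symm h3
    have h5 : Nat.card ↥(Q q ⊓ centralizer {p} ⊓ centralizer {q1}) ≤ Nat.card ↥(Q q ⊓ centralizer {q1}) :=
      card_le_of_le (inf_le_inf_right _ inf_le_left)
    omega
  obtain ⟨z, hz, h4⟩ := H.dep hq hpq h3 fun x hx hx' =>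
    comm_of_eq_one (H.inf_zp hp hq hn (a4 x ⟨hx, mem_cen.2 hx'⟩) ((H.es hq).com x hx q1 h3))
  refine fun hs => a5 (solv_mono (le_inf inf_le_left fun g hg => mem_cen.2 ?_) hs)
  refine (mem_cen.1 (mem_of_zp (H.cube hq) h4 (fun e => a3 ?_) (K := centralizer {g}) (mem_cen.2 (Commute.symm ?_)))).symm
  · rw [eq_inv_of_mul_eq_one_left e]
    exact inv_mem hz
  · exact (mem_cen.1 hg.2).mul_right (comm_zp (mem_cen.1 hg.1.2) hz)

variable {S : Subgroup G} (hS : ∀ Y : Subgroup G, Y ≤ T → Y ≠ ⊥ → IsPGroup 3 Y → (∀ s ∈ S, ∀ y ∈ Y, s * y * s⁻¹ ∈ Y) →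
  Group.IsSolvable ↥(T ⊓ normalizer (Y : Set G)))

include hS

/-- no invariant singular set -/
theorem sing {I : Set G} (hp : p ∈ I) (hI : ∀ a ∈ I, Pt a) (hc : ∀ a ∈ I, ∀ b ∈ I, b ∈ Q a)
    (hinv : ∀ s ∈ S, ∀ a ∈ I, s * a * s⁻¹ ∈ I) : False := by
  have hle : ∀ a ∈ I, closure I ≤ Q a := fun a ha => (closure_le _).2 (hc a ha)
  have hcm : ∀ a ∈ I, ∀ b ∈ I, Commute a b := fun a ha b hb => H.comm (hI b hb) (hc b hb a ha)
  have hs := hS (closure I) ((hle p hp).trans (H.Q_le (hI p hp)))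
    (fun e => H.ne (hI p hp) (mem_bot.1 (e ▸ subset_closure hp))) (closure_pg hcm fun a ha => H.cube (hI a ha))
    fun s hs y hy => conj_closure (fun a ha => subset_closure (hinv s hs a ha)) hy
  have hcen : ∀ A : Subgroup G, A ≤ T → (∀ g ∈ A, ∀ a ∈ I, Commute g a) → Group.IsSolvable A := fun A h1 h2 =>
    solv_mono (le_inf h1 (le_norm fun g hg y hy => conj_closure (fun a ha => by
      rw [conj_of_comm (h2 g hg a ha)]
      exact subset_closure ha) hy)) hs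
  by_cases h1 : ∀ a ∈ I, a ∈ zpowers p
  · obtain ⟨q, -, -, -, -, h2⟩ := H.line (hI p hp) ⊥ IsPGroup.of_bot fun b hb => by
      rw [mem_bot.1 hb]
      exact Commute.one_right p
    exact h2 (hcen _ (inf_le_left.trans inf_le_left) fun g hg a ha => comm_zp (mem_cen.1 hg.1.2) (h1 a ha))
  push Not at h1
  obtain ⟨q, hq, h1⟩ := h1
  by_cases h2 : ∀ a ∈ I, ∃ z ∈ zpowers q, a * z ∈ zpowers p
  · refine H.not_solv (hI p hp) (hI q hq) (hc p hp q hq) h1 (hcen _ (inf_le_left.trans inf_le_left) fun g hg a ha => ?_)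
    obtain ⟨z, hz, h3⟩ := h2 a ha
    have h4 := (comm_zp (mem_cen.1 hg.1.2) h3).mul_right (comm_zp (mem_cen.1 hg.2) hz).inv_right
    rwa [mul_inv_cancel_right] at h4
  push Not at h2
  obtain ⟨r, hr, h2⟩ := h2
  let Ind : G → G → G → Prop := fun a b c => a ∈ I ∧ b ∈ I ∧ c ∈ I ∧
    ∀ x ∈ zpowers a, ∀ y ∈ zpowers b, ∀ z ∈ zpowers c, x * y * z = 1 → x = 1 ∧ y = 1 ∧ z = 1
  have hz : ∀ {a b x y : G}, a ∈ I → b ∈ I → x ∈ zpowers a → y ∈ zpowers b → x * y = y * x := fun ha hb hx hy =>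
    (comm_zp (comm_zp (hcm _ hb _ ha) hx).symm hy).eq
  have s1 : ∀ a b c, Ind a b c → Ind a c b := fun a b c h => ⟨h.1, h.2.2.1, h.2.1, fun x hx y hy z hz' e => by
    rw [mul_assoc, hz h.2.2.1 h.2.1 hy hz', ← mul_assoc] at e
    have h3 := h.2.2.2 x hx z hz' y hy e
    exact ⟨h3.1, h3.2.2, h3.2.1⟩⟩
  have s2 : ∀ a b c, Ind a b c → Ind b a c := fun a b c h => ⟨h.2.1, h.1, h.2.2.1, fun x hx y hy z hz' e => by
    rw [hz h.2.1 h.1 hx hy] at e
    have h3 := h.2.2.2 y hy x hx z hz' e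
    exact ⟨h3.2.1, h3.1, h3.2.2⟩⟩
  have key : ∀ n, ∀ a b c, Ind a b c → ∃ x : ↥(T ⊓ normalizer (closure I : Set G)),
      x ∈ derivedSeries _ n ∧ El a b c x := by
    intro n
    induction n with
    | zero =>
      intro a b c h
      have ha := hI a h.1
      obtain ⟨x, hx, h3, h4⟩ : ∃ x ∈ Q a, Commute x c ∧ ¬ Commute x b := by
        by_contra h3
        push Not at h3
        obtain ⟨z, hz', h4⟩ := H.dep ha (hc a h.1 c h.2.2.1) (hc a h.1 b h.2.1) h3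
        exact H.ne (hI b h.2.1) (h.2.2.2 _ (inv_mem h4) b (mem_zpowers b) z hz' (by group)).2.1
      have h5 : Q a ≤ T ⊓ normalizer (closure I : Set G) := le_inf (H.Q_le ha) (le_norm fun g hg y hy => by
        have h6 := mul_mem (zpowers_le.2 (subset_closure h.1) ((H.es ha).com g hg y (hle a h.1 hy))) hy
        rwa [inv_mul_cancel_right] at h6)
      obtain ⟨y, rfl | rfl, e⟩ := H.shift' ha hx (hc a h.1 b h.2.1) h4
      · exact ⟨⟨y, h5 hx⟩, mem_top _, e, H.comm ha hx, h3⟩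
      · exact ⟨⟨x⁻¹, h5 (inv_mem hx)⟩, mem_top _, e, H.comm ha (inv_mem hx), h3.inv_left⟩
    | succ n ih =>
      intro a b c h
      obtain ⟨x, hx, h3⟩ := ih a c b (s1 _ _ _ h)
      obtain ⟨y, hy, h4⟩ := ih c b a (s1 _ _ _ (s2 _ _ _ (s1 _ _ _ h)))
      exact ⟨x * y * x⁻¹ * y⁻¹, commutator_mem_commutator hx hy, h3.comm (hcm a h.1 c h.2.2.1) h4⟩
  obtain ⟨n, hn⟩ := hs.solvable
  obtain ⟨x, hx, h3, -⟩ := key n p q r ⟨hp, hq, hr, fun x hx y hy z hz' e => by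
    have h3 : z = 1 := by
      by_contra h3
      have h4 : z = (x * y)⁻¹ := eq_inv_of_mul_eq_one_right e
      rcases zp (H.cube (hI r hr)) hz' with h5 | h5 | h5
      · exact h3 h5
      · refine h2 y hy ?_
        rw [← h5, h4, hz hp hq hx hy, mul_inv_rev, inv_mul_cancel_right]
        exact inv_mem hx
      · refine h2 y⁻¹ (inv_mem hy) ?_
        rw [← inv_inv r, ← h5, h4, inv_inv, mul_inv_cancel_right]
        exact hx
    rw [h3, mul_one] at e
    have h4 : y = 1 := H.inf_zp (hI p hp) (hI q hq) h1 (by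
      rw [eq_inv_of_mul_eq_one_right e]
      exact inv_mem hx) hy
    rw [h4, mul_one] at e
    exact ⟨e, h4, h3⟩⟩
  rw [hn, mem_bot] at hx
  rw [hx, OneMemClass.coe_one, one_mul, inv_one, mul_one, left_eq_mul] at h3
  exact H.ne (hI p hp) h3

end Geo

/-- the orbit of commuting points -/
structure Orb {G : Type} [Group G] (S : Subgroup G) (Pt : G → Prop) (Q : G → Subgroup G) (P : Set G) : Prop where
  pt : ∀ p ∈ P, Pt p
  comm : ∀ p ∈ P, ∀ w ∈ P, Commute p w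
  inv : ∀ s ∈ S, ∀ p ∈ P, s * p * s⁻¹ ∈ P
  trans : ∀ p ∈ P, ∀ w ∈ P, ∃ s ∈ S, s * p * s⁻¹ = w
  far : ∀ p ∈ P, ∃ w ∈ P, w ∉ Q p

namespace Geo

variable {G : Type} [Group G] {T S : Subgroup G} {Pt : G → Prop} {Q : G → Subgroup G} {P : Set G} {p q w : G}

variable (Pt Q P) in
/-- the points of `Q p` which commute with the orbit -/
def Lam (p : G) : Set G := {q | Pt q ∧ q ∈ Q p ∧ ∀ w ∈ P, Commute q w}

variable (H : Geo T Pt Q) (O : Orb S Pt Q P)

include H O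

theorem mem_Lam (_hp : p ∈ P) (hw : w ∈ P) (h : w ∈ Q p) : w ∈ Lam Pt Q P p := ⟨O.pt w hw, h, O.comm w hw⟩

theorem Lam_conj (hp : Pt p) {s : G} (hs : s ∈ S) (h : q ∈ Lam Pt Q P p) :
    s * q * s⁻¹ ∈ Lam Pt Q P (s * p * s⁻¹) := by
  refine ⟨H.conj h.1 s, H.Q_conj hp s q h.2.1, fun w hw => ?_⟩
  have h1 := conj_comm (h.2.2 _ (O.inv s⁻¹ (inv_mem hs) w hw)) s
  rwa [show s * (s⁻¹ * w * s⁻¹⁻¹) * s⁻¹ = w by group] at h1

theorem comm_P (hp : p ∈ P) {z : G} (hz : z ∈ zpowers p) (hw : w ∈ P) : Commute z w :=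
  (comm_zp (O.comm w hw p hp) hz).symm

theorem Lam_mul (hw : w ∈ P) (hq : q ∈ Lam Pt Q P w) (hn : q ∉ zpowers w) {z : G} (hz : z ∈ zpowers w)
    (h : q * z ∈ Q p) : q * z ∈ Lam Pt Q P p :=
  ⟨H.pt_mul (O.pt w hw) hq.1 hq.2.1 hn hz, h, fun u hu => (hq.2.2 u hu).mul_left (H.comm_P O hw hz hu)⟩

theorem Lam_comm (hp : p ∈ P) {a b : G} (ha : a ∈ Lam Pt Q P p) (hb : b ∈ Lam Pt Q P p) : Commute a b := by
  obtain ⟨w, hw, hn⟩ := O.far p hp
  exact H.comm_pts (O.pt p hp) (O.pt w hw) (O.comm p hp w hw) hn ha.1 ha.2.1 (ha.2.2 w hw) hb.1 hb.2.1 (hb.2.2 w hw)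

theorem Lam_meet (hp : p ∈ P) (hw : w ∈ P) (hn : w ∉ Q p) (hq : q ∈ Lam Pt Q P p) : ∃ z ∈ zpowers p, q * z ∈ Q w :=
  H.meet' (O.pt p hp) (O.pt w hw) (O.comm p hp w hw) hn hq.1 hq.2.1 (hq.2.2 w hw)

theorem not_symm (hp : p ∈ P) (hw : w ∈ P) (hn : w ∉ Q p) : p ∉ Q w := fun h => hn (H.symm (O.pt w hw) (O.pt p hp) h)

theorem exists_Lam (hp : p ∈ P) : ∃ q ∈ Lam Pt Q P p, q ∉ zpowers p := by
  have hp' := O.pt p hp
  obtain ⟨q, a1, a2, a3, a4, -⟩ := H.line hp' (closure P) (closure_pg O.comm fun a ha => H.cube (O.pt a ha))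
    fun b hb => closure_comm O.comm (subset_closure hp) hb
  have key : ∀ w ∈ P, w ∉ Q p → Commute q w := fun w hw hn => by
    have h1 := a4 w (subset_closure hw)
    have h2 := comm_zp (H.comm hp' a2) h1
    have h3 := H.comm_P O hp h1 hw
    generalize e : w * q * w⁻¹ * q⁻¹ = z at h1 h2 h3
    have h4 : Pt (w * z) := by
      have h5 := H.conj (O.pt w hw) q⁻¹
      rwa [show q⁻¹ * w * q⁻¹⁻¹ = q⁻¹ * (w * q * w⁻¹ * q⁻¹) * q * w by group, e, mul_assoc q⁻¹, ← h2.eq,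
        inv_mul_cancel_left, h3.eq] at h5
    have h5 : Pt (w * z⁻¹) := by
      have h5 := H.conj (O.pt w hw) q
      rwa [show q * w * q⁻¹ = (w * q * w⁻¹ * q⁻¹)⁻¹ * w by group, e, h3.inv_left.eq] at h5
    rcases zp (H.cube hp') h1 with rfl | rfl | rfl
    · exact (comm_of_eq_one e).symm
    · exact absurd (H.pure hp' (O.pt w hw) (O.comm _ hp w hw) h4 h5) hn
    · rw [inv_inv] at h5
      exact absurd (H.pure hp' (O.pt w hw) (O.comm _ hp w hw) h5 h4) hn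
  refine ⟨q, ⟨a1, a2, fun u hu => ?_⟩, a3⟩
  by_cases h : u ∈ Q p
  · obtain ⟨w, hw, hn⟩ := O.far p hp
    exact H.comm_pts hp' (O.pt w hw) (O.comm p hp w hw) hn a1 a2 (key w hw hn) (O.pt u hu) h (O.comm u hu w hw)
  · exact key u hu h

section Two

variable (h2 : ∀ p ∈ P, ∃ q ∈ Lam Pt Q P p, ∃ q' ∈ Lam Pt Q P p, q' ∉ Q q)

include h2

theorem pairW (hp : p ∈ P) (hw : w ∈ P) (hn : w ∉ Q p) :
    ∃ q ∈ Lam Pt Q P p, ∃ q' ∈ Lam Pt Q P p, q ∈ Q w ∧ q' ∈ Q w ∧ q' ∉ Q q := by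
  have hp' := O.pt p hp
  obtain ⟨q, hq, q', hq', h⟩ := h2 p hp
  have h' : q ∉ Q q' := fun e => h (H.symm hq'.1 hq.1 e)
  have n1 : q ∉ zpowers p := fun e => h' (H.zp_le hp' hq'.1 hq'.2.1 e)
  have n2 : q' ∉ zpowers p := fun e => h (H.zp_le hp' hq.1 hq.2.1 e)
  obtain ⟨z, hz, a1⟩ := H.Lam_meet O hp hw hn hq
  obtain ⟨z', hz', a2⟩ := H.Lam_meet O hp hw hn hq'
  have b1 := H.Lam_mul O hp hq n1 hz (mul_mem hq.2.1 ((H.es hp').le hz))
  refine ⟨_, b1, _, H.Lam_mul O hp hq' n2 hz' (mul_mem hq'.2.1 ((H.es hp').le hz')), a1, a2, fun e => h' ?_⟩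
  have b2 := H.symm b1.1 hq'.1 (((Q _).mul_mem_cancel_right (H.zp_le hp' b1.1 b1.2.1 hz')).1 e)
  exact ((Q _).mul_mem_cancel_right (H.zp_le hp' hq'.1 hq'.2.1 hz)).1 b2

theorem kind1 (hp : p ∈ P) (hw : w ∈ P) (hn : w ∉ Q p) :
    Q p ⊓ centralizer {w} ≤ closure {q | Pt q ∧ q ∈ Q p ∧ Commute q w} ∧
      ¬ Group.IsSolvable ↥(T ⊓ centralizer {p} ⊓ centralizer {w}) := by
  have hp' := O.pt p hp
  refine (H.kind hp' (O.pt w hw) (O.comm p hp w hw) hn).resolve_right fun h => ?_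
  obtain ⟨q, hq, q', hq', -, -, h1⟩ := H.pairW O h2 hp hw hn
  have key : ∀ b, Pt b → b ∈ Q p → Commute b w → b ∉ Q q → Pt (q * b) := fun b b1 b2 b3 b4 =>
    (h q b hq.1 b1 hq.2.1 b2 (hq.2.2 w hw) b3).resolve_left fun e =>
      b4 (((Q q).mul_mem_cancel_left (H.self hq.1)).1 (H.zp_le hp' hq.1 hq.2.1 e))
  exact h1 (H.symm hq'.1 hq.1 (H.pure hq'.1 hq.1 (H.Lam_comm O hp hq' hq)
    (key q' hq'.1 hq'.2.1 (hq'.2.2 w hw) h1)
    (key q'⁻¹ (H.inv hq'.1) (inv_mem hq'.2.1) (hq'.2.2 w hw).inv_left fun e => h1 (inv_mem_iff.1 e))))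

theorem near (hp : p ∈ P) (hw : w ∈ P) (hn : w ∉ Q p) {u : G} (hu : u ∈ P) : ∃ v ∈ zpowers w, u * v ∈ Q p := by
  have hp' := O.pt p hp
  have hw' := O.pt w hw
  have hu' := O.pt u hu
  by_cases h1 : u ∈ Q p
  · exact ⟨1, one_mem _, by rwa [mul_one]⟩
  by_cases h3 : u ∈ Q w
  · exact H.Lam_meet O hw hp (H.not_symm O hp hw hn) (H.mem_Lam O hw hu h3)
  obtain ⟨q, hq, q', hq', a1, -, a2⟩ := H.pairW O h2 hp hw hn
  obtain ⟨z, hz, a3⟩ := H.Lam_meet O hp hu h1 hq'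
  have hy := H.Lam_mul O hp hq' (fun e => a2 (H.zp_le hp' hq.1 hq.2.1 e)) hz (mul_mem hq'.2.1 ((H.es hp').le hz))
  have a4 : q' * z ∉ Q q := fun e => a2 (((Q q).mul_mem_cancel_right (H.zp_le hp' hq.1 hq.2.1 hz)).1 e)
  generalize q' * z = y at a3 hy a4
  have a5 : w ∉ zpowers q := fun e => hn (zpowers_le.2 hq.2.1 e)
  have a6 := H.symm hw' hq.1 a1
  obtain ⟨v, hv, a7⟩ : ∃ v ∈ zpowers q, w * v ∉ Q y := by
    by_contra a7
    push Not at a7
    have a8 := a7 1 (one_mem _)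
    rw [mul_one] at a8
    exact a4 (H.symm hy.1 hq.1 (((Q y).mul_mem_cancel_left a8).1 (a7 q (mem_zpowers q))))
  have hc := H.pt_mul hq.1 hw' a6 a5 hv
  have hv' : v ∈ Q p := zpowers_le.2 hq.2.1 hv
  have cv : ∀ x ∈ P, Commute x v := fun x hx => comm_zp (hq.2.2 x hx).symm hv
  have a8 : u ∉ zpowers y := fun e => h1 (zpowers_le.2 hy.2.1 e)
  have a9 := H.symm hu' hy.1 a3
  obtain ⟨v1, hv1, b1⟩ := H.meet' hy.1 hc ((hy.2.2 w hw).mul_right (comm_zp (H.Lam_comm O hp hy hq) hv)) a7 hu' a9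
    ((O.comm u hu w hw).mul_right (cv u hu))
  have hv1' : v1 ∈ Q p := zpowers_le.2 hy.2.1 hv1
  obtain ⟨v2, ⟨k, rfl⟩, b2⟩ := H.meet' hc hp' ((O.comm w hw p hp).mul_left (cv p hp).symm)
    (fun e => hn (((Q p).mul_mem_cancel_right hv').1 (H.symm hc hp' e))) (H.pt_mul hy.1 hu' a9 a8 hv1) b1
    ((O.comm u hu p hp).mul_left (H.comm hp' hv1'))
  refine ⟨w ^ k, zpow_mem_zpowers w k, ?_⟩
  have b3 : u * v1 * (w * v) ^ k = u * w ^ k * (v1 * v ^ k) := by
    rw [(cv w hw).mul_zpow, mul_assoc u, ← mul_assoc v1, ((comm_zp (hy.2.2 w hw).symm hv1).symm.zpow_right k).eq]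
    group
  change u * v1 * (w * v) ^ k ∈ Q p at b2
  rw [b3] at b2
  exact ((Q p).mul_mem_cancel_right (mul_mem hv1' (zpow_mem hv' k))).1 b2

theorem D_le (hp : p ∈ P) (hw : w ∈ P) (hn : w ∉ Q p) : Q p ⊓ centralizer {w} ≤ closure (Lam Pt Q P p) := by
  have h1 := (H.kind1 O h2 hp hw hn).1
  refine h1.trans (closure_mono fun q hq => ⟨hq.1, hq.2.1, fun u hu => ?_⟩)
  obtain ⟨v, hv, h3⟩ := H.near O h2 hp hw hn hu
  have h4 := closure_comm (fun a ha b hb => H.comm_pts (O.pt p hp) (O.pt w hw) (O.comm p hp w hw) hn ha.1 ha.2.1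
    ha.2.2 hb.1 hb.2.1 hb.2.2) (subset_closure hq)
    (h1 ⟨h3, mem_cen.2 ((O.comm u hu w hw).mul_left (H.comm_P O hw hv hw))⟩)
  have h5 := h4.mul_right (comm_zp hq.2.2 hv).inv_right
  rwa [mul_inv_cancel_right] at h5

omit H O h2 in
theorem zp_mem (hw : w ∈ P) {z : G} (hz : z ∈ zpowers w) (X : Set G) : z ∈ closure (X ∪ P) :=
  zpowers_le.2 (Subgroup.subset_closure (Set.mem_union_right X hw)) hz

theorem D_mem (hp : p ∈ P) (hw : w ∈ P) (hn : w ∉ Q p) {x : G} (hx : x ∈ Q p) (hc : Commute x w) :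
    x ∈ closure (Lam Pt Q P p ∪ P) :=
  closure_mono Set.subset_union_left (H.D_le O h2 hp hw hn ⟨hx, mem_cen.2 hc⟩)

theorem A_far (hp : p ∈ P) (hw : w ∈ P) (hn : w ∉ Q p) :
    closure (Lam Pt Q P p ∪ P) ≤ closure (Lam Pt Q P w ∪ P) := by
  refine (closure_le _).2 ?_
  rintro q (hq | hq)
  · obtain ⟨z, hz, h1⟩ := H.Lam_meet O hp hw hn hq
    exact (Subgroup.mul_mem_cancel_right _ (zp_mem hp hz _)).1 (H.D_mem O h2 hw hp (H.not_symm O hp hw hn) h1
      ((hq.2.2 p hp).mul_left (H.comm_P O hp hz hp)))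
  · exact subset_closure (Or.inr hq)

theorem A_le (hp : p ∈ P) {p' : G} (hp' : p' ∈ P) : closure (Lam Pt Q P p ∪ P) ≤ closure (Lam Pt Q P p' ∪ P) := by
  by_cases h0 : p' ∈ Q p
  swap
  · exact H.A_far O h2 hp hp' h0
  obtain ⟨w, hw, hn⟩ := O.far p hp
  obtain ⟨w', hw', hn'⟩ := O.far p' hp'
  by_cases h1 : w ∈ Q p'
  swap
  · exact (H.A_far O h2 hp hw hn).trans (H.A_far O h2 hw hp' (H.not_symm O hp' hw h1))
  by_cases h3 : w' ∈ Q p
  swap
  · exact (H.A_far O h2 hp hw' h3).trans (H.A_far O h2 hw' hp' (H.not_symm O hp' hw' hn'))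
  by_cases h4 : w' ∈ Q w
  swap
  · exact ((H.A_far O h2 hp hw hn).trans (H.A_far O h2 hw hw' h4)).trans
      (H.A_far O h2 hw' hp' (H.not_symm O hp' hw' hn'))
  have a0 := O.pt p hp
  have a1 := H.symm a0 (O.pt p' hp') h0
  refine (closure_le _).2 ?_
  rintro q (hq | hq)
  swap
  · exact subset_closure (Or.inr hq)
  by_cases h5 : q ∈ zpowers p
  · exact zp_mem hp h5 _
  obtain ⟨z, hz, h6⟩ := H.Lam_meet O hp hw hn hq
  refine (Subgroup.mul_mem_cancel_right _ (zp_mem hp hz _)).1 ?_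
  have hy := H.Lam_mul O hp hq h5 hz (mul_mem hq.2.1 ((H.es a0).le hz))
  generalize q * z = y at h6 hy
  have h7 : y ∉ zpowers w := fun e => hn (mem_of_zp (H.cube (O.pt w hw)) e (H.ne hy.1) hy.2.1)
  have hc := H.pt_mul a0 (O.pt w' hw') h3 (fun e => hn' (zpowers_le.2 a1 e)) (mem_zpowers p)
  have cc : ∀ x ∈ P, Commute x (w' * p) := fun x hx => (O.comm x hx w' hw').mul_right (O.comm x hx p hp)
  obtain ⟨v, hv, b1⟩ := H.meet' (O.pt w hw) hc (cc w hw)
    (fun e => H.not_symm O hp hw hn (((Q w).mul_mem_cancel_left h4).1 e)) hy.1 h6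
    ((hy.2.2 w' hw').mul_right (hy.2.2 p hp))
  have b2 := H.Lam_mul O hw ⟨hy.1, h6, hy.2.2⟩ h7 hv b1
  obtain ⟨v2, hv2, b3⟩ := H.meet' hc (O.pt p' hp') (cc p' hp').symm
    (fun e => hn' (((Q p').mul_mem_cancel_right a1).1 (H.symm hc (O.pt p' hp') e))) b2.1 b1 (b2.2.2 p' hp')
  have b4 := H.D_mem O h2 hp' hw' hn' b3 ((b2.2.2 w' hw').mul_left (comm_zp (cc w' hw') hv2).symm)
  have b5 : v2 ∈ closure (Lam Pt Q P p' ∪ P) :=
    zpowers_le.2 (mul_mem (zp_mem hw' (mem_zpowers w') _) (zp_mem hp (mem_zpowers p) _)) hv2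
  exact (Subgroup.mul_mem_cancel_right _ (zp_mem hw hv _)).1 ((Subgroup.mul_mem_cancel_right _ b5).1 b4)

end Two

variable [Finite G] (hS : ∀ Y : Subgroup G, Y ≤ T → Y ≠ ⊥ → IsPGroup 3 Y → (∀ s ∈ S, ∀ y ∈ Y, s * y * s⁻¹ ∈ Y) →
  Group.IsSolvable ↥(T ⊓ normalizer (Y : Set G)))

include hS

theorem case1 (hp : p ∈ P) (h1 : ∀ p ∈ P, ∀ a ∈ Lam Pt Q P p, ∀ b ∈ Lam Pt Q P p, b ∈ Q a) : False := by
  have hsub : ∀ p ∈ P, ∀ p' ∈ P, p' ∈ Q p → ∀ q ∈ Lam Pt Q P p, q ∈ Lam Pt Q P p' := fun p hp p' hp' h q hq =>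
    ⟨hq.1, h1 p hp p' (H.mem_Lam O hp hp' h) q hq, hq.2.2⟩
  have a0 := O.pt p hp
  obtain ⟨w, hw, hn⟩ := O.far p hp
  obtain ⟨q, hq, h2⟩ := H.exists_Lam O hp
  obtain ⟨z, hz, h3⟩ := H.Lam_meet O hp hw hn hq
  have hy := H.Lam_mul O hp hq h2 hz (mul_mem hq.2.1 ((H.es a0).le hz))
  have h4 : q * z ∉ zpowers p := fun e => h2 ((Subgroup.mul_mem_cancel_right _ hz).1 e)
  generalize q * z = y at h3 hy h4
  have hy' : y ∈ Lam Pt Q P w := ⟨hy.1, h3, hy.2.2⟩
  have h5 : y ∉ zpowers w := fun e => hn (mem_of_zp (H.cube (O.pt w hw)) e (H.ne hy.1) hy.2.1)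
  refine H.sing hS (I := {a | ∀ u ∈ P, a ∈ Lam Pt Q P u}) (p := y) (fun u hu => ⟨hy.1, ?_, hy.2.2⟩)
    (fun a ha => (ha p hp).1) (fun a ha b hb => h1 p hp a (ha p hp) b (hb p hp)) fun s hs a ha u hu => ?_
  · by_contra h6
    obtain ⟨z1, hz1, b1⟩ := H.Lam_meet O hp hu (fun e => h6 (hsub p hp u hu e y hy).2.1) hy
    obtain ⟨z2, hz2, b2⟩ := H.Lam_meet O hw hu (fun e => h6 (hsub w hw u hu e y hy').2.1) hy'
    have c1 := H.Lam_mul O hp hy h4 hz1 b1
    have c2 := h1 u hu _ c1 _ (H.Lam_mul O hw hy' h5 hz2 b2)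
    have c3 := h1 p hp _ (H.Lam_mul O hp hy h4 hz1 (mul_mem hy.2.1 ((H.es a0).le hz1))) y hy
    have c4 := mem_of_zp (H.cube (O.pt w hw)) hz2 (fun e => h6 (by rwa [e, mul_one] at b2))
      (((Q _).mul_mem_cancel_left c3).1 c2)
    exact H.not_symm O hp hw hn (mem_of_zp (H.cube a0) hz1 (fun e => h6 (by rwa [e, mul_one] at b1))
      (((Q w).mul_mem_cancel_left h3).1 (H.symm c1.1 (O.pt w hw) c4)))
  · have h6 := O.inv s⁻¹ (inv_mem hs) u hu
    have h7 := H.Lam_conj O (O.pt _ h6) hs (ha _ h6)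
    rwa [show s * (s⁻¹ * u * s⁻¹⁻¹) * s⁻¹ = u by group] at h7

theorem case2 (hp : p ∈ P) (h2 : ∀ p ∈ P, ∃ q ∈ Lam Pt Q P p, ∃ q' ∈ Lam Pt Q P p, q' ∉ Q q) : False := by
  have a0 := O.pt p hp
  obtain ⟨w, hw, hn⟩ := O.far p hp
  refine (H.kind1 O h2 hp hw hn).2 (solv_mono (le_inf (inf_le_left.trans inf_le_left) (le_norm fun g hg y hy => ?_))
    (hS (closure (Lam Pt Q P p ∪ P)) ((closure_le _).2 ?_)
      (fun e => H.ne a0 (mem_bot.1 (e ▸ subset_closure (Or.inr hp)))) (closure_pg ?_ ?_) fun s hs y hy => ?_))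
  · have key : ∀ x ∈ Q p, Commute x w → g * x * g⁻¹ ∈ closure (Lam Pt Q P p ∪ P) := fun x hx hc =>
      H.D_mem O h2 hp hw hn (H.norm a0 (mem_cen.1 hg.1.2) hx)
        (((mem_cen.1 hg.2).mul_left hc).mul_left (mem_cen.1 hg.2).inv_left)
    refine conj_closure ?_ hy
    rintro a (ha | ha)
    · exact key a ha.2.1 (ha.2.2 w hw)
    · obtain ⟨v, hv, h3⟩ := H.near O h2 hp hw hn ha
      have h4 := key _ h3 ((O.comm a ha w hw).mul_left (H.comm_P O hw hv hw))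
      rw [show g * (a * v) * g⁻¹ = g * a * g⁻¹ * (g * v * g⁻¹) by group,
        conj_of_comm (comm_zp (mem_cen.1 hg.2) hv)] at h4
      exact (Subgroup.mul_mem_cancel_right _ (zp_mem hw hv _)).1 h4
  · rintro a (ha | ha)
    · exact H.Q_le a0 ha.2.1
    · exact H.Q_le (O.pt a ha) (H.self (O.pt a ha))
  · rintro a (ha | ha) b (hb | hb)
    · exact H.Lam_comm O hp ha hb
    · exact ha.2.2 b hb
    · exact (hb.2.2 a ha).symm
    · exact O.comm a ha b hb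
  · rintro a (ha | ha)
    · exact H.cube ha.1
    · exact H.cube (O.pt a ha)
  · refine H.A_le O h2 (O.inv s hs p hp) hp (conj_closure ?_ hy)
    rintro a (ha | ha)
    · exact subset_closure (Or.inl (H.Lam_conj O a0 hs ha))
    · exact subset_closure (Or.inr (O.inv s hs a ha))

end Geo

/-- **The abstract part.** -/
theorem boxGeo : BoxGeo := by
  intro G _ _ T S Pt Q H hS z hz hc
  let P : Set G := {p | ∃ s ∈ S, s * z * s⁻¹ = p}
  have hP : z ∈ P := ⟨1, one_mem _, by group⟩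
  have h1 : ∀ p ∈ P, Pt p := by
    rintro _ ⟨s, -, rfl⟩
    exact H.conj hz s
  have h2 : ∀ s ∈ S, ∀ p ∈ P, s * p * s⁻¹ ∈ P := by
    rintro s hs _ ⟨t, ht, rfl⟩
    exact ⟨s * t, mul_mem hs ht, by group⟩
  have h3 : ∀ p ∈ P, ∀ w ∈ P, ∃ s ∈ S, s * p * s⁻¹ = w := by
    rintro _ ⟨s, hs, rfl⟩ _ ⟨t, ht, rfl⟩
    exact ⟨t * s⁻¹, mul_mem ht (inv_mem hs), by group⟩
  have h4 : ∀ s ∈ S, ∀ w ∈ P, ∃ u ∈ P, s * u * s⁻¹ = w := fun s hs w hw =>
    ⟨_, h2 s⁻¹ (inv_mem hs) w hw, by group⟩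
  by_cases h5 : ∀ p ∈ P, ∃ w ∈ P, w ∉ Q p
  swap
  · push Not at h5
    obtain ⟨p, hp, h5⟩ := h5
    refine H.sing hS hP h1 (fun a ha b hb => ?_) h2
    obtain ⟨s, hs, rfl⟩ := h3 p hp a ha
    obtain ⟨u, hu, rfl⟩ := h4 s hs b hb
    exact H.Q_conj (h1 p hp) s u (h5 u hu)
  have O : Orb S Pt Q P := ⟨h1, by
    rintro _ ⟨s, hs, rfl⟩ _ ⟨t, ht, rfl⟩
    have h6 := Geo.conj_comm (hc _ (mul_mem (inv_mem hs) ht)) s
    rwa [show s * (s⁻¹ * t * z * (s⁻¹ * t)⁻¹) * s⁻¹ = t * z * t⁻¹ by group] at h6, h2, h3, h5⟩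
  by_cases h6 : ∀ p ∈ P, ∃ q ∈ Geo.Lam Pt Q P p, ∃ q' ∈ Geo.Lam Pt Q P p, q' ∉ Q q
  · exact H.case2 O hS hP h6
  · push Not at h6
    obtain ⟨p, hp, h6⟩ := h6
    refine H.case1 O hS hP fun u hu a ha b hb => ?_
    obtain ⟨s, hs, rfl⟩ := h3 u hu p hp
    have h7 := H.Lam_conj O (h1 u hu) hs ha
    have h8 := H.Q_conj h7.1 s⁻¹ _ (h6 _ h7 _ (H.Lam_conj O (h1 u hu) hs hb))
    rwa [show s⁻¹ * (s * a * s⁻¹) * s⁻¹⁻¹ = a by group, show s⁻¹ * (s * b * s⁻¹) * s⁻¹⁻¹ = b by group] at h8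

end Cfsg.Agent.SB.F24
end

-- part: SB/Mon/F24/Asm
section
set_option linter.all false
open scoped Cfsg.Agent.FastGrp

-- part: SB/Mon/F24/Defs2
section
/-!
# S5765, the row `Fi24'`, `O₂(S ⊓ T) = 1`: second interface (helper96)

`Loc T Pt p Q` : the fields of `Geo` at one point.  `BoxLoc` : they hold at `x3` (the model, by computation).
`BoxAsm` : transport of `Loc` to `Geo` and the assembly of the row.  See `notes/SB/fi24n.md`.
-/

set_option autoImplicit false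

namespace Cfsg.Agent.SB.F24

open Subgroup Cfsg

/-- the fields of `Geo` at the point `p` -/
structure Loc {G : Type*} [Group G] (T : Subgroup G) (Pt : G → Prop) (p : G) (Q : Subgroup G) : Prop where
  pure : ∀ {w}, Pt w → Commute p w → Pt (w * p) → Pt (w * p⁻¹) → w ∈ Q
  small : ∀ {w}, Pt w → Commute p w → w ∉ Q → Nat.card ↥(Q ⊓ centralizer {w}) ≤ 3 ^ 8
  meet : ∀ {a b}, Pt a → Pt b → Pt (a * b) → Pt (a * b⁻¹) → Commute p a → Commute p b → Commute a b →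
    a ∈ Q ∨ b ∈ Q ∨ a * b ∈ Q ∨ a * b⁻¹ ∈ Q
  line : ∀ B : Subgroup G, IsPGroup 3 B → (∀ b ∈ B, Commute p b) →
    ∃ q, Pt q ∧ q ∈ Q ∧ q ∉ zpowers p ∧ (∀ b ∈ B, b * q * b⁻¹ * q⁻¹ ∈ zpowers p) ∧
      ¬ Group.IsSolvable ↥(T ⊓ centralizer {p} ⊓ centralizer {q})
  kind : ∀ {w}, Pt w → Commute p w → w ∉ Q →
    (Q ⊓ centralizer {w} ≤ closure {q | Pt q ∧ q ∈ Q ∧ Commute q w} ∧
      ¬ Group.IsSolvable ↥(T ⊓ centralizer {p} ⊓ centralizer {w})) ∨
    (∀ a b, Pt a → Pt b → a ∈ Q → b ∈ Q → Commute a w → Commute b w → a * b ∈ zpowers p ∨ Pt (a * b))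

/-- `O₃(N(x3)) = 3^{1+10}` -/
def Q0 : Subgroup Spor.Fi24 := (H841.Ext.QQ H841.Tri.DN).map H841.Tri.NX.subtype

/-- the model -/
def BoxLoc : Prop := Loc (commutator Spor.Fi24) (DS.Sp.F24S.Cl 2) LThreeFi24.SNine.x3 Q0

end Cfsg.Agent.SB.F24
end

-- part: SB/Mon/F24/Asm
section
/-!
# S5765, the row `Fi24'`, `O₂(S ⊓ T) = 1`: the assembly (helper67)

`Asm.trans` : transport of `Loc`; `Asm.geo` : `Geo` from `BoxLoc`; `boxAsm : BoxAsm`.
-/

set_option autoImplicit false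
set_option maxRecDepth 100000

namespace Cfsg.Agent.SB.F24

open Subgroup Cfsg Cfsg.Agent.H786.FC
open Cfsg.Agent.H841.Ext (ES)

namespace Asm

section transport

variable {G : Type*} [Group G]

theorem eq_map (e : G ≃* G) {A B : Subgroup G} (h : ∀ x, e x ∈ B ↔ x ∈ A) : B = A.map e.toMonoidHom := by
  ext y
  obtain ⟨x, rfl⟩ := e.surjective y
  exact (h x).trans (mem_map_iff_mem (f := e.toMonoidHom) e.injective).symm

theorem card_eq (e : G ≃* G) {A B : Subgroup G} (h : ∀ x, e x ∈ B ↔ x ∈ A) : Nat.card B = Nat.card A := by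
  rw [eq_map e h]
  exact card_map_of_injective e.injective

theorem solv (e : G ≃* G) {A B : Subgroup G} (h : ∀ x, e x ∈ B ↔ x ∈ A) (hB : Group.IsSolvable B) :
    Group.IsSolvable A := by
  rw [eq_map e h] at hB
  exact Group.isSolvable_of_isSolvable_injective (f := (A.equivMapOfInjective e.toMonoidHom e.injective).toMonoidHom)
    (A.equivMapOfInjective e.toMonoidHom e.injective).injective

theorem comm_iff (e : G ≃* G) {a b : G} : Commute (e a) (e b) ↔ Commute a b :=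
  ⟨fun h => h.of_map e.injective, fun h => h.map e⟩

theorem cent_iff (e : G ≃* G) {a x : G} : e x ∈ centralizer ({e a} : Set G) ↔ x ∈ centralizer ({a} : Set G) := by
  rw [mem_centralizer_singleton_iff, mem_centralizer_singleton_iff]
  exact comm_iff e

theorem zp_iff (e : G ≃* G) {a x : G} : e x ∈ zpowers (e a) ↔ x ∈ zpowers a := by
  constructor
  · rintro ⟨k, hk⟩
    exact ⟨k, e.injective (by rw [← hk]; exact map_zpow e a k)⟩
  · rintro ⟨k, rfl⟩
    exact ⟨k, (map_zpow e a k).symm⟩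

/-- transport of `Loc` along an automorphism -/
theorem trans {T Q Q' : Subgroup G} {Pt : G → Prop} {p : G} (e : G ≃* G) (hT : ∀ x, e x ∈ T ↔ x ∈ T)
    (hP : ∀ x, Pt (e x) ↔ Pt x) (hQ : ∀ x, e x ∈ Q' ↔ x ∈ Q) (h : Loc T Pt p Q) : Loc T Pt (e p) Q' where
  pure := by
    intro w h1 h2 h3 h4
    obtain ⟨w, rfl⟩ := e.surjective w
    rw [← map_mul, hP] at h3
    rw [← map_inv, ← map_mul, hP] at h4
    exact (hQ w).2 (h.pure ((hP w).1 h1) ((comm_iff e).1 h2) h3 h4)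
  small := by
    intro w h1 h2 h3
    obtain ⟨w, rfl⟩ := e.surjective w
    rw [card_eq e (A := Q ⊓ centralizer {w}) fun x => by rw [mem_inf, mem_inf, hQ, cent_iff]]
    exact h.small ((hP w).1 h1) ((comm_iff e).1 h2) fun h4 => h3 ((hQ w).2 h4)
  meet := by
    intro a b h1 h2 h3 h4 h5 h6 h7
    obtain ⟨a, rfl⟩ := e.surjective a
    obtain ⟨b, rfl⟩ := e.surjective b
    rw [← map_mul, hP] at h3
    rw [← map_inv, ← map_mul, hP] at h4
    rw [← map_mul, ← map_inv, ← map_mul, hQ, hQ, hQ, hQ]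
    exact h.meet ((hP a).1 h1) ((hP b).1 h2) h3 h4 ((comm_iff e).1 h5) ((comm_iff e).1 h6) ((comm_iff e).1 h7)
  line := by
    intro B hB hc
    obtain ⟨q, k1, k2, k3, k4, k5⟩ := h.line (B.comap e.toMonoidHom) (hB.comap_of_injective e.toMonoidHom e.injective)
      fun b hb => (comm_iff e).1 (hc _ hb)
    refine ⟨e q, (hP q).2 k1, (hQ q).2 k2, fun h1 => k3 ((zp_iff e).1 h1), fun b hb => ?_, fun h1 => k5 (solv e (fun x => ?_) h1)⟩
    · obtain ⟨b, rfl⟩ := e.surjective b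
      rw [← map_mul, ← map_inv, ← map_mul, ← map_inv, ← map_mul, zp_iff]
      exact k4 b hb
    · rw [mem_inf, mem_inf, mem_inf, mem_inf, hT, cent_iff, cent_iff]
  kind := by
    intro w h1 h2 h3
    obtain ⟨w, rfl⟩ := e.surjective w
    rcases h.kind ((hP w).1 h1) ((comm_iff e).1 h2) (fun h4 => h3 ((hQ w).2 h4)) with ⟨k1, k2⟩ | k
    · refine Or.inl ⟨fun x hx => ?_, fun h4 => k2 (solv e (fun x => ?_) h4)⟩
      · obtain ⟨x, rfl⟩ := e.surjective x
        have h5 := k1 (mem_inf.2 ⟨(hQ x).1 (mem_inf.1 hx).1, (cent_iff e).1 (mem_inf.1 hx).2⟩)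
        have h6 := mem_map_of_mem e.toMonoidHom h5
        rw [MonoidHom.map_closure] at h6
        refine closure_mono ?_ h6
        rintro _ ⟨q, hq, rfl⟩
        exact ⟨(hP q).2 hq.1, (hQ q).2 hq.2.1, (comm_iff e).2 hq.2.2⟩
      · rw [mem_inf, mem_inf, mem_inf, mem_inf, hT, cent_iff, cent_iff]
    · refine Or.inr fun a b h4 h5 h6 h7 h8 h9 => ?_
      obtain ⟨a, rfl⟩ := e.surjective a
      obtain ⟨b, rfl⟩ := e.surjective b
      rw [← map_mul, zp_iff, hP]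
      exact k a b ((hP a).1 h4) ((hP b).1 h5) ((hQ a).1 h6) ((hQ b).1 h7) ((comm_iff e).1 h8) ((comm_iff e).1 h9)

theorem zp3 {x y : G} (h3 : x ^ 3 = 1) (hy : y ∈ zpowers x) : y = 1 ∨ y = x ∨ y = x⁻¹ := by
  obtain ⟨k, rfl⟩ := hy
  have h1 : x ^ (3 : ℤ) = 1 := by exact_mod_cast h3
  have h2 : x ^ k = x ^ (k % 3) := by
    conv_lhs => rw [← Int.mul_ediv_add_emod k 3, zpow_add, zpow_mul, h1, one_zpow, one_mul]
  show x ^ k = 1 ∨ x ^ k = x ∨ x ^ k = x⁻¹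
  rw [h2]
  have h4 : k % 3 = 0 ∨ k % 3 = 1 ∨ k % 3 = 2 := by omega
  rcases h4 with h | h | h <;> rw [h]
  · exact Or.inl (zpow_zero x)
  · exact Or.inr (Or.inl (zpow_one x))
  · refine Or.inr (Or.inr (eq_inv_of_mul_eq_one_left ?_))
    rw [← h1]
    group

theorem mem_of_cube {T : Subgroup G} (hT : T.index = 2) {x : G} (h3 : x ^ 3 = 1) : x ∈ T := by
  have h1 := mul_self_mem_of_index_two hT x
  have h2 : x = (x * x)⁻¹ := eq_inv_of_mul_eq_one_right (by rw [← h3, pow_three'])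
  rw [h2]
  exact inv_mem h1

theorem fit_inv {S R : Subgroup G} (hR : ∀ s ∈ S, ∀ r ∈ R, s * r * s⁻¹ ∈ R) :
    ∀ s ∈ S, ∀ y ∈ fit R, s * y * s⁻¹ ∈ fit R := by
  rintro s hs _ ⟨v, hv, rfl⟩
  have h1 : R = R.map (MulAut.conj s).toMonoidHom := eq_map (MulAut.conj s) fun x =>
    ⟨fun h => by simpa [mul_assoc] using hR _ (inv_mem hs) _ h, hR s hs x⟩
  have h2 : s * (v : G) * s⁻¹ ∈ fit (R.map (MulAut.conj s).toMonoidHom) :=
    ⟨_, (mem_fitting_map (MulAut.conj s).toMonoidHom (MulAut.conj s).injective v).2 hv, rfl⟩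
  rwa [← h1] at h2

theorem core_inv [Finite G] {S R : Subgroup G} (hR : ∀ s ∈ S, ∀ r ∈ R, s * r * s⁻¹ ∈ R) {p : ℕ} (hp : p.Prime) :
    ∀ s ∈ S, ∀ y ∈ Mon.core p R, s * y * s⁻¹ ∈ Mon.core p R := by
  intro s hs y hy
  have := Fact.mk hp
  obtain ⟨k, hk⟩ := Mon.core_pgroup p ⟨y, hy⟩
  have hk' : y ^ p ^ k = 1 := congrArg Subtype.val hk
  obtain ⟨w, hw, hw'⟩ := fit_inv hR s hs y (Mon.core_le_fit p hy)
  refine ⟨w, H761.F2.mem_pCore_of_mem_fitting hp hw (k := k) (Subtype.ext ?_), hw'⟩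
  have h1 : (w : G) = s * y * s⁻¹ := hw'
  rw [Subgroup.coe_pow, h1, conj_pow, hk']
  simp

end transport

open Cfsg.Spor (Fi24)
open Cfsg.Agent.R08.FiTwentyFour (finite_Fi24 index_commutator)
open Cfsg.Agent.LThreeFi24.SNine (x3)
open Cfsg.Agent.DS.Sp.F24S (Cl)
open Cfsg.Agent.H841.Tri (NX DN xN es_QQ card_QQ mem_NX x3_cube x3_ne)

theorem cl_iff {p : Fi24} : Cl 2 p ↔ ∃ g : Fi24, g * p * g⁻¹ = x3 ∨ g * p * g⁻¹ = x3⁻¹ := by
  have hX : H842.ThreeCl.X 2 = x3 := LThreeFi24.CaseB.word_x3.symm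
  unfold Cl
  rw [hX]

theorem exists_inv : ∃ n : Fi24, n * x3⁻¹ * n⁻¹ = x3 := by
  obtain ⟨n, hn⟩ := H841.Tri.exists_inv
  rcases mem_NX.1 n.2 with h | h
  · exact absurd (Subtype.ext h) hn
  · exact ⟨n, by rw [← conj_inv, h, inv_inv]⟩

theorem exists_conj {p : Fi24} (h : Cl 2 p) : ∃ g : Fi24, g * p * g⁻¹ = x3 := by
  obtain ⟨g, hg | hg⟩ := cl_iff.1 h
  · exact ⟨g, hg⟩
  · obtain ⟨n, hn⟩ := exists_inv
    exact ⟨n * g, by rw [← hn, ← hg]; group⟩

theorem Q0_conj {n x : Fi24} (hn : n ∈ NX) (hx : x ∈ Q0) : n * x * n⁻¹ ∈ Q0 := by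
  obtain ⟨hq, -⟩ := H841.Tri.quot_NX
  obtain ⟨q, hq', rfl⟩ := hx
  exact ⟨_, hq.conj_mem q hq' ⟨n, hn⟩, rfl⟩

theorem es_Q0 : ES (zpowers x3) Q0 := by
  have h := H841.InjTr.es_map NX.subtype es_QQ NX.subtype_injective
  rw [MonoidHom.map_zpowers] at h
  exact h

theorem card_Q0 : Nat.card Q0 = 3 ^ 11 := (H841.InjTr.card_map NX.subtype NX.subtype_injective _).trans card_QQ

/-- `O₃(C(p))` -/
def Qp (p : Fi24) : Subgroup Fi24 where
  carrier := {x | ∀ g : Fi24, g * p * g⁻¹ = x3 ∨ g * p * g⁻¹ = x3⁻¹ → g * x * g⁻¹ ∈ Q0}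
  one_mem' := fun g _ => by simp
  mul_mem' := fun {a b} ha hb g hg => by
    rw [← conj_mul]
    exact mul_mem (ha g hg) (hb g hg)
  inv_mem' := fun {a} ha g hg => by
    rw [← conj_inv]
    exact inv_mem (ha g hg)

theorem mem_Qp {p g x : Fi24} (hg : g * p * g⁻¹ = x3) : x ∈ Qp p ↔ g * x * g⁻¹ ∈ Q0 := by
  refine ⟨fun h => h g (Or.inl hg), fun h k hk => ?_⟩
  have h1 : k * g⁻¹ ∈ NX := by
    rw [mem_NX]
    have h2 : k * g⁻¹ * x3 * (k * g⁻¹)⁻¹ = k * p * k⁻¹ := by rw [← hg]; group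
    rwa [h2]
  have h3 := Q0_conj h1 h
  rwa [show k * g⁻¹ * (g * x * g⁻¹) * (k * g⁻¹)⁻¹ = k * x * k⁻¹ by group] at h3

theorem Qp_iff {p g : Fi24} (hg : g * p * g⁻¹ = x3) (x : Fi24) : MulAut.conj g⁻¹ x ∈ Qp p ↔ x ∈ Q0 := by
  rw [mem_Qp hg, MulAut.conj_apply, show g * (g⁻¹ * x * g⁻¹⁻¹) * g⁻¹ = x by group]

theorem conj_x3 {p g : Fi24} (hg : g * p * g⁻¹ = x3) : MulAut.conj g⁻¹ x3 = p := by
  rw [MulAut.conj_apply, ← hg]
  group

theorem cube {p : Fi24} (h : Cl 2 p) : p ^ 3 = 1 := by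
  obtain ⟨g, hg⟩ := exists_conj h
  rw [← conj_x3 hg, ← map_pow, x3_cube, map_one]

theorem loc (h : BoxLoc) {p : Fi24} (hp : Cl 2 p) : Loc (commutator Fi24) (Cl 2) p (Qp p) := by
  obtain ⟨g, hg⟩ := exists_conj hp
  have h1 := trans (Q' := Qp p) (MulAut.conj g⁻¹) (fun x => ?_) (fun x => ?_) (Qp_iff hg) h
  · rwa [conj_x3 hg] at h1
  · exact ⟨fun h2 => by simpa [mul_assoc] using (inferInstance : (commutator Fi24).Normal).conj_mem _ h2 g,
      fun h2 => (inferInstance : (commutator Fi24).Normal).conj_mem _ h2 g⁻¹⟩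
  · exact ⟨fun h2 => by simpa [mul_assoc] using h2.conj g, fun h2 => h2.conj g⁻¹⟩

theorem es {p : Fi24} (hp : Cl 2 p) : ES (zpowers p) (Qp p) := by
  obtain ⟨g, hg⟩ := exists_conj hp
  have h := H841.InjTr.es_map (MulAut.conj g⁻¹).toMonoidHom es_Q0 (MulAut.conj g⁻¹).injective
  rw [← eq_map _ (Qp_iff hg), MonoidHom.map_zpowers] at h
  convert h using 2
  exact (conj_x3 hg).symm

/-- the geometry -/
theorem geo (h : BoxLoc) : Geo (commutator Fi24) (Cl 2) Qp where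
  cube := cube
  ne := fun hp h1 => by
    obtain ⟨g, hg⟩ := exists_conj hp
    rw [h1, mul_one, mul_inv_cancel] at hg
    exact x3_ne hg.symm
  inv := fun hp => by
    obtain ⟨g, hg⟩ := exists_conj hp
    exact cl_iff.2 ⟨g, Or.inr (by rw [← conj_inv, hg])⟩
  conj := fun hp g => hp.conj g
  Q_inv := fun {p} _ => by
    have h1 : ∀ g : Fi24, (g * p⁻¹ * g⁻¹ = x3 ∨ g * p⁻¹ * g⁻¹ = x3⁻¹) ↔ (g * p * g⁻¹ = x3 ∨ g * p * g⁻¹ = x3⁻¹) := fun g => by
      rw [← conj_inv, inv_inj, inv_eq_iff_eq_inv, or_comm]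
    ext x
    exact ⟨fun hx g hg => hx g ((h1 g).2 hg), fun hx g hg => hx g ((h1 g).1 hg)⟩
  Q_conj := fun {p} _ g x hx k hk => by
    have h1 := hx (k * g) (by rwa [show k * g * p * (k * g)⁻¹ = k * (g * p * g⁻¹) * k⁻¹ by group])
    rwa [show k * g * x * (k * g)⁻¹ = k * (g * x * g⁻¹) * k⁻¹ by group] at h1
  es := es
  Q_le := fun hp x hx => mem_of_cube index_commutator ((es hp).cub x hx)
  card := fun hp => by
    obtain ⟨g, hg⟩ := exists_conj hp
    rw [card_eq _ (Qp_iff hg), card_Q0]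
  pure := fun hp => (loc h hp).pure
  small := fun hp => (loc h hp).small
  meet := fun hp => (loc h hp).meet
  line := fun hp => (loc h hp).line
  kind := fun hp => (loc h hp).kind

/-- every non-trivial 3-subgroup is centralized by a point -/
theorem exists_pt {F : Subgroup Fi24} (hF : IsPGroup 3 F) (h0 : F ≠ ⊥) : ∃ z, Cl 2 z ∧ ∀ f ∈ F, z * f = f * z := by
  have := finite_Fi24
  have : Fact (Nat.Prime 3) := ⟨Nat.prime_three⟩
  obtain ⟨P, hP⟩ := H841.Tri.exists_sylow3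
  obtain ⟨P', hP'⟩ := hF.exists_le_sylow
  have : Nontrivial (P' : Subgroup Fi24) := (nontrivial_iff_ne_bot _).2 fun h => h0 (eq_bot_iff.2 (h ▸ hP'))
  have := P'.isPGroup'.center_nontrivial
  obtain ⟨z, hz⟩ := exists_ne (1 : center (P' : Subgroup Fi24))
  have hc : ∀ f ∈ (P' : Subgroup Fi24), ((z : (P' : Subgroup Fi24)) : Fi24) * f = f * (z : (P' : Subgroup Fi24)) :=
    fun f hf => (congrArg Subtype.val (mem_center_iff.1 z.2 ⟨f, hf⟩)).symm
  refine ⟨(z : (P' : Subgroup Fi24)), ?_, fun f hf => hc f (hP' hf)⟩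
  obtain ⟨g, rfl⟩ := MulAction.exists_smul_eq Fi24 P' P
  have h1 := hP (g * (z : (P' : Subgroup Fi24)) * g⁻¹) fun y hy => by
    obtain ⟨f, hf, rfl⟩ := hy
    exact (show Commute _ f from hc f hf).map (MulAut.conj g)
  rcases zp3 x3_cube h1 with h2 | h2
  · exfalso
    apply hz
    apply Subtype.ext
    apply Subtype.ext
    simpa using h2
  · exact cl_iff.2 ⟨g, h2⟩

theorem rowNIn (hL : BoxLoc) (h5 : BoxFive) : RowNIn 2 (commutator Fi24) := by
  intro S hS hm hn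
  have := finite_Fi24
  have : Fact (Nat.Prime 3) := ⟨Nat.prime_three⟩
  by_cases hp : ∃ p : ℕ, p.Prime ∧ 5 ≤ p ∧ ¬ NPar p (commutator Fi24) S
  · obtain ⟨p, h1, h2, h3⟩ := hp
    exact Or.inr (h5 S hS hm p h1 h2 h3)
  exfalso
  have hR : ∀ s ∈ S, ∀ r ∈ S ⊓ commutator Fi24, s * r * s⁻¹ ∈ S ⊓ commutator Fi24 := fun s hs r hr =>
    mem_inf.2 ⟨mul_mem (mul_mem hs (mem_inf.1 hr).1) (inv_mem hs), as24.normal.conj_mem _ (mem_inf.1 hr).2 s⟩
  have hsol : ∀ Y : Subgroup Fi24, Y ≤ S → Group.IsSolvable Y := fun Y hY =>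
    Group.isSolvable_of_isSolvable_injective (f := inclusion hY) (inclusion_injective hY)
  have hRs := hsol _ (inf_le_left : S ⊓ commutator Fi24 ≤ S)
  have hF : IsPGroup 3 (fit (S ⊓ commutator Fi24)) := by
    refine IsPGroup.iff_card.2 ⟨_, Nat.eq_prime_pow_of_unique_prime_dvd Nat.card_pos.ne' fun {q} hq hd => ?_⟩
    have : Fact q.Prime := ⟨hq⟩
    obtain ⟨y, hy⟩ := exists_prime_orderOf_dvd_card' _ hd
    have hy' : orderOf (y : Fi24) = q := by rw [Subgroup.orderOf_coe, hy]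
    by_contra h3
    have hq' : NPar q (commutator Fi24) S := by
      rcases Mon.prime_cases hq with h1 | h1 | h1
      · exact h1 ▸ hn
      · exact absurd h1 h3
      · by_contra h2
        exact hp ⟨q, hq, h1, h2⟩
    have h1 := Mon.mem_core y.2 hq hy'
    rw [hq' (Mon.core q _) (map_subtype_le _) (Mon.core_pgroup q) (core_inv hR hq), mem_bot] at h1
    rw [h1, orderOf_one] at hy'
    exact hq.one_lt.ne hy'
  have hF0 : fit (S ⊓ commutator Fi24) ≠ ⊥ := fun hb => hm.inf_ne_bot as24 hS (eq_bot_iff.2 fun y hy => by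
    rw [← hb]
    refine Mon.mem_fit_of_cent hRs hy fun f hf => ?_
    rw [hb, mem_bot] at hf
    rw [hf, mul_one, one_mul])
  obtain ⟨z, hz, hc⟩ := exists_pt hF hF0
  have hzT : z ∈ commutator Fi24 := mem_of_cube index_commutator (cube hz)
  have hzS : z ∈ S := hm.mem_of_centralizes as24 hF0
    (fun hle => as24.not_le hS (hle.trans ((map_subtype_le _).trans inf_le_left))) (fit_inv hR) hzT hc
  have hzF := Mon.mem_fit_of_cent hRs (mem_inf.2 ⟨hzS, hzT⟩) hc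
  refine boxGeo Fi24 (commutator Fi24) S (Cl 2) Qp (geo hL) (fun Y _ h0 hY hinv => hsol _ fun t ht => ?_) z hz
    fun s hs => hc _ (fit_inv hR s hs z hzF)
  have hYs : Group.IsSolvable Y := by
    have := hY.isNilpotent
    infer_instance
  exact hm.mem_of_normalizes as24 h0 (as24.not_le hYs) hinv (mem_inf.1 ht).1
    fun x hx => (mem_normalizer_iff.1 (mem_inf.1 ht).2 x).1 hx

end Asm

end Cfsg.Agent.SB.F24
end
end

-- part: SB/Mon/F24/Vec
section
set_option linter.all false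
open scoped Cfsg.Agent.FastGrp

/-!
# S5765, the row `Fi24'`: the linear model of `C(x3)` in `Fi24` (helper96)
-/

set_option autoImplicit false
set_option maxRecDepth 100000

namespace Cfsg.Agent.SB.F24.Wd

open Subgroup Cfsg
open scoped Matrix
open Cfsg.Spor (Fi24)
open Cfsg.Spor.Fi24 (Gen)
open Cfsg.Agent.Lib.PackMat Cfsg.Agent.Lib.PackMatGroup Cfsg.Agent.Lib.PackMatMul
open Cfsg.Agent.Fischer.Fi24Rep (word gen rho)
open Cfsg.Agent.Fischer.Fi24Spider (word_append)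
open Cfsg.Agent.R08.FiTwentyFour (finite_Fi24)
open Cfsg.Agent.KFacts.FiTF.Pts (IsPt rho_of_chkPt word_reverse)
open Cfsg.Agent.KFacts.FiTF.Defs (tr)
open Cfsg.Agent.H841.Tri Cfsg.Agent.H841.Ext
open Cfsg.Agent.H834.U5 (ge gw5 H5 z0 ge_mem H5_x3 H5_z0 S0_eq z0_mem z0_sq z0_ne)
open Cfsg.Agent.LThreeFi24.SNine (x3)
open Cfsg.Agent.SB.F24.Md

noncomputable def geL : List Fi24 := [ge 0, ge 1, ge 2, ge 3, ge 4]

theorem ev_gew (w : List ℕ) : evG geL w = word (gew w) := by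
  induction w with
  | nil => rfl
  | cons k w ih =>
    rw [evG_cons, ih]
    show _ = word (gw5.getD k [] ++ gew w)
    rw [word_append]
    congr 1
    rcases k with _ | _ | _ | _ | _ | k <;> rfl

theorem gew_mem (w : List ℕ) : word (gew w) ∈ H5 := by
  rw [← ev_gew]
  refine evG_mem H5 (fun g hg => ?_) w
  simp only [geL, List.mem_cons, List.not_mem_nil, or_false] at hg
  rcases hg with rfl | rfl | rfl | rfl | rfl <;> exact ge_mem (by decide)

/-- the generators of `Q0` -/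
noncomputable def be (j : ℕ) : Fi24 := word (bw j)

theorem tp_pd : ∀ i : Fin 5, tp i 0 0 = pd i := by decide

theorem dd_word (i : Fin 5) : word (ddw.getD i []) = dd i := by
  fin_cases i
  exacts [word_single _, word_single _, rfl, rfl, rfl]

noncomputable def hN (i : ℕ) : NX := ⟨word (gew (Hw.getD i [])), mem_NX_of_comm (H5_x3 (gew_mem _))⟩

theorem be_eq (j : ℕ) : be j = word (ddw.getD (j / 2) []) * tr (tu.getD j []) (tx.getD j .l) := by
  rw [be, bw, word_append, List.append_assoc, List.singleton_append]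
  rfl

theorem h_spec (i : Fin 5) : hN i * lN * (hN i)⁻¹ = dN i ∧ ((hN i * uN * (hN i)⁻¹ : NX) : Fi24) = be (2 * i) ∧
    ((hN i * vN * (hN i)⁻¹ : NX) : Fi24) = be (2 * i + 1) := by
  have h := allBelow_spec h_chk i i.isLt
  simp only [hC, Bool.and_eq_true] at h
  obtain ⟨k1, k2, k3, k4, k5⟩ := h
  have e0 := H841.Five.isPt_l.conj_eq (isPt_dd i) ((rho_of_chkPt k1).trans (tp_pd i))
  have e1 := isPt_l1.conj_eq (IsPt.of_word k4) (rho_of_chkPt k2)
  have e2 := isPt_l2.conj_eq (IsPt.of_word k5) (rho_of_chkPt k3)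
  refine ⟨Subtype.ext e0, ?_, ?_⟩
  · rw [be_eq, show 2 * i.val / 2 = i by omega, dd_word, ← e0, ← e1]
    show word (gew (Hw.getD i [])) * (gen .l * l1) * (word (gew (Hw.getD i [])))⁻¹ = _
    group
  · rw [be_eq, show (2 * i.val + 1) / 2 = i by omega, dd_word, ← e0, ← e2]
    show word (gew (Hw.getD i [])) * (gen .l * l2) * (word (gew (Hw.getD i [])))⁻¹ = _
    group

theorem be_aux (i : Fin 5) {e : NX} (he : e ∈ DN) (hw : Cfsg.Agent.LThreeFi24.Twin.Tw DN lN e) :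
    hN i * (lN * e) * (hN i)⁻¹ ∈ Qc DN (dN i) ∧
      zN * (hN i * (lN * e) * (hN i)⁻¹) * zN⁻¹ = (hN i * (lN * e) * (hN i)⁻¹)⁻¹ := by
  refine ⟨(h_spec i).1 ▸ conj_mem_Qc tsetDN (mem_Qc he hw), ?_⟩
  have h1 := dat.z_inv0 he (dN_zero ▸ hw)
  rw [dN_zero] at h1
  have h2 : Commute (hN i) zN := Subtype.ext (H5_z0 (gew_mem _))
  calc zN * (hN i * (lN * e) * (hN i)⁻¹) * zN⁻¹ = (zN * hN i) * (lN * e) * (zN * hN i)⁻¹ := by group
    _ = hN i * (zN * (lN * e) * zN⁻¹) * (hN i)⁻¹ := by rw [← h2.eq]; group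
    _ = _ := by rw [h1]; group

theorem be_spec {j : ℕ} (hj : j < 10) : ∃ y : NX, (y : Fi24) = be j ∧ y ∈ Qc DN (dN ⟨j / 2, by omega⟩) ∧
    zN * y * zN⁻¹ = y⁻¹ := by
  have h := h_spec ⟨j / 2, by omega⟩
  rcases Nat.even_or_odd' j with ⟨i, rfl | rfl⟩
  · exact ⟨_, h.2.1.trans (congrArg be (by simp only; omega)), be_aux _ l1N_mem tw_l1⟩
  · exact ⟨_, h.2.2.trans (congrArg be (by simp only; omega)), be_aux _ l2N_mem tw_l2⟩

theorem be_mem (j : ℕ) (hj : j < 10) : be j ∈ Q0 := by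
  obtain ⟨y, e, h, -⟩ := be_spec hj
  exact ⟨y, Qc_le (dN_mem _) h, e⟩

theorem be_gen : Q0 ≤ closure {g | ∃ j < 10, g = be j} := by
  rw [Q0, map_le_iff_le_comap]
  show Subgroup.closure _ ≤ _
  rw [dat.closure_Pr]
  refine iSup_le fun i => ?_
  obtain ⟨h1, h2, h3⟩ := h_spec i
  rw [← h1, ← Qc_conj tsetDN, Qc_eq_uv, map_le_iff_le_comap, closure_le]
  rintro x (rfl | rfl)
  · exact subset_closure ⟨2 * i, by omega, h2⟩
  · exact subset_closure ⟨2 * i + 1, by omega, h3⟩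

theorem es0 : ES (zpowers x3) Q0 := by
  have h := H841.InjTr.es_map NX.subtype es_QQ NX.subtype_injective
  rwa [MonoidHom.map_zpowers] at h

theorem ex_vec : ∃ vec, VD x3 Q0 be vec := by
  have := finite_Fi24
  exact exists_vec es0 (DS.Sp.F24S.card_zp x3_cube x3_ne)
    ((H841.InjTr.card_map NX.subtype NX.subtype_injective _).trans card_QQ) be be_mem be_gen

/-- the coordinates -/
noncomputable def vec : Fi24 → V := Classical.choose ex_vec

theorem vd : VD x3 Q0 be vec := Classical.choose_spec ex_vec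

theorem norm0 {g : Fi24} (hg : Commute x3 g) (x : Fi24) (hx : x ∈ Q0) : g⁻¹ * x * g ∈ Q0 := by
  obtain ⟨y, hy, rfl⟩ := hx
  have h := dat.normal_Q.conj_mem' y hy ⟨g, mem_NX_of_comm hg.symm⟩
  exact ⟨_, h, rfl⟩

theorem comm_d (i : Fin 5) {x : Fi24} (hx : x ∈ Q0) (h : ∀ j : Fin C.n, j.val / 2 = i → vec x j = 0) :
    Commute x (dd i) := by
  refine mem_centralizer_singleton_iff.1 (vd.ind (K := centralizer {dd i})
    (mem_centralizer_singleton_iff.2 (dd_mem i).2.symm.eq) hx fun j hj => ?_)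
  obtain ⟨y, e, h1, -⟩ := be_spec (j := j) j.isLt
  have h2 := comm_Qc (dN_nb _ i (fun k => hj (h j (congrArg Fin.val k)))) h1
  rw [← e]
  exact mem_centralizer_singleton_iff.2 (congrArg Subtype.val h2.symm.eq)

theorem rho_tp {i : ℕ} (hi : i < 5) {a b : ℕ} (ha : a < 3) (hb : b < 3) :
    rho (be (2 * i) ^ a * be (2 * i + 1) ^ b) (tp i 0 0) = tp i a b := by
  have h := allBelow_spec t_chk i hi
  rw [tC, Bool.and_eq_true] at h
  have h1 : ∀ b < 3, rho (be (2 * i + 1) ^ b) (tp i 0 0) = tp i 0 b := by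
    intro b hb
    induction b with
    | zero => rw [pow_zero, map_one, Equiv.Perm.one_apply]
    | succ b ih =>
      rw [pow_succ', map_mul, Equiv.Perm.mul_apply, ih (by omega)]
      exact rho_of_chkPt (allBelow_spec h.1 b (by omega))
  rw [map_mul, Equiv.Perm.mul_apply, h1 b hb]
  induction a with
  | zero => rw [pow_zero, map_one, Equiv.Perm.one_apply]
  | succ a ih =>
    rw [pow_succ', map_mul, Equiv.Perm.mul_apply, ih (by omega)]
    exact rho_of_chkPt (allBelow_spec (allBelow_spec h.2 a (by omega)) b hb)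

theorem vec_of_pts {x : Fi24} (hx : x ∈ Q0) (f : ℕ → ℕ) (hf : ∀ k, f k < 3)
    (h : ∀ i < 5, rho x (tp i 0 0) = tp i (f (2 * i)) (f (2 * i + 1))) (k : Fin C.n) : vec x k = (f k : ZMod C.p) := by
  classical
  have : NeZero C.p := ⟨by decide⟩
  have hk : k.val < 10 := k.isLt
  obtain ⟨i, hi⟩ : ∃ i, i = k.val / 2 := ⟨_, rfl⟩
  have i5 : i < 5 := by omega
  let j0 : Fin C.n := ⟨2 * i, show 2 * i < 10 by omega⟩
  let j1 : Fin C.n := ⟨2 * i + 1, show 2 * i + 1 < 10 by omega⟩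
  have hne : j0 ≠ j1 := fun e => by have := congrArg Fin.val e; simp only [j0, j1] at this; omega
  have q0 := be_mem (2 * i) (by omega)
  have q1 := be_mem (2 * i + 1) (by omega)
  have a3 : (vec x j0).val < 3 := ZMod.val_lt _
  have b3 : (vec x j1).val < 3 := ZMod.val_lt _
  have hy := mul_mem (pow_mem q0 (vec x j0).val) (pow_mem q1 (vec x j1).val)
  have hc : ∀ j : Fin C.n, j.val / 2 = i → j = j0 ∨ j = j1 := fun j hj => by
    rcases Nat.even_or_odd' j.val with ⟨m, e | e⟩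
    · exact Or.inl (Fin.ext (by simp only [j0]; omega))
    · exact Or.inr (Fin.ext (by simp only [j1]; omega))
  have h1 := comm_d ⟨i, i5⟩ (mul_mem (inv_mem hy) hx) (fun j hj => by
    rw [vd.add (inv_mem hy) hx, vd.inv hy, vd.add (pow_mem q0 _) (pow_mem q1 _), vd.pow q0, vd.pow q1, vd.bas j0,
      vd.bas j1]
    simp only [Pi.add_apply, Pi.neg_apply, Pi.smul_apply]
    rcases hc j hj with e | e <;> rw [e]
    · rw [Pi.single_eq_of_ne hne, Pi.single_eq_same, smul_zero, add_zero, nsmul_one, ZMod.natCast_zmod_val,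
        neg_add_cancel]
    · rw [Pi.single_eq_of_ne hne.symm, Pi.single_eq_same, smul_zero, zero_add, nsmul_one, ZMod.natCast_zmod_val,
        neg_add_cancel])
  have h2 := ((isPt_dd ⟨i, i5⟩).comm_iff _).1 h1.eq
  rw [← tp_pd, map_mul, Equiv.Perm.mul_apply, map_inv, Equiv.Perm.inv_eq_iff_eq, rho_tp i5 a3 b3, h i i5] at h2
  have h3 := allBelow_spec (allBelow_spec (allBelow_spec (allBelow_spec (allBelow_spec tp_inj i i5) _ (hf (2 * i))) _
    (hf (2 * i + 1))) _ a3) _ b3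
  rw [h2, Nat.beq_refl, Bool.not_true, Bool.false_or, Bool.and_eq_true, Nat.beq_eq, Nat.beq_eq] at h3
  rcases hc k hi.symm with e | e <;> rw [e]
  · rw [← ZMod.natCast_zmod_val (vec x j0), ← h3.1]
  · rw [← ZMod.natCast_zmod_val (vec x j1), ← h3.2]

theorem mem_S0 {s : Fi24} (hs : s ∈ H5) : ∃ y ∈ S0 DN zN, (y : Fi24) = s := by
  rw [← S0_eq, ← map_S0] at hs
  exact hs

theorem dec0 {g : Fi24} (hg : Commute x3 g) : ∃ s ∈ H5, ∃ x ∈ Q0, g = s * x := by
  have := finite_Fi24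
  have h1 : closure DN ≤ centralizer {xN} :=
    (closure_le _).2 fun t ht => mem_centralizer_singleton_iff.2 (cxN ht).eq
  have h2 : Nat.card (closure DN) = 3 ^ 11 * (2 * 13685760) := by
    obtain ⟨hn, ⟨j⟩⟩ := quot_S
    have hle : QQ DN ≤ closure DN := by rw [dat.closure_D]; exact le_sup_left
    rw [card_eq_card_quotient_mul_card_subgroup ((QQ DN).subgroupOf (closure DN)),
      Nat.card_congr (subgroupOfEquivOfLe hle).toEquiv, card_QQ, Nat.card_congr j.toEquiv, Nat.card_prod, card_psu5]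
    have h : Nat.card M2 = 2 := by
      rw [Nat.card_eq_fintype_card]
      decide
    rw [h, mul_comm]
  have h3 : Nat.card (centralizer ({xN} : Set NX)) ≤ Nat.card (closure DN) := by
    have h4 := (centralizer ({xN} : Set NX)).card_mul_index
    have h5 : (centralizer ({xN} : Set NX)).index ≠ 1 := by
      obtain ⟨n, hn⟩ := exists_inv
      intro h
      rw [index_eq_one] at h
      have h6 : n ∈ centralizer ({xN} : Set NX) := h ▸ mem_top n
      exact hn (by rw [mem_centralizer_singleton_iff.1 h6, mul_inv_cancel_right])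
    have h7 : (centralizer ({xN} : Set NX)).index ≠ 0 := index_ne_zero_of_finite
    have h8 := Nat.mul_le_mul_left (Nat.card (centralizer ({xN} : Set NX)))
      (show 2 ≤ (centralizer ({xN} : Set NX)).index by omega)
    rw [h4, card_NX] at h8
    rw [h2]
    omega
  have h9 : (⟨g, mem_NX_of_comm hg.symm⟩ : NX) ∈ closure DN := by
    rw [eq_of_le_of_card_ge h1 h3]
    exact mem_centralizer_singleton_iff.2 (Subtype.ext hg.symm.eq)
  have := dat.normal_Q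
  rw [dat.closure_D, sup_comm, ← SetLike.mem_coe, mul_normal] at h9
  obtain ⟨s, hs, x, hx, e⟩ := h9
  refine ⟨s, ?_, x, ⟨x, hx, rfl⟩, (congrArg Subtype.val e).symm⟩
  rw [← S0_eq, ← map_S0]
  exact ⟨s, hs, rfl⟩

theorem faith0 {s : Fi24} (hs : s ∈ H5) (h : ∀ x ∈ Q0, Commute s x) : s = 1 := by
  obtain ⟨y, hy, rfl⟩ := mem_S0 hs
  obtain ⟨f, hf⟩ := exists_fdat
  have := simple_psu5
  have h1 : y ∈ QQ DN := cent_QQ (mem_centralizer_iff.2 fun q hq => Subtype.ext (h q ⟨q, hq, rfl⟩).symm.eq)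
  have h2 : y ∈ QQ DN ⊓ S0 DN zN := ⟨h1, hy⟩
  have := finite_Fi24
  rw [dat.Q_inf hf two_dvd_psu5, mem_bot] at h2
  rw [h2]
  rfl

theorem card_H5 : Nat.card H5 = 27371520 := by
  have := finite_Fi24
  have : Fact (Nat.Prime 2) := ⟨Nat.prime_two⟩
  obtain ⟨f, h1, h2, -⟩ := H834.U5.exists_hom
  have h3 : f.ker = zpowers ⟨z0, z0_mem⟩ := by
    apply le_antisymm
    · intro x hx
      rcases (h2 x).1 hx with k | k
      · rw [show x = 1 from Subtype.ext k]; exact one_mem _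
      · rw [show x = ⟨z0, z0_mem⟩ from Subtype.ext k]; exact mem_zpowers _
    · exact zpowers_le.2 ((h2 _).2 (Or.inr rfl))
  rw [← S0_eq, card_eq_card_quotient_mul_card_subgroup f.ker,
    Nat.card_congr (QuotientGroup.quotientKerEquivOfSurjective f h1).toEquiv, card_psu5, h3, Nat.card_zpowers,
    orderOf_eq_prime (p := 2) (Subtype.ext (by rw [pow_two]; exact z0_sq)) (fun k => z0_ne (congrArg Subtype.val k))]

/-- the model -/
noncomputable def DM : Md.Mod Fi24 where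
  z := x3
  Q := Q0
  S := H5
  vec := vec
  z3 := x3_cube
  z1 := x3_ne
  es := es0
  add := vd.add
  ker := vd.ker
  surj := vd.surj
  norm := fun hg hx => norm0 hg _ hx
  comm := fun hs => (H5_x3 hs).symm
  dec := dec0
  split := fun hs hx h => vd.split (t := z0⁻¹) (norm0 z0_x3.symm.inv_right) (fun j hj => by
      obtain ⟨y, e, -, k⟩ := be_spec hj
      rw [inv_inv, ← e]
      exact congrArg Subtype.val k) z0_x3.symm.inv_right (norm0 (H5_x3 hs).symm) (H5_x3 hs).symm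
    (Commute.inv_right (H5_z0 hs)) hx h
  faith := faith0
  card := card_H5

theorem rep_of {g : List Gen} {A : ℕ} (hS : word g ∈ H5) (hA : redC C A = true) (h1 : allBelow (rC g A) 6 = true)
    (h2 : allBelow (fun j => rC g A (j + 6)) 4 = true) : DM.Rep (word g) A := by
  have rA := redG_of_check gd hA
  have hn := norm0 (H5_x3 hS).symm
  refine ⟨hS, rA, fun x hx => vd.rep hn (fun j => funext fun k => ?_) hx⟩
  have hj : j.val < 10 := j.isLt
  have h3 : rC g A j = true := by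
    by_cases h : j.val < 6
    · exact allBelow_spec h1 j h
    · have := allBelow_spec h2 (j - 6) (by omega)
      rwa [show j.val - 6 + 6 = j by omega] at this
  refine vec_of_pts (hn _ (be_mem j hj)) (fun k => dg 12 A (j + 10 * k)) (fun k => rA.lt gd _) (fun i hi => ?_) k
  have h4 := rho_of_chkPt (allBelow_spec h3 i hi)
  rwa [word_append, word_append, word_reverse, ← mul_assoc] at h4

theorem rep_ge : List.Forall₂ DM.Rep geL MG := by
  have h := allL_spec red_MG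
  exact .cons (rep_of (ge_mem (by decide)) (h g0 (by simp [MG])) r_chk0a r_chk0b)
    (.cons (rep_of (ge_mem (by decide)) (h g1 (by simp [MG])) r_chk1a r_chk1b)
    (.cons (rep_of (ge_mem (by decide)) (h g2 (by simp [MG])) r_chk2a r_chk2b)
    (.cons (rep_of (ge_mem (by decide)) (h g3 (by simp [MG])) r_chk3a r_chk3b)
    (.cons (rep_of (ge_mem (by decide)) (h g4 (by simp [MG])) r_chk4a r_chk4b) .nil))))

/-! ### words in the generators of `Q0` -/

def vb (j : ℕ) : V := fun i => if i.val = j then 1 else if i.val + 10 = j then -1 else 0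

noncomputable def vlB (l : List ℕ) (R : ℕ) : Bool :=
  allL (fun j => Nat.blt j 20) l && decide (∀ i : Fin C.n, (l.map vb).sum i = rowVec C R i)

theorem qb_spec {j : ℕ} (hj : j < 20) : word (qb j) ∈ Q0 ∧ vec (word (qb j)) = vb j := by
  classical
  by_cases h : j < 10
  · have e : qb j = bw j := by rw [qb, Nat.blt_eq.mpr h, cond_true]
    rw [e]
    refine ⟨be_mem j h, (vd.bas ⟨j, h⟩).trans (funext fun i => ?_)⟩
    rw [Pi.single_apply, vb, if_neg (show ¬ i.val + 10 = j by omega)]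
    simp only [Fin.ext_iff]
  · have e : qb j = (bw (j - 10)).reverse := by
      rw [qb, show Nat.blt j 10 = false from Bool.eq_false_iff.2 fun k => h (Nat.blt_eq.mp k), cond_false]
    have h1 : j - 10 < 10 := by omega
    rw [e, word_reverse]
    refine ⟨inv_mem (be_mem _ h1), (vd.inv (be_mem _ h1)).trans ?_⟩
    rw [vd.bas ⟨j - 10, h1⟩]
    funext i
    have hi : i.val < 10 := i.isLt
    rw [Pi.neg_apply, Pi.single_apply, vb, if_neg (show ¬ i.val = j by omega)]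
    by_cases k : i.val + 10 = j
    · rw [if_pos k, if_pos (Fin.ext (by simp only; omega))]
    · rw [if_neg k, if_neg (fun e => k (by have := congrArg Fin.val e; simp only at this; omega)), neg_zero]

theorem qw_spec {l : List ℕ} {R : ℕ} (h : vlB l R = true) : word (qw l) ∈ Q0 ∧ vec (word (qw l)) = rowVec C R := by
  rw [vlB, Bool.and_eq_true, decide_eq_true_eq] at h
  rw [← funext h.2]
  have h1 : ∀ j ∈ l, j < 20 := fun j hj => Nat.blt_eq.mp (allL_spec h.1 j hj)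
  clear h
  induction l with
  | nil => exact ⟨one_mem _, vd.one⟩
  | cons j l ih =>
    obtain ⟨k1, k2⟩ := ih fun i hi => h1 i (List.mem_cons_of_mem _ hi)
    obtain ⟨k3, k4⟩ := qb_spec (h1 j List.mem_cons_self)
    have e : word (qw (j :: l)) = word (qb j) * word (qw l) := word_append _ _
    rw [e, vd.add k3 k1, k2, k4, List.map_cons, List.sum_cons]
    exact ⟨mul_mem k3 k1, rfl⟩

end Cfsg.Agent.SB.F24.Wd

private theorem dce_d2872bf30658 : _root_.True := by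
  try have : _root_.True := by simp only [_root_.Cfsg.Agent.SB.F24.Wd.geL.eq_1]
  try have : _root_.True := by simp only [_root_.Cfsg.Agent.SB.F24.Wd.hC.eq_1]
  try have : _root_.True := by simp only [_root_.Cfsg.Agent.SB.F24.Wd.vb.eq_1]
  try have : _root_.True := by simp only [_root_.Cfsg.Agent.SB.F24.Wd.be.eq_1]
  try have : _root_.True := by simp only [_root_.Cfsg.Agent.SB.F24.Wd.tC.eq_1]
  try have : _root_.True := by simp only [_root_.Cfsg.Agent.SB.F24.Wd.bw.eq_1]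
  try have : _root_.True := by simp only [_root_.Cfsg.Agent.SB.F24.Q0.eq_1]
  try have : _root_.True := by simp only [_root_.Cfsg.Agent.SB.F24.Wd.qb.eq_1]
  try have : _root_.True := by simp only [_root_.Cfsg.Agent.SB.F24.Wd.vlB.eq_1]
  try have : _root_.True := by simp only [_root_.Cfsg.Agent.SB.F24.Md.MG.eq_1]
  exact _root_.True.intro
end

-- part: SB/Mon/F24/Fin
section
set_option linter.all false
open scoped Cfsg.Agent.FastGrp

/-!
# S5765, the row `Fi24'`: `Loc` from the tables and the class certificates (helper96)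
-/

set_option autoImplicit false
set_option maxRecDepth 100000

namespace Cfsg.Agent.SB.F24.Md

open Subgroup
open scoped Matrix
open Cfsg.Agent.Lib.PackMat Cfsg.Agent.Lib.PackMatGroup Cfsg.Agent.Lib.PackMatMul Cfsg.Agent.Lib.PackMatLin
open Cfsg.Agent.Lib.PackMatOrbit (memB nodupB memB_spec nodupB_spec)
open Cfsg.Agent.SB.F24.Md.Mod

variable {G : Type} [Group G]

/-- what the model needs from the group -/
structure Cert (D : Mod G) (T : Subgroup G) (Pt : G → Prop) (LG : List G) (r t a b : G) : Prop where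
  cube : ∀ {p}, Pt p → p ^ 3 = 1
  inv : ∀ {p}, Pt p → Pt p⁻¹
  conj : ∀ {p}, Pt p → ∀ g, Pt (g * p * g⁻¹)
  nT : T.Normal
  odd : ∀ (g : G) (n : ℕ), Odd n → g ^ n = 1 → g ∈ T
  hG : List.Forall₂ D.Rep LG MG
  hr : D.Rep r Mr
  ht : D.Rep t Mt
  ha : D.Rep a Ma
  hb : D.Rep b Mb
  dr : D.Dead Pt r Rr1 ∧ D.Dead Pt r Rr2 ∧ D.Dead Pt r Rr3
  dt : D.Dead Pt t Rt1 ∧ D.Dead Pt t Rt2 ∧ D.Dead Pt t Rt3
  da : D.Dead Pt a Ra1 ∧ D.Dead Pt a Ra2 ∧ D.Dead Pt a Ra3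
  db : D.Dead Pt b Rb1 ∧ D.Dead Pt b Rb2 ∧ D.Dead Pt b Rb3
  nr : ¬ Pt r ∧ ¬ Pt (r * D.z⁻¹)
  nt : ¬ Pt (t * D.z) ∧ ¬ Pt (t * D.z⁻¹)
  na : ¬ Pt a ∧ ¬ Pt (a * D.z) ∧ ¬ Pt (a * D.z⁻¹)
  nb : ¬ Pt b ∧ ¬ Pt (b * D.z) ∧ ¬ Pt (b * D.z⁻¹)
  pz : Pt D.z
  p0 : ∃ q ∈ D.Q, D.vec q = rowVec C v0 ∧ Pt q
  pA : ∃ q ∈ D.Q, D.vec q = rowVec C vA ∧ ¬ Pt q
  pC : ∃ q ∈ D.Q, D.vec q = rowVec C vC ∧ ¬ Pt q
  pD : ∃ q ∈ D.Q, D.vec q = rowVec C vD ∧ ¬ Pt q

/-- an `A₅` in `T ⊓ C(z) ⊓ C(w)` -/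
def NS (T : Subgroup G) (z w : G) : Prop :=
  ∃ u v : G, u ∈ T ∧ v ∈ T ∧ Commute z u ∧ Commute z v ∧ Commute w u ∧ Commute w v ∧ u ^ 2 = 1 ∧ v ^ 3 = 1 ∧
    (u * v) ^ 5 = 1 ∧ u ≠ 1

theorem NS.not_solvable {T : Subgroup G} {z w : G} (h : NS T z w) :
    ¬ Group.IsSolvable ↥(T ⊓ centralizer {z} ⊓ centralizer {w}) := by
  obtain ⟨u, v, h1, h2, h3, h4, h5, h6, h7, h8, h9, h10⟩ := h
  intro hs
  exact h10 (SB.Spor.eq_one_of_coprime hs
    ⟨⟨h1, mem_centralizer_singleton_iff.2 h3.symm⟩, mem_centralizer_singleton_iff.2 h5.symm⟩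
    ⟨⟨h2, mem_centralizer_singleton_iff.2 h4.symm⟩, mem_centralizer_singleton_iff.2 h6.symm⟩ h7 h8 h9
    (by decide) (by decide) (by decide))

theorem comm_cj {x y : G} (g : G) (h : Commute x y) : Commute (g * x * g⁻¹) (g * y * g⁻¹) := h.map (MulAut.conj g)

theorem cj_fix {z g : G} (h : Commute z g) : g * z * g⁻¹ = z := by rw [← h.eq, mul_inv_cancel_right]

theorem NS.conj {T : Subgroup G} (nT : T.Normal) {z w g : G} (hg : Commute z g) (h : NS T z w) :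
    NS T z (g * w * g⁻¹) := by
  obtain ⟨u, v, h1, h2, h3, h4, h5, h6, h7, h8, h9, h10⟩ := h
  refine ⟨g * u * g⁻¹, g * v * g⁻¹, nT.conj_mem u h1 g, nT.conj_mem v h2 g, ?_, ?_, comm_cj g h5, comm_cj g h6,
    by rw [conj_pow, h7]; group, by rw [conj_pow, h8]; group, ?_, fun k => h10 (by simpa using k)⟩
  · have := comm_cj g h3; rwa [cj_fix hg] at this
  · have := comm_cj g h4; rwa [cj_fix hg] at this
  · rw [show g * u * g⁻¹ * (g * v * g⁻¹) = g * (u * v) * g⁻¹ by group, conj_pow, h9]; group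

/-- the properties of a point of `C(z)` outside `Q` -/
structure Gd (D : Mod G) (T : Subgroup G) (Pt : G → Prop) (w : G) : Prop where
  p1 : ¬ Pt (w * D.z)
  p2 : ¬ Pt (w * D.z⁻¹)
  small : Nat.card ↥(D.Q ⊓ centralizer {w}) ≤ 3 ^ 8
  kind : ((∀ x ∈ D.Q, Commute x w → x ∈ closure {q | Pt q ∧ q ∈ D.Q ∧ Commute q w}) ∧ NS T D.z w) ∨
    (∀ a b, Pt a → Pt b → a ∈ D.Q → b ∈ D.Q → Commute a w → Commute b w → a * b ∈ zpowers D.z ∨ Pt (a * b))

namespace Cert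

variable {D : Mod G} {T : Subgroup G} {Pt : G → Prop} {LG : List G} {r t a b : G} (H : Cert D T Pt LG r t a b)

include H

theorem conj' {p : G} (g : G) (h : Pt (g⁻¹ * p * g)) : Pt p := by
  have := H.conj h g
  rwa [show g * (g⁻¹ * p * g) * g⁻¹ = p by group] at this

theorem conj'' {p : G} (h : Pt p) (g : G) : Pt (g⁻¹ * p * g) := by
  have := H.conj h g⁻¹
  rwa [inv_inv] at this

theorem gd_inv {w : G} (hw : Commute D.z w) (h : Gd D T Pt w⁻¹) : Gd D T Pt w := by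
  have e : centralizer ({w} : Set G) = centralizer {w⁻¹} := by
    ext x
    rw [mem_centralizer_singleton_iff, mem_centralizer_singleton_iff]
    exact (Commute.inv_right_iff (a := x)).symm
  refine ⟨fun k => h.p2 ?_, fun k => h.p1 ?_, e ▸ h.small, ?_⟩
  · have := H.inv k
    rwa [mul_inv_rev, hw.inv_inv.eq] at this
  · have := H.inv k
    rwa [mul_inv_rev, inv_inv, hw.inv_right.eq] at this
  · rcases h.kind with ⟨k1, u, v, k2⟩ | k
    · simp only [Commute.inv_right_iff, Commute.inv_left_iff] at k1 k2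
      exact Or.inl ⟨k1, u, v, k2⟩
    · simp only [Commute.inv_right_iff] at k
      exact Or.inr k

theorem gd_conj [Finite G] {w g : G} (hg : Commute D.z g) (h : Gd D T Pt (g⁻¹ * w * g)) : Gd D T Pt w := by
  have cm : ∀ {x}, Commute x w → Commute (g⁻¹ * x * g) (g⁻¹ * w * g) := fun k => by
    have := comm_cj g⁻¹ k
    rwa [inv_inv] at this
  have ew : g * (g⁻¹ * w * g) * g⁻¹ = w := by group
  refine ⟨fun k => h.p1 ?_, fun k => h.p2 ?_, le_trans ?_ h.small, ?_⟩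
  · have := H.conj'' k g
    rwa [mul_assoc, mul_assoc, hg.eq, ← mul_assoc, ← mul_assoc] at this
  · have := H.conj'' k g
    rwa [mul_assoc, mul_assoc, hg.inv_left.eq, ← mul_assoc, ← mul_assoc] at this
  · refine Nat.card_le_card_of_injective (fun x => ⟨g⁻¹ * x * g, D.norm hg x.2.1, mem_centralizer_singleton_iff.2
      (cm (mem_centralizer_singleton_iff.1 x.2.2))⟩) fun x y e => Subtype.ext ?_
    have := congrArg Subtype.val e
    simpa using this
  · rcases h.kind with ⟨k1, k2⟩ | k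
    · refine Or.inl ⟨fun x hx hc => ?_, ew ▸ k2.conj H.nT hg⟩
      have h1 := k1 _ (D.norm hg hx) (cm hc)
      have h2 : closure {q | Pt q ∧ q ∈ D.Q ∧ Commute q (g⁻¹ * w * g)} ≤
          (closure {q | Pt q ∧ q ∈ D.Q ∧ Commute q w}).comap (MulAut.conj g).toMonoidHom := by
        rw [closure_le]
        rintro q ⟨q1, q2, q3⟩
        exact subset_closure ⟨H.conj q1 g, D.norm' hg q2, ew ▸ comm_cj g q3⟩
      have h3 : g * (g⁻¹ * x * g) * g⁻¹ ∈ closure {q | Pt q ∧ q ∈ D.Q ∧ Commute q w} := h2 h1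
      rwa [show g * (g⁻¹ * x * g) * g⁻¹ = x by group] at h3
    · refine Or.inr fun x y px py hx hy cx cy => ?_
      have h1 := k _ _ (H.conj'' px g) (H.conj'' py g) (D.norm hg hx) (D.norm hg hy) (cm cx) (cm cy)
      rw [show g⁻¹ * x * g * (g⁻¹ * y * g) = g⁻¹ * (x * y) * g by group] at h1
      rcases h1 with h1 | h1
      · left
        have h2 := (D.cZ hg h1).eq
        rw [show x * y = g * (g⁻¹ * (x * y) * g) * g⁻¹ by group, ← h2, mul_inv_cancel_right]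
        exact h1
      · exact Or.inr (H.conj' g h1)

omit H in
theorem rv_ne {R : ℕ} (h : okR C R = true) (h0 : R ≠ 0) : rowVec C R ≠ 0 := fun k =>
  h0 (rowVec_injOn (okR_spec h) (okR_spec (by decide +kernel)) (k.trans rowVec_zero.symm))

theorem pt_v0 {x : G} (hx : x ∈ D.Q) (e : D.vec x = rowVec C v0) : Pt x := by
  obtain ⟨q, hq, f, p⟩ := H.p0
  obtain ⟨g, rfl⟩ := D.conj_vec hx hq (e.trans f.symm) (f ▸ rv_ne ec_v0.1 nz_vec.2.2.2.1)
  exact H.conj p g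

theorem np_of {R : ℕ} (h : ∃ q ∈ D.Q, D.vec q = rowVec C R ∧ ¬ Pt q) (h1 : okR C R = true) (h0 : R ≠ 0) {x : G}
    (hx : x ∈ D.Q) (e : D.vec x = rowVec C R) : ¬ Pt x := by
  obtain ⟨q, hq, f, p⟩ := h
  obtain ⟨g, rfl⟩ := D.conj_vec hq hx (f.trans e.symm) (e ▸ rv_ne h1 h0)
  exact fun k => p (H.conj k g)

theorem rp {w : List ℕ} {A : ℕ} (h : okW MG.length w = true ∧ Nat.beq (evL mu MG w c1) A = true) :
    D.Rep (evG LG w) A := (rep_ev H.hG h.1).of_beq h.2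

theorem exists_uv : ∃ u v, D.Rep u Mu ∧ D.Rep v Mv ∧ u ∈ T ∧ v ∈ T ∧ u ^ 2 = 1 ∧ v ^ 3 = 1 ∧ (u * v) ^ 5 = 1 ∧ u ≠ 1 := by
  have hu := H.rp ev_u
  have hv := H.rp ev_v
  generalize evG LG [0, 2] = u at hu
  generalize evG LG [2, 1, 2, 3] = v at hv
  obtain ⟨k1, k2, k3, k4, -⟩ := uv_chk
  have e := hu.mul hv
  have h5 : (u * v) ^ 5 = 1 := by
    rw [show (u * v) ^ 5 = u * v * (u * v) * (u * v) * (u * v) * (u * v) by
      simp only [pow_succ, pow_zero, one_mul]]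
    exact ((((e.mul e).mul e).mul e).mul e).eq' rep_one k3
  have tv := H.odd v 3 (by decide) (hv.cube k2)
  refine ⟨u, v, hu, hv, ?_, tv, ?_, hv.cube k2, h5, fun k => ?_⟩
  · have := mul_mem (H.odd _ 5 (by decide) h5) (inv_mem tv)
    rwa [mul_inv_cancel_right] at this
  · rw [pow_two]
    exact (hu.mul hu).eq' rep_one k1
  · rw [k] at hu
    rw [hu.code rep_one, Nat.beq_refl] at k4
    exact absurd k4 (by decide)

theorem gd_r [Finite G] : Gd D T Pt (r * D.z) := by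
  have cz : ∀ {x}, x ∈ D.Q → (Commute x (r * D.z) ↔ Commute r x) := fun {x} hx =>
    ⟨fun k => by
      have := k.mul_right (D.cQ hx).symm.inv_right
      rw [mul_inv_cancel_right] at this
      exact this.symm, fun k => k.symm.mul_right (D.cQ hx).symm⟩
  refine ⟨?_, ?_, fix_card H.hr fix_r fun x hx k => (cz hx).1 k.symm, Or.inl ⟨fun x hx k => ?_, ?_⟩⟩
  · have e : D.z * D.z = D.z⁻¹ := by rw [eq_inv_iff_mul_eq_one, ← pow_three', D.z3]
    rw [mul_assoc, e]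
    exact H.nr.2
  · rw [mul_inv_cancel_right]
    exact H.nr.1
  · refine fix_gen (K := closure {q | Pt q ∧ q ∈ D.Q ∧ Commute q (r * D.z)}) H.hr H.hG fix_r row_r
      (Subgroup.subset_closure ⟨H.pz, D.z_mem, (cz D.z_mem).2 (D.comm H.hr.1).symm⟩)
      (fun q hq c1 c hc e => Subgroup.subset_closure ⟨H.conj' c (H.pt_v0 (D.nS hc hq) e), hq, (cz hq).2 c1⟩) hx ((cz hx).1 k)
  · obtain ⟨u, v, hu, hv, h1, h2, h3, h4, h5, h6⟩ := H.exists_uv
    obtain ⟨-, -, -, -, k1, k2, -⟩ := uv_chk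
    exact ⟨u, v, h1, h2, D.comm hu.1, D.comm hv.1, (hu.commute H.hr k1).symm.mul_left (D.comm hu.1),
      (hv.commute H.hr k2).symm.mul_left (D.comm hv.1), h3, h4, h5, h6⟩

theorem gd_t [Finite G] : Gd D T Pt t := by
  refine ⟨H.nt.1, H.nt.2, fix_card H.ht fix_t fun x _ k => k, Or.inr fun x y px py hx hy cx cy => ?_⟩
  have key : ∀ {x}, x ∈ D.Q → Commute x t → (Pt x → D.vec x ᵥ* mat C Fmt = 0) ∧
      (D.vec x ᵥ* mat C Fmt = 0 → x ∈ zpowers D.z ∨ Pt x) := by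
    intro x hx cx
    obtain ⟨c, hc, k, hk, e, f⟩ := fix_cls H.ht H.hG fix_t cls_t hx cx.symm
    obtain ⟨n1, n2, n3, -, n4, n5, n6⟩ := nz_vec
    have hq := D.nS hc hx
    have hk' : k < 5 := hk
    refine ⟨fun p => f.1 ?_, fun p => ?_⟩
    · have p' := H.conj'' p c
      interval_cases k
      · decide
      · decide
      · exact absurd p' (H.np_of H.pA n1 n4 hq e)
      · exact absurd p' (H.np_of H.pC n2 n5 hq e)
      · exact absurd p' (H.np_of H.pD n3 n6 hq e)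
    · have h1 := f.2 p
      interval_cases k
      · left
        have h2 := (D.ker hq).1 (e.trans rowVec_zero)
        have h3 := (D.cZ (D.comm hc) h2).eq
        rw [show x = c * (c⁻¹ * x * c) * c⁻¹ by group, ← h3, mul_inv_cancel_right]
        exact h2
      · exact Or.inr (H.conj' c (H.pt_v0 hq e))
  refine (key (mul_mem hx hy) (cx.mul_left cy)).2 ?_
  rw [D.add hx hy, Matrix.add_vecMul, (key hx cx).1 px, (key hy cy).1 py, add_zero]

theorem cos_r [Finite G] {x : G} (hx : x ∈ D.Q) (hp : Pt (r * x)) : Gd D T Pt (r * x) := by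
  obtain ⟨g, hg, w, pw, e, h⟩ := coset H.cube H.conj H.hr (.cons (H.rp ev_cr0) (.cons (H.rp ev_cr1) .nil)) aff_r
    H.dr.1 H.dr.2.1 H.dr.2.2 hx hp
  rcases h with rfl | rfl | rfl
  exacts [absurd pw H.nr.1, H.gd_conj hg (e ▸ H.gd_r), absurd pw H.nr.2]

theorem cos_t [Finite G] {x : G} (hx : x ∈ D.Q) (hp : Pt (t * x)) : Gd D T Pt (t * x) := by
  obtain ⟨g, hg, w, pw, e, h⟩ := coset H.cube H.conj H.ht (.cons (H.rp ev_ct0) (.cons (H.rp ev_ct1) .nil)) aff_t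
    H.dt.1 H.dt.2.1 H.dt.2.2 hx hp
  rcases h with h | rfl | rfl
  exacts [H.gd_conj hg (by rw [e, h]; exact H.gd_t), absurd pw H.nt.1, absurd pw H.nt.2]

theorem cos_a {x : G} (hx : x ∈ D.Q) : ¬ Pt (a * x) := fun hp => by
  obtain ⟨g, -, w, pw, -, h⟩ := coset H.cube H.conj H.ha (.cons (H.rp ev_ca0) (.cons (H.rp ev_ca1) .nil)) aff_a
    H.da.1 H.da.2.1 H.da.2.2 hx hp
  rcases h with rfl | rfl | rfl
  exacts [H.na.1 pw, H.na.2.1 pw, H.na.2.2 pw]

theorem cos_b {x : G} (hx : x ∈ D.Q) : ¬ Pt (b * x) := fun hp => by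
  obtain ⟨g, -, w, pw, -, h⟩ := coset H.cube H.conj H.hb (.cons (H.rp ev_cb0) (.cons (H.rp ev_cb1) .nil)) aff_b
    H.db.1 H.db.2.1 H.db.2.2 hx hp
  rcases h with rfl | rfl | rfl
  exacts [H.nb.1 pw, H.nb.2.1 pw, H.nb.2.2 pw]

omit H in
theorem inv_cos {s x : G} (hs : s ∈ D.S) (h3 : s ^ 3 = 1) (hx : x ∈ D.Q) : ∃ y ∈ D.Q, (s * s * x)⁻¹ = s * y := by
  have e : s * s = s⁻¹ := by rw [eq_inv_iff_mul_eq_one, ← pow_three', h3]
  exact ⟨s⁻¹ * x⁻¹ * s, D.nS hs (inv_mem hx), by rw [e]; group⟩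

/-- the points in the cosets of the Sylow subgroup -/
theorem cls [Finite G] {s x : G} {A : ℕ} (hA : A ∈ LL) (hs : D.Rep s A) (hx : x ∈ D.Q) (hp : Pt (s * x)) :
    s = 1 ∨ (A ∈ FL ∧ Gd D T Pt (s * x)) := by
  have hE : List.Forall₂ D.Rep _ EC := .cons (H.rp ev_e0) (.cons (H.rp ev_e1) (.cons (H.rp ev_e2) (.cons (H.rp ev_e3)
    (.cons (H.rp ev_e4) .nil))))
  have s3 := pow_eq_one hs.1 hx (H.cube hp)
  obtain ⟨c1, c2, c3, c4⟩ := cubes
  have e0 : ∀ c, c⁻¹ * (s * x) * c = (c⁻¹ * s * c) * (c⁻¹ * x * c) := fun c => by group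
  obtain ⟨e, he, rfl⟩ := List.mem_map.1 hA
  rcases List.mem_append.1 he with he | he
  · have hS : List.Forall₂ D.Rep [r, r * r, t, t * t] SL1 :=
      .cons H.hr (.cons (H.hr.mul H.hr) (.cons H.ht (.cons (H.ht.mul H.ht) .nil)))
    rcases (tb_spec hE H.hG hS (allL_spec tf_chk e he)).2 s hs with h | h | ⟨c, hc, h⟩
    · exact Or.inl h
    · exact absurd s3 h
    refine Or.inr ⟨List.mem_map_of_mem he, H.gd_conj (D.comm hc) ?_⟩
    have p := H.conj'' hp c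
    have q := D.nS hc hx
    rw [e0] at p ⊢
    generalize c⁻¹ * x * c = y at p q
    generalize c⁻¹ * s * c = s' at p h
    simp only [List.mem_cons, List.not_mem_nil, or_false] at h
    rcases h with h | h | h | h <;> rw [h] at p ⊢
    · exact H.cos_r q p
    · obtain ⟨y', q', f⟩ := inv_cos H.hr.1 (H.hr.cube c1) q
      refine H.gd_inv (((D.comm H.hr.1).mul_right (D.comm H.hr.1)).mul_right (D.cQ q)) ?_
      rw [f]
      exact H.cos_r q' (f ▸ H.inv p)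
    · exact H.cos_t q p
    · obtain ⟨y', q', f⟩ := inv_cos H.ht.1 (H.ht.cube c2) q
      refine H.gd_inv (((D.comm H.ht.1).mul_right (D.comm H.ht.1)).mul_right (D.cQ q)) ?_
      rw [f]
      exact H.cos_t q' (f ▸ H.inv p)
  · have hS : List.Forall₂ D.Rep [a, a * a, b, b * b] SL2 :=
      .cons H.ha (.cons (H.ha.mul H.ha) (.cons H.hb (.cons (H.hb.mul H.hb) .nil)))
    rcases (tb_spec hE H.hG hS (allL_spec tr_chk e he)).2 s hs with h | h | ⟨c, hc, h⟩
    · exact Or.inl h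
    · exact absurd s3 h
    exfalso
    have p := H.conj'' hp c
    have q := D.nS hc hx
    rw [e0] at p
    generalize c⁻¹ * x * c = y at p q
    generalize c⁻¹ * s * c = s' at p h
    simp only [List.mem_cons, List.not_mem_nil, or_false] at h
    rcases h with h | h | h | h <;> rw [h] at p
    · exact H.cos_a q p
    · obtain ⟨y', q', f⟩ := inv_cos H.ha.1 (H.ha.cube c3) q
      exact H.cos_a q' (f ▸ H.inv p)
    · exact H.cos_b q p
    · obtain ⟨y', q', f⟩ := inv_cos H.hb.1 (H.hb.cube c4) q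
      exact H.cos_b q' (f ▸ H.inv p)

/-- the Sylow subgroup -/
theorem sylow [Finite G] : ∃ K : Subgroup G, (∀ s ∈ K, ∃ A ∈ LL, D.Rep s A) ∧
    (∀ s ∈ K, ∀ q ∈ D.Q, D.vec q = rowVec C v0 → Commute s q) ∧ ∀ B : Subgroup G, IsPGroup 3 B →
      (∀ b ∈ B, Commute D.z b) → ∃ h ∈ D.S, ∀ b ∈ B, ∃ s ∈ K, ∃ x ∈ D.Q, h⁻¹ * b * h = s * x := by
  have hE : List.Forall₂ D.Rep _ EC := .cons (H.rp ev_e0) (.cons (H.rp ev_e1) (.cons (H.rp ev_e2) (.cons (H.rp ev_e3)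
    (.cons (H.rp ev_e4) .nil))))
  obtain ⟨h1, h2⟩ := syl hE ll_len ll_nd ll_one ec_cube ll_cl (fun A hA => by
    obtain ⟨e, he, rfl⟩ := List.mem_map.1 hA
    rcases List.mem_append.1 he with he | he
    · exact ⟨_, (tb_spec hE H.hG (.cons H.hr (.cons (H.hr.mul H.hr) (.cons H.ht (.cons (H.ht.mul H.ht) .nil))))
        (allL_spec tf_chk e he)).1⟩
    · exact ⟨_, (tb_spec hE H.hG (.cons H.ha (.cons (H.ha.mul H.ha) (.cons H.hb (.cons (H.hb.mul H.hb) .nil))))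
        (allL_spec tr_chk e he)).1⟩)
  refine ⟨_, h1, fun s hs q hq e => ?_, h2⟩
  refine mem_centralizer_singleton_iff.1 ((closure_le (centralizer {q})).2 (fun g hg => ?_) hs)
  obtain ⟨A, hA, k⟩ := forall₂_mem hE hg
  exact mem_centralizer_singleton_iff.2 (k.comm (okR_spec ec_v0.1) (allL_spec ec_v0.2 A hA) hq e).eq

omit H in
theorem pg_pair {x y : G} (hx : x ^ 3 = 1) (hy : y ^ 3 = 1) (h : Commute x y) :
    IsPGroup 3 (zpowers x ⊔ zpowers y : Subgroup G) := by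
  rintro ⟨g, hg⟩
  obtain ⟨_, ⟨i, rfl⟩, _, ⟨j, rfl⟩, rfl⟩ := (H841.Ext.mem_sup_of_comm (by
    rintro _ ⟨i, rfl⟩ _ ⟨j, rfl⟩
    exact h.zpow_zpow i j)).1 hg
  refine ⟨1, Subtype.ext ?_⟩
  show (x ^ i * y ^ j) ^ 3 ^ 1 = 1
  rw [pow_one, (h.zpow_zpow i j).mul_pow, ← zpow_natCast, ← zpow_natCast, ← zpow_mul, ← zpow_mul, mul_comm i, mul_comm j,
    zpow_mul, zpow_mul, zpow_natCast, zpow_natCast, hx, hy, one_zpow, one_zpow, mul_one]

theorem gd [Finite G] {w : G} (hp : Pt w) (hc : Commute D.z w) (hw : w ∉ D.Q) : Gd D T Pt w := by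
  obtain ⟨K, h1, -, h2⟩ := H.sylow
  obtain ⟨h, hh, h3⟩ := h2 _ (pg_pair (H.cube hp) (H.cube hp) (Commute.refl w)) (by
    rw [sup_idem]
    rintro _ ⟨i, rfl⟩
    exact hc.zpow_right i)
  obtain ⟨s, hs, x, hx, e⟩ := h3 w (mem_sup_left (mem_zpowers w))
  obtain ⟨A, hA, k⟩ := h1 s hs
  rcases H.cls hA k hx (e ▸ H.conj'' hp h) with k1 | k1
  · rw [k1, one_mul] at e
    refine absurd ?_ hw
    rw [show w = h * (h⁻¹ * w * h) * h⁻¹ by group, e]
    exact D.norm' (D.comm hh) hx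
  · exact H.gd_conj (D.comm hh) (e ▸ k1.2)

theorem loc [Finite G] : Loc T Pt D.z D.Q where
  pure := fun {w} hp hc h1 _ => by
    by_contra hw
    exact (H.gd hp hc hw).p1 h1
  small := fun hp hc hw => (H.gd hp hc hw).small
  kind := fun hp hc hw => (H.gd hp hc hw).kind.imp
    (fun k => ⟨fun x hx => k.1 x hx.1 (mem_centralizer_singleton_iff.1 hx.2), k.2.not_solvable⟩) id
  meet := fun {x y} px py p1 p2 cx cy cxy => by
    by_contra hn
    simp only [not_or] at hn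
    obtain ⟨n1, n2, n3, n4⟩ := hn
    obtain ⟨K, h1, -, h2⟩ := H.sylow
    obtain ⟨h, hh, h3⟩ := h2 _ (pg_pair (H.cube px) (H.cube py) cxy) (fun b hb => by
      have : zpowers x ⊔ zpowers y ≤ centralizer {D.z} :=
        sup_le (zpowers_le.2 (mem_centralizer_singleton_iff.2 cx.symm))
          (zpowers_le.2 (mem_centralizer_singleton_iff.2 cy.symm))
      exact (show Commute b D.z from mem_centralizer_singleton_iff.1 (this hb)).symm)
    obtain ⟨s, hs, u, hu, e⟩ := h3 x (mem_sup_left (mem_zpowers x))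
    obtain ⟨s', hs', u', hu', e'⟩ := h3 y (mem_sup_right (mem_zpowers y))
    have key : ∀ {w s u : G} {A : ℕ}, s ∈ K → D.Rep s A → u ∈ D.Q → h⁻¹ * w * h = s * u → Pt w → w ∉ D.Q → A ∈ FL := by
      intro w s u A hs hA hu e p n
      obtain ⟨A', hA', k⟩ := h1 s hs
      rcases H.cls hA' k hu (e ▸ H.conj'' p h) with k1 | k1
      · rw [k1, one_mul] at e
        refine absurd ?_ n
        rw [show w = h * (h⁻¹ * w * h) * h⁻¹ by group, e]
        exact D.norm' (D.comm hh) hu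
      · exact hA.code k ▸ k1.1
    obtain ⟨A, -, rA⟩ := h1 s hs
    obtain ⟨B, -, rB⟩ := h1 s' hs'
    have q1 : s'⁻¹ * u * s' * u' ∈ D.Q := mul_mem (D.nS rB.1 hu) hu'
    have f1 : h⁻¹ * (x * y) * h = s * s' * (s'⁻¹ * u * s' * u') := by
      rw [show h⁻¹ * (x * y) * h = (h⁻¹ * x * h) * (h⁻¹ * y * h) by group, e, e']; group
    have f2 : h⁻¹ * (x * y⁻¹) * h = s * s' * s' * (s'⁻¹ * (s'⁻¹ * u * s' * u') * s' * u') := by
      have ey : y⁻¹ = y * y := by rw [inv_eq_iff_mul_eq_one, ← mul_assoc, ← pow_three', H.cube py]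
      rw [ey, show h⁻¹ * (x * (y * y)) * h = (h⁻¹ * (x * y) * h) * (h⁻¹ * y * h) by group, f1, e']; group
    have m1 := key hs rA hu e px n1
    have m2 := key hs' rB hu' e' py n2
    have m3 := key (mul_mem hs hs') (rA.mul rB) q1 f1 p1 n3
    have m4 := key (mul_mem (mul_mem hs hs') hs') ((rA.mul rB).mul rB) (mul_mem (D.nS rB.1 q1) hu') f2 p2 n4
    have m5 := allL_spec (allL_spec fl_meet A m1) B m2
    rw [force_eq, force_eq, memB_spec.2 m3, memB_spec.2 m4] at m5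
    exact absurd m5 (by decide)
  line := fun B hB hc => by
    obtain ⟨K, h1, h4, h2⟩ := H.sylow
    obtain ⟨h, hh, h3⟩ := h2 B hB hc
    obtain ⟨q, hq, e, p⟩ := H.p0
    have ch := D.comm hh
    refine ⟨h * q * h⁻¹, H.conj p h, D.norm' ch hq, fun k => ?_, fun b hb => ?_, NS.not_solvable (NS.conj H.nT ch ?_)⟩
    · have h5 := (D.cZ ch k).eq
      have h6 : q = h * q * h⁻¹ := by
        rw [inv_mul_cancel_right] at h5
        calc q = h⁻¹ * (h * q) := by group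
          _ = h * q * h⁻¹ := by rw [← inv_mul_eq_iff_eq_mul] at h5; exact h5
      rw [← h6] at k
      exact rv_ne ec_v0.1 nz_vec.2.2.2.1 (e ▸ (D.ker hq).2 k)
    · obtain ⟨s, hs, x, hx, f⟩ := h3 b hb
      obtain ⟨A, -, rA⟩ := h1 s hs
      have c1 := h4 s hs q hq e
      have c2 := D.es.com x hx q hq
      have c3 : b * (h * q * h⁻¹) * b⁻¹ * (h * q * h⁻¹)⁻¹ = h * (s * (x * q * x⁻¹ * q⁻¹) * s⁻¹) * h⁻¹ := by
        have c4 : s * (x * q * x⁻¹ * q⁻¹) * s⁻¹ = s * x * q * x⁻¹ * s⁻¹ * q⁻¹ := by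
          rw [mul_assoc _ s⁻¹, c1.inv_inv.eq]; group
        rw [c4, show b = h * (h⁻¹ * b * h) * h⁻¹ by group, f]; group
      rw [c3, ← (D.cZ (D.comm rA.1) c2).eq, mul_inv_cancel_right, ← (D.cZ ch c2).eq, mul_inv_cancel_right]
      exact c2
    · obtain ⟨u, v, hu, hv, k1, k2, k3, k4, k5, k6⟩ := H.exists_uv
      obtain ⟨-, -, -, -, -, -, m1, m2⟩ := uv_chk
      exact ⟨u, v, k1, k2, D.comm hu.1, D.comm hv.1, (hu.comm (okR_spec ec_v0.1) m1 hq e).symm,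
        (hv.comm (okR_spec ec_v0.1) m2 hq e).symm, k3, k4, k5, k6⟩

end Cert

end Cfsg.Agent.SB.F24.Md
end
end
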