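import Cfsg.Agent.SB.Mon.F24.Chk2_m3
import Cfsg.Agent.SB.Mon.F24.Vec_m3
import Cfsg.Agent.TAB.Sm2.M24_m3
import Cfsg.Agent.FastGrp
import Cfsg.Agent.Prune
set_option linter.all false

section
prune_inst 0x7f00000000000000000000000000000000000000000000000000000000000000000000000000000000000000000000000000000000000000000000000000000000000000000000000000000000000000003fffffffffffffffffffffffffffbeffbdffffffff

-- part: SB/Mon/F24/Chk3
section
set_option linter.all false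
open scoped Cfsg.Agent.FastGrp
/-!
# S5765, the row `Fi24'`: conjugacy certificates, II (helper96; generated)
-/

set_option autoImplicit false
set_option maxRecDepth 100000

namespace Cfsg.Agent.SB.F24.Wd

section FastNet
open Cfsg.Agent.Lib.PermNet Cfsg.Agent.Lib.PermNetPt

/-- the stages of a network applied to a set of points, the last stage first -/
private noncomputable def fnApp (L : Net) (P : ℕ) : ℕ :=
  Net.rec (motive := fun _ => ℕ) P (fun M d _ ih => stage M d ih) L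

private theorem fnApp_bit {N : ℕ} {L : Net} (h : L.ok N = true) (P p : ℕ) :
    (fnApp L P).testBit p = P.testBit (invPt L p) := by
  induction L generalizing p with
  | nil => rfl
  | cons M d L ih =>
    obtain ⟨h1, _, h3⟩ := Net.ok_cons h
    show (stage M d (fnApp L P)).testBit p = P.testBit (stepK M d (invPt L) p)
    rw [testBit_stage h1, stagePerm_apply h1, ih h3, stepK_eq]

private theorem fnInv_lt {N : ℕ} {L : Net} (h : L.ok N = true) {p : ℕ} (hp : p < N) : invPt L p < N := by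
  induction L generalizing p with
  | nil => exact hp
  | cons M d L ih =>
    obtain ⟨_, h2, h3⟩ := Net.ok_cons h
    show stepK M d (invPt L) p < N
    rw [stepK_eq]
    exact ih h3 (tau_lt h2 hp)

/-- `c 0`, …, `c (n - 1)` side by side in fields of `W` bits -/
private noncomputable def fnSt (W : ℕ) (c : ℕ → ℕ) (n : ℕ) : ℕ :=
  Nat.rec (motive := fun _ => ℕ) 0 (fun b ih => Nat.lor ih (Nat.shiftLeft (c b) (Nat.mul W b))) n

private theorem fnSt_lt {W : ℕ} {c : ℕ → ℕ} {e : ℕ} (he : e ≤ W) (hc : ∀ b, c b < 2 ^ e) (n i : ℕ)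
    (h : (fnSt W c n).testBit i = true) : i + W < W * n + e := by
  induction n with
  | zero => exact absurd h (by show ¬ (Nat.testBit 0 i = true); simp)
  | succ n ih =>
    have h' : ((fnSt W c n) ||| (c n <<< (W * n))).testBit i = true := h
    rw [Nat.testBit_or, Bool.or_eq_true, Nat.testBit_shiftLeft, Bool.and_eq_true, decide_eq_true_eq] at h'
    rw [Nat.mul_succ]
    rcases h' with h' | ⟨h1, h2⟩
    · have := ih h'; omega
    · have : i - W * n < e := by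
        by_contra hh
        rw [Nat.testBit_lt_two_pow (lt_of_lt_of_le (hc n) (Nat.pow_le_pow_right (by decide) (by omega)))] at h2
        exact absurd h2 (by simp)
      omega

private theorem fnSt_gather {W m : ℕ} (hW : 2 ^ W ≡ 2 [MOD m]) {c : ℕ → ℕ} (hc : ∀ b, c b < 2 ^ W) {r : ℕ} (hr : r < W)
    (v n : ℕ) (h : ∀ b < n, (c b).testBit r = v.testBit b) :
    ((fnSt W c n >>> r) &&& fnSt W (fun _ => 1) n) ≡ v % 2 ^ n [MOD m] := by
  induction n with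
  | zero => show (0 >>> r &&& 0) ≡ _ [MOD m]; simp [Nat.mod_one]; rfl
  | succ n ih =>
    have hS := fnSt_lt le_rfl hc n
    have hR := fnSt_lt (W := W) (c := fun _ => 1) (e := 1) (by omega) (fun _ => by decide) n
    have hG : (fnSt W c n >>> r) &&& fnSt W (fun _ => 1) n < 2 ^ (W * n) := by
      apply Nat.lt_pow_two_of_testBit
      intro i hi
      rw [Nat.testBit_and]
      cases hb : (fnSt W (fun _ => 1) n).testBit i
      · simp
      · have := hR i hb; omega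
    have e : (fnSt W c (n + 1) >>> r) &&& fnSt W (fun _ => 1) (n + 1) =
        2 ^ (W * n) * (v.testBit n).toNat + ((fnSt W c n >>> r) &&& fnSt W (fun _ => 1) n) := by
      rw [Nat.two_pow_add_eq_or_of_lt hG]
      show ((fnSt W c n ||| (c n <<< (W * n))) >>> r) &&& (fnSt W (fun _ => 1) n ||| (1 <<< (W * n))) = _
      apply Nat.eq_of_testBit_eq
      intro i
      rw [Nat.testBit_and, Nat.testBit_shiftRight, Nat.testBit_or, Nat.testBit_or, Nat.testBit_or, Nat.testBit_and,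
        Nat.testBit_shiftRight, Nat.testBit_shiftLeft, Nat.one_shiftLeft, Nat.testBit_two_pow, Nat.testBit_two_pow_mul,
        Nat.testBit_bool_toNat]
      by_cases hi : W * n = i
      · have h1 : (fnSt W c n).testBit (r + i) = false := by
          cases hb : (fnSt W c n).testBit (r + i)
          · rfl
          · have := hS _ hb; omega
        rw [h1, show r + i - W * n = r by omega, h n (Nat.lt_succ_self n)]
        simp [← hi]
      · cases hb : (fnSt W (fun _ => 1) n).testBit i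
        · have : ¬ (i ≥ W * n ∧ i - W * n = 0) := by omega
          simp [hi]; omega
        · have := hR i hb
          have h1 : ¬ (r + i ≥ W * n) := by omega
          have h2 : ¬ (i ≥ W * n) := by omega
          simp [h1, h2]
    rw [e, Nat.mod_pow_succ, Nat.toNat_testBit, add_comm, pow_mul]
    exact (ih fun b hb => h b (by omega)).add ((hW.pow n).mul_right _)

/-- bit plane `b` of the table of the inverse permutation of `L` -/
private noncomputable def fnPl (k N : ℕ) (L : Net) (b : ℕ) : ℕ :=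
  fnApp L (Nat.land (plane k b) (Nat.sub (Nat.shiftLeft (nat_lit 1) N) (nat_lit 1)))

/-- the pieces `j` (1024 points) of all planes -/
private noncomputable def fnTab (k N : ℕ) (L : Net) (j : ℕ) : ℕ :=
  fnSt (nat_lit 1024) (fun b => Nat.land (Nat.shiftRight (fnPl k N L b) (Nat.mul (nat_lit 1024) j))
    (Nat.sub (Nat.shiftLeft (nat_lit 1) (nat_lit 1024)) (nat_lit 1))) k

private noncomputable def fnLook (k N : ℕ) (L : Net) (p : ℕ) : ℕ :=
  force (Nat.shiftRight p (nat_lit 10)) fun j =>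
    Nat.mod (Nat.land (Nat.shiftRight (fnTab k N L j) (Nat.land p (nat_lit 1023))) (fnSt (nat_lit 1024) (fun _ => 1) k))
      (nat_lit 2147483647)

private theorem fnLook_eq {k N : ℕ} (hk : k ≤ 30) (hN : N ≤ 2 ^ k) {L : Net} (h : L.ok N = true) {p : ℕ} (hp : p < N) :
    fnLook k N L p = invPt L p := by
  have hv := fnInv_lt h hp
  have hr : p &&& (2 ^ 10 - 1) = p % 2 ^ 10 := Nat.and_two_pow_sub_one_eq_mod p 10
  have hj : p >>> 10 = p / 2 ^ 10 := Nat.shiftRight_eq_div_pow p 10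
  have key : ∀ W : ℕ, W = 1024 → 2 ^ W ≡ 2 [MOD 2147483647] →
      ((fnSt W (fun b => (fnPl k N L b >>> (W * (p >>> 10))) &&& (1 <<< W - 1)) k >>> (p &&& (2 ^ 10 - 1))) &&&
        fnSt W (fun _ => 1) k) % 2147483647 = invPt L p := by
    intro W e hW
    have h1 := fnSt_gather hW (c := fun b => (fnPl k N L b >>> (W * (p >>> 10))) &&& (1 <<< W - 1))
      (fun b => by rw [Nat.one_shiftLeft, Nat.and_two_pow_sub_one_eq_mod]; exact Nat.mod_lt _ (Nat.two_pow_pos W))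
      (r := p &&& (2 ^ 10 - 1)) (by omega) (invPt L p) k (fun b hb => by
        rw [Nat.one_shiftLeft, Nat.testBit_and, Nat.testBit_two_pow_sub_one, Nat.testBit_shiftRight,
          show W * (p >>> 10) + (p &&& (2 ^ 10 - 1)) = p by rw [e]; omega, decide_eq_true (by omega), Bool.and_true]
        show (fnApp L (plane k b &&& (1 <<< N - 1))).testBit p = _
        rw [fnApp_bit h, Nat.one_shiftLeft, Nat.testBit_and, Nat.testBit_two_pow_sub_one, decide_eq_true hv,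
          Bool.and_true, testBit_plane k b _ (by omega) hb])
    have h2 : 2 ^ k ≤ 2 ^ 30 := Nat.pow_le_pow_right (by decide) hk
    rw [Nat.mod_eq_of_lt (show invPt L p < 2 ^ k by omega)] at h1
    rw [show _ % 2147483647 = _ from h1, Nat.mod_eq_of_lt (by omega)]
  delta fnLook
  rw [force_eq]
  exact key (nat_lit 1024) rfl (by decide +kernel)

private noncomputable def fnEv (k N : ℕ) (w : List Net) : ℕ → ℕ :=
  List.rec (motive := fun _ => ℕ → ℕ) (fun p => p) (fun L _ ih p => force (fnLook k N L p) ih) w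

private theorem fnEv_eq {k N : ℕ} (hk : k ≤ 30) (hN : N ≤ 2 ^ k) {w : List Net} (h : WOk N w) {p : ℕ} (hp : p < N) :
    fnEv k N w p = winv w p := by
  induction w generalizing p with
  | nil => rfl
  | cons L w ih =>
    show force (fnLook k N L p) (fnEv k N w) = force (invPt L p) (winv w)
    rw [force_eq, force_eq, fnLook_eq hk hN (h L List.mem_cons_self) hp]
    exact ih (fun K hK => h K (List.mem_cons_of_mem _ hK)) (fnInv_lt (h L List.mem_cons_self) hp)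

/-- `winv` by table look-up -/
private noncomputable def fnInv (k N : ℕ) (w : List Net) (p : ℕ) : ℕ :=
  force p fun q => Bool.rec (winv w q) (fnEv k N w q) (Nat.ble (Nat.succ q) N)

private theorem fnInv_eq {k N : ℕ} (hk : k ≤ 30) (hN : N ≤ 2 ^ k) {w : List Net} (h : WOk N w) (p : ℕ) :
    winv w p = fnInv k N w p := by
  delta fnInv
  rw [force_eq]
  cases hb : Nat.ble (Nat.succ p) N
  · rfl
  · exact (fnEv_eq hk hN h (Nat.le_of_ble_eq_true hb)).symm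

private noncomputable def fnChk (w : List Net) (q p : ℕ) : Bool :=
  Nat.beq (fnInv (nat_lit 19) (nat_lit 327680) w p) q

open Cfsg.Agent.Fischer.Fi24RepDef in
private theorem fn_chk (l : List Cfsg.Spor.Fi24.Gen) (b : Bool) (q p : ℕ) :
    chkPt (nw l b) q p = fnChk (nw l b) q p := by
  delta fnChk
  rw [← fnInv_eq (by decide) (by decide) (wok l b)]; rfl

private noncomputable def fnEq (u v : List Net) (l : List ℕ) : Bool :=
  List.rec (motive := fun _ => Bool) true (fun p _ ih => Bool.rec false ih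
    (Nat.beq (fnInv (nat_lit 19) (nat_lit 327680) u p) (fnInv (nat_lit 19) (nat_lit 327680) v p))) l

open Cfsg.Agent.Fischer.Fi24RepDef Cfsg.Agent.LThreeFi24.FiveConj in
private noncomputable def fnEqB (u v : List Cfsg.Spor.Fi24.Gen) : Bool := fnEq (nw u false) (nw v false) pl12

open Cfsg.Agent.Fischer.Fi24RepDef Cfsg.Agent.LThreeFi24.FiveConj in
private theorem fn_eqB (u v : List Cfsg.Spor.Fi24.Gen) : eqB u v = fnEqB u v := by
  show eqL (nw u false) (nw v false) pl12 = fnEq (nw u false) (nw v false) pl12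
  generalize pl12 = l
  induction l with
  | nil => rfl
  | cons p l ih =>
    show and (Nat.beq (winv (nw u false) p) (winv (nw v false) p)) (eqL (nw u false) (nw v false) l) =
      (Bool.rec false (fnEq (nw u false) (nw v false) l) (Nat.beq (fnInv (nat_lit 19) (nat_lit 327680) (nw u false) p)
        (fnInv (nat_lit 19) (nat_lit 327680) (nw v false) p)) : Bool)
    rw [ih, ← fnInv_eq (by decide) (by decide) (wok u false), ← fnInv_eq (by decide) (by decide) (wok v false)]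
    cases Nat.beq (winv (nw u false) p) (winv (nw v false) p) <;> rfl

end FastNet

open Cfsg.Agent.Lib.PermNetPt Cfsg.Agent.Fischer.Fi24RepDef
open Cfsg.Agent.Fischer.Fi24Spider (gword)
open Cfsg.Agent.Lib.PackMat (allBelow dg)
open Cfsg.Agent.H834.U5 (gw5 u917 u11793 u11888)
open Cfsg.Agent.LThreeFi24.TwinK (wx3)
open Cfsg.Agent.LThreeFi24.FiveConj (eqB)
open Cfsg.Agent.H842.FrameK (x5w)
open Cfsg.Agent.SB.F24.Md
open Cfsg.Spor.Fi24 (Gen)

def caz1 : List Gen := [.d, .h, .i, .a, .b, .c, .d, .h, .j, .g, .e, .f, .d, .e, .c, .d, .h, .i, .g, .f, .e, .b, .c, .d, .h, .j, .g, .f, .e, .d, .c,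
  .b, .a, .l, .k, .i, .h, .c, .d, .e, .b, .c, .d, .h, .i, .f, .e, .b, .c, .d, .h, .a, .b, .c, .d, .e, .f, .g, .j, .d, .e, .c, .d, .h, .i, .h, .d, .e,
  .c, .d, .h, .a, .b, .c, .d, .e, .f, .g, .b, .c, .d, .h, .e, .f, .d, .e, .c, .d, .h, .i, .b, .c, .d, .h, .e, .d, .c, .b, .a, .f, .d, .e, .c, .d, .h,
  .b, .c, .d, .e, .f, .e, .d, .h, .c, .d, .e, .b, .c, .d, .h, .b, .c, .d, .e, .b]

def caz2 : List Gen := [.g, .f, .e, .d, .h, .i, .c, .d, .h, .e, .f, .b, .c, .d, .e, .k, .a, .b, .c, .d, .h, .i, .f, .c, .d, .e, .b, .c, .d, .h, .g,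
  .f, .e, .d, .c, .b, .a, .l, .k, .h, .d, .e, .b, .c, .d, .h, .i, .f, .e, .c, .d, .h, .a, .b, .c, .d, .e, .f, .g, .j, .h, .i, .f, .e, .a, .b, .c, .d,
  .h, .e, .f, .c, .d, .e, .b, .c, .d, .h, .i, .f, .e, .b, .c, .d, .h, .a, .b, .c, .d, .e, .f, .g, .i, .h, .d, .e, .b, .c, .d, .h, .i, .a, .d, .h, .c,
  .d, .e, .f, .h, .d, .e, .c, .d, .c, .l]

def ca1 : List Gen := [.f, .e, .c, .d, .h, .i, .g, .f, .e, .d, .h, .j, .g, .f, .e, .d, .c, .a, .b, .k, .a, .l, .k, .h, .f, .c, .d, .e, .a, .b, .c, .d,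
  .h, .i, .g, .f, .e, .b, .c, .d, .h, .a, .b, .c, .d, .e, .f, .g, .j, .e, .d, .h, .i, .c, .d, .h, .e, .f, .d, .e, .c, .d, .h, .i, .g, .f, .e, .b, .c,
  .d, .h, .a, .b, .c, .d, .e, .f, .g, .f, .e, .a, .b, .c, .d, .h, .i, .f, .e, .d, .c, .b, .a, .b, .c, .d, .e, .f, .h, .c, .d, .e, .b, .c, .d, .h, .e,
  .c, .d, .b, .l]

def ca2 : List Gen := [.e, .c, .d, .h, .e, .f, .c, .d, .e, .b, .c, .d, .h, .i, .g, .f, .d, .e, .c, .d, .h, .j, .g, .f, .e, .d, .c, .b, .a, .l, .k, .i,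
  .h, .j, .g, .f, .d, .e, .c, .d, .h, .i, .d, .e, .b, .c, .d, .h, .a, .b, .c, .d, .e, .f, .g, .j, .b, .c, .d, .h, .i, .f, .e, .d, .h, .a, .b, .c, .d,
  .e, .f, .g, .i, .h, .f, .d, .e, .c, .d, .h, .i, .h, .e, .d, .c, .b, .a, .c, .d, .h, .e, .f, .d, .e, .c, .d, .h, .b, .c, .d, .e, .f, .h, .d, .e, .b,
  .c, .d, .h, .b, .c, .d, .e, .c, .l]

def ca3 : List Gen := [.h, .i, .c, .d, .h, .e, .d, .c, .b, .a, .l, .k, .c, .d, .h, .e, .f, .d, .e, .a, .b, .c, .d, .h, .i, .e, .f, .d, .e, .b, .c, .d,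
  .h, .a, .b, .c, .d, .e, .f, .g, .j, .d, .h, .c, .d, .e, .f, .g, .e, .d, .h, .i, .f, .e, .d, .h, .f, .c, .d, .e, .a, .b, .c, .d, .h, .i, .h, .d, .e,
  .f, .h, .c, .d, .e, .b, .c, .d, .h, .c, .b, .l]

def cbz0 : List Gen := [.a, .b, .c, .d, .h, .i, .g, .f, .e, .d, .h, .j, .g, .f, .e, .d, .c, .b, .a, .k, .h, .i, .f, .e, .d, .h, .c, .d, .e, .b, .c,
  .d, .h, .i, .h, .f, .c, .d, .e, .b, .c, .d, .h, .a, .b, .c, .d, .e, .f, .g, .j, .f, .e, .b, .c, .d, .h, .i, .d, .e, .f, .c, .d, .e, .b, .c, .d, .h,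
  .a, .b, .c, .d, .e, .f, .g, .f, .e, .d, .h, .b, .c, .d, .e, .a, .b, .c, .d, .h, .i, .c, .d, .e, .f, .e, .d, .h, .c, .d, .e, .b, .c, .d, .h, .d, .e,
  .d]

def cbz1 : List Gen := [.g, .f, .d, .e, .c, .d, .h, .e, .f, .b, .c, .d, .e, .a, .b, .c, .d, .h, .i, .g, .f, .e, .a, .b, .c, .d, .h, .j, .g, .f, .e,
  .d, .c, .b, .a, .k, .i, .e, .c, .d, .h, .e, .f, .c, .d, .e, .a, .b, .c, .d, .h, .i, .g, .f, .c, .d, .e, .b, .c, .d, .h, .a, .b, .c, .d, .e, .f, .g,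
  .j, .c, .d, .h, .f, .g, .e, .f, .d, .e, .c, .d, .h, .i, .h, .e, .f, .c, .d, .e, .b, .c, .d, .h, .a, .b, .c, .d, .e, .f, .g, .d, .h, .e, .f, .d, .e,
  .a, .b, .c, .d, .h, .i, .c, .b, .a, .d, .h, .b, .c, .d, .e, .f, .h, .e, .b, .c]

def cbz2 : List Gen := [.d, .h, .i, .c, .d, .h, .e, .f, .g, .d, .e, .f, .a, .b, .c, .d, .e, .k, .a, .b, .c, .d, .h, .i, .f, .c, .d, .e, .b, .c, .d,
  .h, .j, .g, .f, .e, .d, .c, .b, .a, .l, .k, .f, .g, .e, .f, .d, .e, .b, .c, .d, .h, .i, .e, .f, .d, .e, .c, .d, .h, .a, .b, .c, .d, .e, .f, .g, .j,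
  .d, .h, .c, .d, .e, .b, .c, .d, .h, .a, .b, .c, .d, .e, .f, .g, .d, .h, .i, .f, .e, .a, .b, .c, .d, .h, .d, .e, .f, .c, .d, .e, .b, .c, .d, .h, .i,
  .d, .h, .f, .e, .d, .c, .b, .a, .f, .h, .c, .d, .b, .c, .b, .l]

def cb1 : List Gen := [.j, .g, .f, .c, .d, .e, .b, .c, .d, .h, .i, .c, .d, .e, .b, .c, .d, .h, .j, .g, .f, .e, .d, .c, .b, .a, .k, .h, .c, .d, .e, .b,
  .c, .d, .h, .f, .g, .e, .f, .d, .e, .c, .d, .h, .b, .c, .d, .e, .f, .g, .j, .i, .e, .d, .h, .f, .c, .d, .e, .b, .c, .d, .h, .i, .e, .f, .c, .d, .e,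
  .b, .c, .d, .h, .a, .b, .c, .d, .e, .f, .g, .e, .b, .c, .d, .h, .e, .f, .c, .d, .e, .a, .b, .c, .d, .h, .i, .c, .b, .a, .h, .b, .c, .d, .e, .f, .e,
  .d, .h, .b, .c, .d, .e]

def cvC : List Gen := [.f, .d, .e, .c, .d, .h, .i, .f, .d, .e, .c, .d, .h, .d, .e, .f, .b, .c, .d, .e, .a, .b, .c, .d, .h, .i, .e, .f, .c, .d, .e, .b,
  .c, .d, .h, .j, .g, .f, .e, .d, .c, .b, .a, .k, .i, .f, .g, .e, .f, .c, .d, .e, .b, .c, .d, .h, .a, .b, .c, .d, .e, .f, .g, .j, .f, .e, .d, .h, .c,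
  .d, .e, .f, .g, .b, .c, .d, .h, .e, .f, .d, .e, .c, .d, .h, .b, .c, .d, .e, .a, .b, .c, .d, .h, .i, .h, .d, .c, .b, .a, .h, .d, .e, .c, .d, .h, .c,
  .d, .b, .c, .l]

private theorem fn_all :
    (fnEqB (caz1 ++ (gew Wa ++ wx3) ++ caz1.reverse) (XW 3).reverse = true) ∧
    (fnEqB (caz2 ++ (gew Wa ++ wx3.reverse) ++ caz2.reverse) (XW 3).reverse = true) ∧
    (fnEqB (ca1 ++ (gew Wa ++ qw [5]) ++ ca1.reverse) (XW 1).reverse = true) ∧
    (fnChk (nw (qw [4] ++ qw [5] ++ (qw [4]).reverse ++ (qw [5]).reverse) false) 2 2 = false) ∧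
    (fnEqB (ca2 ++ (gew Wa ++ qw [4]) ++ ca2.reverse) (XW 4) = true) ∧
    (fnChk (nw (qw [5] ++ qw [4] ++ (qw [5]).reverse ++ (qw [4]).reverse) false) 2 2 = false) ∧
    (fnEqB (ca3 ++ (gew Wa ++ qw [6, 8]) ++ ca3.reverse) (XW 3) = true) ∧
    (fnChk (nw (qw [7, 9] ++ qw [6, 8] ++ (qw [7, 9]).reverse ++ (qw [6, 8]).reverse) false) 2 2 = false) ∧
    (fnEqB (cbz0 ++ (gew Wb) ++ cbz0.reverse) (XW 1).reverse = true) ∧
    (fnEqB (cbz1 ++ (gew Wb ++ wx3) ++ cbz1.reverse) (XW 3) = true) ∧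
    (fnEqB (cbz2 ++ (gew Wb ++ wx3.reverse) ++ cbz2.reverse) (XW 3) = true) ∧
    (fnEqB (cb1 ++ (gew Wb ++ qw [2]) ++ cb1.reverse) (XW 4).reverse = true) ∧
    (fnChk (nw (qw [0, 1, 12, 3] ++ qw [2] ++ (qw [0, 1, 12, 3]).reverse ++ (qw [2]).reverse) false) 2 2 = false) ∧
    (fnChk (nw ((gew Wb ++ qw [2, 7, 19]) ++ (gew Wb ++ qw [2, 7, 19]) ++ (gew Wb ++ qw [2, 7, 19])) false) 2 2 = false) ∧
    (fnChk (nw ((gew Wb ++ qw [2, 17, 9]) ++ (gew Wb ++ qw [2, 17, 9]) ++ (gew Wb ++ qw [2, 17, 9])) false) 2 2 = false) ∧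
    (fnEqB (cvC ++ (qw [0, 12]) ++ cvC.reverse) (XW 1).reverse = true) := by
  decide +kernel

theorem cjaz1 : eqB (caz1 ++ (gew Wa ++ wx3) ++ caz1.reverse) (XW 3).reverse = true :=
  (fn_eqB _ _).trans fn_all.1

theorem cjaz2 : eqB (caz2 ++ (gew Wa ++ wx3.reverse) ++ caz2.reverse) (XW 3).reverse = true :=
  (fn_eqB _ _).trans fn_all.2.1

theorem cja1 : eqB (ca1 ++ (gew Wa ++ qw [5]) ++ ca1.reverse) (XW 1).reverse = true :=
  (fn_eqB _ _).trans fn_all.2.2.1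

theorem nca1 : chkPt (nw (qw [4] ++ qw [5] ++ (qw [4]).reverse ++ (qw [5]).reverse) false) 2 2 = false :=
  (fn_chk _ _ _ _).trans fn_all.2.2.2.1

theorem cja2 : eqB (ca2 ++ (gew Wa ++ qw [4]) ++ ca2.reverse) (XW 4) = true :=
  (fn_eqB _ _).trans fn_all.2.2.2.2.1

theorem nca2 : chkPt (nw (qw [5] ++ qw [4] ++ (qw [5]).reverse ++ (qw [4]).reverse) false) 2 2 = false :=
  (fn_chk _ _ _ _).trans fn_all.2.2.2.2.2.1

theorem cja3 : eqB (ca3 ++ (gew Wa ++ qw [6, 8]) ++ ca3.reverse) (XW 3) = true :=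
  (fn_eqB _ _).trans fn_all.2.2.2.2.2.2.1

theorem nca3 : chkPt (nw (qw [7, 9] ++ qw [6, 8] ++ (qw [7, 9]).reverse ++ (qw [6, 8]).reverse) false) 2 2 = false :=
  (fn_chk _ _ _ _).trans fn_all.2.2.2.2.2.2.2.1

theorem cjbz0 : eqB (cbz0 ++ (gew Wb) ++ cbz0.reverse) (XW 1).reverse = true :=
  (fn_eqB _ _).trans fn_all.2.2.2.2.2.2.2.2.1

theorem cjbz1 : eqB (cbz1 ++ (gew Wb ++ wx3) ++ cbz1.reverse) (XW 3) = true :=
  (fn_eqB _ _).trans fn_all.2.2.2.2.2.2.2.2.2.1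

theorem cjbz2 : eqB (cbz2 ++ (gew Wb ++ wx3.reverse) ++ cbz2.reverse) (XW 3) = true :=
  (fn_eqB _ _).trans fn_all.2.2.2.2.2.2.2.2.2.2.1

theorem cjb1 : eqB (cb1 ++ (gew Wb ++ qw [2]) ++ cb1.reverse) (XW 4).reverse = true :=
  (fn_eqB _ _).trans fn_all.2.2.2.2.2.2.2.2.2.2.2.1

theorem ncb1 : chkPt (nw (qw [0, 1, 12, 3] ++ qw [2] ++ (qw [0, 1, 12, 3]).reverse ++ (qw [2]).reverse) false) 2 2 = false :=
  (fn_chk _ _ _ _).trans fn_all.2.2.2.2.2.2.2.2.2.2.2.2.1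

theorem nib2 : chkPt (nw ((gew Wb ++ qw [2, 7, 19]) ++ (gew Wb ++ qw [2, 7, 19]) ++ (gew Wb ++ qw [2, 7, 19])) false) 2 2 = false :=
  (fn_chk _ _ _ _).trans fn_all.2.2.2.2.2.2.2.2.2.2.2.2.2.1

theorem nib3 : chkPt (nw ((gew Wb ++ qw [2, 17, 9]) ++ (gew Wb ++ qw [2, 17, 9]) ++ (gew Wb ++ qw [2, 17, 9])) false) 2 2 = false :=
  (fn_chk _ _ _ _).trans fn_all.2.2.2.2.2.2.2.2.2.2.2.2.2.2.1

theorem cjvC : eqB (cvC ++ (qw [0, 12]) ++ cvC.reverse) (XW 1).reverse = true :=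
  (fn_eqB _ _).trans fn_all.2.2.2.2.2.2.2.2.2.2.2.2.2.2.2

end Cfsg.Agent.SB.F24.Wd
end

-- part: SB/Mon/F24/RowN
section
set_option linter.all false
open scoped Cfsg.Agent.FastGrp

/-!
# S5765, the row `Fi24'`, `O₂(S ⊓ T) = 1` (helper96)

`boxLoc : BoxLoc`, `rowN_Fi24 : Spor.IsoFi24' K → RowN 2 K`.
-/

set_option autoImplicit false
set_option maxRecDepth 100000

namespace Cfsg.Agent.SB.F24.Wd

open Subgroup Cfsg
open Cfsg.Spor (Fi24)
open Cfsg.Spor.Fi24 (Gen)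
open Cfsg.Agent.Lib.PackMat Cfsg.Agent.Lib.PackMatGroup Cfsg.Agent.Lib.PackMatMul
open Cfsg.Agent.Lib.PermNetPt Cfsg.Agent.Fischer.Fi24RepDef
open Cfsg.Agent.Fischer.Fi24Rep (word gen rho)
open Cfsg.Agent.Fischer.Fi24Spider (word_append)
open Cfsg.Agent.R08.FiTwentyFour (finite_Fi24 index_commutator)
open Cfsg.Agent.KFacts.FiTF.Pts (word_reverse)
open Cfsg.Agent.LThreeFi24.FiveConj (eqB eq_of_eqB word_w)
open Cfsg.Agent.LThreeFi24.SNine (x3)
open Cfsg.Agent.LThreeFi24.TwinK (wx3)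
open Cfsg.Agent.LThreeFi24.CaseB (word_x3)
open Cfsg.Agent.H834.U5 (rho_ne)
open Cfsg.Agent.H842.ThreeCl (X)
open Cfsg.Agent.DS.Sp.F24S (Cl)
open Cfsg.Agent.SB.F24.Md Cfsg.Agent.SB.F24.Md.Mod

theorem word_XW (i : Fin 5) : word (XW i) = X i := by
  fin_cases i
  · show word ([Gen.l] ++ [Gen.k]) = gen .l * gen .k
    rw [word_append, H841.Tri.word_single, H841.Tri.word_single]
  all_goals rfl

theorem cl_pos {i : Fin 5} {c w : List Gen} (h : eqB (c ++ w ++ c.reverse) (XW i) = true) : Cl i (word w) :=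
  ⟨word c, Or.inl (by rw [← word_w, eq_of_eqB h, word_XW])⟩

theorem cl_neg {i : Fin 5} {c w : List Gen} (h : eqB (c ++ w ++ c.reverse) (XW i).reverse = true) : Cl i (word w) :=
  ⟨word c, Or.inr (by rw [← word_w, eq_of_eqB h, word_reverse, word_XW])⟩

theorem not_pt {i : Fin 5} {y : Fi24} (h : Cl i y) (hi : H842.ThreeMain.wd i ≠ H842.ThreeMain.wd 2) : ¬ Cl 2 y := by
  rintro ⟨g, hg⟩
  obtain ⟨k, hk⟩ := h
  exact hi ((H48.OreFi.NineA.width_of hk).symm.trans (H48.OreFi.NineA.width_of hg))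

theorem n0 {y : Fi24} (h : Cl 0 y) : ¬ Cl 2 y := not_pt h (by decide)
theorem n1 {y : Fi24} (h : Cl 1 y) : ¬ Cl 2 y := not_pt h (by decide)
theorem n3 {y : Fi24} (h : Cl 3 y) : ¬ Cl 2 y := not_pt h (by decide)
theorem n4 {y : Fi24} (h : Cl 4 y) : ¬ Cl 2 y := not_pt h (by decide)

theorem pt_cube {p : Fi24} (h : Cl 2 p) : p ^ 3 = 1 := by
  obtain ⟨g, hg⟩ := h
  have h3 := H842.ThreeMain.X_cube 2
  have h1 : (g * p * g⁻¹) ^ 3 = 1 := by
    rcases hg with hg | hg <;> rw [hg]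
    · exact h3
    · rw [inv_pow, h3, inv_one]
  rw [conj_pow] at h1
  simpa using h1

theorem pt_inv {p : Fi24} (h : Cl 2 p) : Cl 2 p⁻¹ := by
  obtain ⟨g, hg⟩ := h
  refine ⟨g, ?_⟩
  rw [show g * p⁻¹ * g⁻¹ = (g * p * g⁻¹)⁻¹ by group]
  rcases hg with hg | hg <;> rw [hg]
  exacts [Or.inr rfl, Or.inl (inv_inv _)]

theorem ne_one {w : List Gen} {p : ℕ} (h : chkPt (nw w false) p p = false) : word w ≠ 1 := fun k =>
  rho_ne h (by rw [k, map_one, Equiv.Perm.one_apply])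

theorem dnine {s l R} {p : ℕ} (hs : word s ∈ DM.S) (h1 : vlB l R = true)
    (h2 : chkPt (nw ((s ++ qw l) ++ (s ++ qw l) ++ (s ++ qw l)) false) p p = false) : DM.Dead (Cl 2) (word s) R := by
  refine dead_nine pt_cube hs (qw_spec h1).1 (qw_spec h1).2 ?_
  have h := ne_one h2
  rwa [word_append, word_append, ← pow_three', word_append] at h

theorem dns {s l l' R Y M} {p : ℕ} (hs : DM.Rep (word s) M) (h1 : vlB l R = true) (h2 : vlB l' Y = true)
    (h3 : okR C Y = true ∧ Nat.beq (st Y M) Y = true)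
    (h4 : chkPt (nw (qw l' ++ qw l ++ (qw l').reverse ++ (qw l).reverse) false) p p = false)
    (h5 : ¬ Cl 2 (word (s ++ qw l))) : DM.Dead (Cl 2) (word s) R := by
  refine dead_ns (fun h g => h.conj g) hs.1 (qw_spec h1).1 (qw_spec h2).1 (qw_spec h1).2
    (hs.comm (okR_spec h3.1) h3.2 (qw_spec h2).1 (qw_spec h2).2) (fun k => ne_one h4 ?_) (word_append _ _ ▸ h5)
  rw [word_append, word_append, word_append, word_reverse, word_reverse, k]
  group

theorem rp {w : List ℕ} {A : ℕ} (h : okW MG.length w = true ∧ Nat.beq (evL mu MG w c1) A = true) :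
    DM.Rep (word (gew w)) A := ev_gew w ▸ (rep_ev rep_ge h.1).of_beq h.2

theorem wz (s : List Gen) : word (s ++ wx3) = word s * DM.z := by
  rw [word_append, ← word_x3]
  rfl

theorem wz' (s : List Gen) : word (s ++ wx3.reverse) = word s * DM.z⁻¹ := by
  rw [word_append, word_reverse, ← word_x3]
  rfl

theorem vls : vlB [3] Rr1 = true ∧ vlB [1, 3] Rr2 = true ∧ vlB [1, 3, 6] Rr3 = true ∧ vlB [2] Yr3 = true ∧
    vlB [2] Rt1 = true ∧ vlB [5] Rt2 = true ∧ vlB [1, 14, 19] Yt2 = true ∧ vlB [2, 5] Rt3 = true ∧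
    vlB [5] Ra1 = true ∧ vlB [4] Ya1 = true ∧ vlB [4] Ra2 = true ∧ vlB [5] Ya2 = true ∧ vlB [6, 8] Ra3 = true ∧
    vlB [7, 9] Ya3 = true ∧ vlB [2] Rb1 = true ∧ vlB [0, 1, 12, 3] Yb1 = true ∧ vlB [2, 7, 19] Rb2 = true ∧
    vlB [2, 17, 9] Rb3 = true ∧ vlB [5, 16, 18] v0 = true ∧ vlB [2] vA = true ∧ vlB [0, 12] vC = true ∧
    vlB [0, 3, 5] vD = true := by
  refine ⟨?_, ?_, ?_, ?_, ?_, ?_, ?_, ?_, ?_, ?_, ?_, ?_, ?_, ?_, ?_, ?_, ?_, ?_, ?_, ?_, ?_, ?_⟩ <;> decide +kernel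

theorem cert : Cert DM (commutator Fi24) (Cl 2) geL (word rw) (word (gew Wt)) (word (gew Wa)) (word (gew Wb)) := by
  obtain ⟨v1, v2, v3, v4, v5, v6, v7, v8, v9, v10, v11, v12, v13, v14, v15, v16, v17, v18, v19, v20, v21, v22⟩ := vls
  have hr : DM.Rep (word rw) Mr := eq_of_eqB eq_r ▸ rp ev_r
  have ht := rp ev_t
  have ha := rp ev_a
  have hb := rp ev_b
  have c0 : Cl 0 (word (XW 0)) := ⟨1, Or.inl (by rw [one_mul, inv_one, mul_one, word_XW])⟩
  exact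
  { cube := pt_cube
    inv := pt_inv
    conj := fun h g => h.conj g
    nT := inferInstance
    odd := fun g n hn h => by
      obtain ⟨k, rfl⟩ := hn
      have h1 := pow_mem (mul_self_mem_of_index_two index_commutator g) (k + 1)
      rwa [← pow_two, ← pow_mul, show 2 * (k + 1) = 2 * k + 1 + 1 by ring, pow_succ, h, one_mul] at h1
    hG := rep_ge
    hr := hr
    ht := ht
    ha := ha
    hb := hb
    dr := ⟨dnine hr.1 v1 nir1, dnine hr.1 v2 nir2, dns hr v3 v4 fx_r3 ncr3 (n3 (cl_neg cjr3))⟩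
    dt := ⟨dnine ht.1 v5 nit1, dns ht v6 v7 fx_t2 nct2 (n3 (cl_pos cjt2)), dnine ht.1 v8 nit3⟩
    da := ⟨dns ha v9 v10 fx_a1 nca1 (n1 (cl_neg cja1)), dns ha v11 v12 fx_a2 nca2 (n4 (cl_pos cja2)),
      dns ha v13 v14 fx_a3 nca3 (n3 (cl_pos cja3))⟩
    db := ⟨dns hb v15 v16 fx_b1 ncb1 (n4 (cl_neg cjb1)), dnine hb.1 v17 nib2, dnine hb.1 v18 nib3⟩
    nr := ⟨n0 (by rw [Wd.rw, word_w]; exact c0.conj _), wz' _ ▸ n1 (cl_neg cjrz2)⟩
    nt := ⟨wz _ ▸ n1 (cl_pos cjtz1), wz' _ ▸ n3 (cl_neg cjtz2)⟩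
    na := ⟨n0 c0, wz _ ▸ n3 (cl_neg cjaz1), wz' _ ▸ n3 (cl_neg cjaz2)⟩
    nb := ⟨n1 (cl_neg cjbz0), wz _ ▸ n3 (cl_pos cjbz1), wz' _ ▸ n3 (cl_pos cjbz2)⟩
    pz := ⟨1, Or.inl (by rw [one_mul, inv_one, mul_one]; exact word_x3)⟩
    p0 := ⟨_, (qw_spec v19).1, (qw_spec v19).2, cl_pos cjv0⟩
    pA := ⟨_, (qw_spec v20).1, (qw_spec v20).2, n0 (cl_pos cjvA)⟩
    pC := ⟨_, (qw_spec v21).1, (qw_spec v21).2, n1 (cl_neg cjvC)⟩
    pD := ⟨_, (qw_spec v22).1, (qw_spec v22).2, n3 (cl_neg cjvD)⟩ }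

end Cfsg.Agent.SB.F24.Wd

namespace Cfsg.Agent.SB.F24

theorem boxLoc : BoxLoc := by
  have := R08.FiTwentyFour.finite_Fi24
  exact Wd.cert.loc

end Cfsg.Agent.SB.F24

private theorem dce_3cfa941c47e6 : _root_.True := by
  try have : _root_.True := by simp only [_root_.Cfsg.Agent.SB.F24.Wd.rw.eq_1]
  exact _root_.True.intro
end
end
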